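import Mathlib

/-! The arithmetic behind coherence: integer matrices with Gram matrix `A J + I`. -/

set_option autoImplicit false

namespace Cfsg.Agent.Lib.Perm.FeitArith

variable {ι R : Type*} [Fintype ι] [Fintype R] [DecidableEq R]

theorem card_le_of_gram (m : ι → R → ℤ) (A : ℤ) (hA : 0 ≤ A)
    (h : ∀ i j, ∑ x, m x i * m x j = A + if i = j then 1 else 0) :
    Fintype.card R ≤ Fintype.card ι := by
  let f : (R → ℚ) →ₗ[ℚ] (ι → ℚ) :=
    { toFun := fun v x => ∑ i, (m x i : ℚ) * v i
      map_add' := fun v w => funext fun x => by simp [mul_add, Finset.sum_add_distrib]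
      map_smul' := fun c v => funext fun x => by simp [Finset.mul_sum, mul_left_comm] }
  have hf : Function.Injective f := by
    rw [injective_iff_map_eq_zero]
    intro v hv
    have hgram : ∀ i j, ∑ x, (m x i : ℚ) * m x j = (A : ℚ) + if i = j then 1 else 0 := fun i j => by
      exact_mod_cast h i j
    have e : ∑ x, (f v x) ^ 2 = (A : ℚ) * (∑ i, v i) ^ 2 + ∑ i, v i ^ 2 := by
      have hfv : ∀ x, f v x = ∑ i, (m x i : ℚ) * v i := fun x => rfl
      simp only [hfv, pow_two, Finset.sum_mul_sum]
      rw [Finset.sum_comm]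
      simp_rw [Finset.sum_comm (γ := ι)]
      have : ∀ i j, ∑ x, (m x i : ℚ) * v i * ((m x j : ℚ) * v j) =
          ((A : ℚ) + if i = j then 1 else 0) * (v i * v j) := fun i j => by
        rw [← hgram, Finset.sum_mul]
        exact Finset.sum_congr rfl fun x _ => by ring
      simp only [this, add_mul, ite_mul, one_mul, zero_mul, Finset.sum_add_distrib,
        Finset.sum_ite_eq, Finset.mem_univ, if_true, Finset.mul_sum]
    rw [hv] at e
    simp only [Pi.zero_apply, ne_eq, OfNat.ofNat_ne_zero, not_false_eq_true, zero_pow,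
      Finset.sum_const_zero] at e
    have h1 : 0 ≤ (A : ℚ) * (∑ i, v i) ^ 2 := mul_nonneg (by exact_mod_cast hA) (sq_nonneg _)
    have h2 : ∑ i, v i ^ 2 = 0 := le_antisymm (by linarith) (Finset.sum_nonneg fun i _ => sq_nonneg _)
    funext i
    exact sq_eq_zero_iff.mp ((Finset.sum_eq_zero_iff_of_nonneg fun i _ => sq_nonneg _).mp h2 i
      (Finset.mem_univ i))
  have := LinearMap.finrank_le_finrank_of_injective hf
  rwa [Module.finrank_fintype_fun_eq_card, Module.finrank_fintype_fun_eq_card] at this

/-- The spread of a two-valued vector. -/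
theorem spread_eq (v : R → ℤ) (a : ℤ) (hv : ∀ i, v i = a ∨ v i = a + 1) :
    ∑ i, ∑ j, (v i - v j) ^ 2 = 2 * ((Finset.univ.filter fun i => v i = a + 1).card : ℤ) *
      ((Fintype.card R : ℤ) - (Finset.univ.filter fun i => v i = a + 1).card) := by
  have hv' : ∀ i, v i = a + if v i = a + 1 then 1 else 0 := fun i => by
    split_ifs with h
    · exact h
    · simpa using (hv i).resolve_right h
  have : ∀ i j, (v i - v j) ^ 2 = (if v i = a + 1 then (1 : ℤ) else 0) + (if v j = a + 1 then 1 else 0)
      - 2 * (if v i = a + 1 then (1 : ℤ) else 0) * (if v j = a + 1 then 1 else 0) := by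
    intro i j
    conv_lhs => rw [hv' i, hv' j]
    split_ifs <;> ring
  simp only [this, Finset.sum_sub_distrib, Finset.sum_add_distrib, Finset.sum_const, Finset.card_univ,
    nsmul_eq_mul, ← Finset.mul_sum, ← Finset.sum_mul, Finset.sum_boole]
  push_cast
  ring

/-- Integer vectors, none of them constant, with Gram matrix `A J + I`. -/
theorem coherent (hr : 3 ≤ Fintype.card R) (m : ι → R → ℤ) (A : ℤ) (hA : 0 ≤ A)
    (h : ∀ i j, ∑ x, m x i * m x j = A + if i = j then 1 else 0)
    (hnc : ∀ x, ∃ i j, m x i ≠ m x j) :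
    ∀ x, ∃ s : ℤ, A = Fintype.card R * s ^ 2 + 2 * s ∧
      (∑ i, m x i) ^ 2 = (Fintype.card R * s + 1) ^ 2 := by
  classical
  set r := Fintype.card R with hrdef
  have hdiff : ∀ i j, ∑ x, (m x i - m x j) ^ 2 = if i = j then 0 else 2 := by
    intro i j
    calc ∑ x, (m x i - m x j) ^ 2 = ∑ x, (m x i * m x i + m x j * m x j - 2 * (m x i * m x j)) :=
          Finset.sum_congr rfl fun x _ => by ring
      _ = _ := by
          rw [Finset.sum_sub_distrib, Finset.sum_add_distrib, ← Finset.mul_sum, h, h, h]
          split_ifs <;> simp_all <;> ring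
  have : Nonempty R := Fintype.card_pos_iff.mp (by omega)
  choose lo hlo using fun x => Finite.exists_min (m x)
  have htwo : ∀ x i, m x i = m x (lo x) ∨ m x i = m x (lo x) + 1 := by
    intro x i
    have h1 : (m x i - m x (lo x)) ^ 2 ≤ 2 := by
      refine (Finset.single_le_sum (f := fun y => (m y i - m y (lo x)) ^ 2) (fun y _ => sq_nonneg _)
        (Finset.mem_univ x)).trans ?_
      rw [hdiff]
      split_ifs <;> norm_num
    have h2 := hlo x i
    rcases (by omega : m x i = m x (lo x) ∨ m x i = m x (lo x) + 1 ∨ m x (lo x) + 2 ≤ m x i) with e | e | e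
    · exact Or.inl e
    · exact Or.inr e
    · nlinarith
  let S : ι → Finset R := fun x => Finset.univ.filter fun i => m x i = m x (lo x) + 1
  let w : ι → ℤ := fun x => 2 * ((S x).card : ℤ) * ((r : ℤ) - (S x).card)
  have hS : ∀ x, 1 ≤ (S x).card ∧ (S x).card + 1 ≤ r := by
    intro x
    constructor
    · obtain ⟨i, j, hij⟩ := hnc x
      rw [Finset.one_le_card]
      by_cases hi : m x i = m x (lo x) + 1
      · exact ⟨i, Finset.mem_filter.mpr ⟨Finset.mem_univ _, hi⟩⟩
      · refine ⟨j, Finset.mem_filter.mpr ⟨Finset.mem_univ _, (htwo x j).resolve_left fun e => hij ?_⟩⟩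
        rw [(htwo x i).resolve_right hi, e]
    · have hlt : (S x).card < (Finset.univ : Finset R).card := Finset.card_lt_card
        (Finset.filter_ssubset.mpr ⟨lo x, Finset.mem_univ _, by omega⟩)
      rw [Finset.card_univ] at hlt
      omega
  have hwlow : ∀ x, 2 * ((r : ℤ) - 1) ≤ w x := by
    intro x
    obtain ⟨h1, h2⟩ := hS x
    have h1' : (1 : ℤ) ≤ (S x).card := by exact_mod_cast h1
    have h2' : ((S x).card : ℤ) + 1 ≤ r := by exact_mod_cast h2
    simp only [w]
    nlinarith [mul_nonneg (sub_nonneg.mpr h1') (by linarith : (0 : ℤ) ≤ r - (S x).card - 1)]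
  have hwsum : ∑ x, w x = 2 * (r : ℤ) * (r - 1) := by
    have e : ∀ x, w x = ∑ i, ∑ j, (m x i - m x j) ^ 2 := fun x => (spread_eq _ _ (htwo x)).symm
    simp only [e]
    rw [Finset.sum_comm]
    simp_rw [Finset.sum_comm (γ := ι), hdiff]
    have : ∀ i : R, ∑ j, (if i = j then (0 : ℤ) else 2) = 2 * (r - 1) := fun i => by
      have e2 : ∀ j, (if i = j then (0 : ℤ) else 2) = 2 - if i = j then 2 else 0 := fun j => by
        split_ifs <;> ring
      simp only [e2, Finset.sum_sub_distrib, Finset.sum_const, Finset.card_univ, nsmul_eq_mul,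
        Finset.sum_ite_eq, Finset.mem_univ, if_true, ← hrdef]
      ring
    rw [Finset.sum_congr rfl fun i _ => this i, Finset.sum_const, Finset.card_univ, ← hrdef, nsmul_eq_mul]
    ring
  have hk : (r : ℤ) ≤ Fintype.card ι := by exact_mod_cast card_le_of_gram m A hA h
  have heq : ∀ x, w x = 2 * ((r : ℤ) - 1) := by
    intro x
    refine le_antisymm ?_ (hwlow x)
    have h1 : ∑ y ∈ Finset.univ.erase x, 2 * ((r : ℤ) - 1) ≤ ∑ y ∈ Finset.univ.erase x, w y :=
      Finset.sum_le_sum fun y _ => hwlow y
    rw [← Finset.add_sum_erase _ _ (Finset.mem_univ x)] at hwsum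
    rw [Finset.sum_const, Finset.card_erase_of_mem (Finset.mem_univ x), Finset.card_univ, nsmul_eq_mul] at h1
    have hk1 : 1 ≤ Fintype.card ι := Fintype.card_pos_iff.mpr ⟨x⟩
    push_cast [Nat.cast_sub hk1] at h1
    have h3 : (3 : ℤ) ≤ r := by exact_mod_cast hr
    nlinarith [mul_le_mul_of_nonneg_right hk (by linarith : (0 : ℤ) ≤ (r : ℤ) - 1)]
  -- each vector is constant up to one entry
  have hform : ∀ x, ∃ (p : R) (σ a : ℤ), σ ^ 2 = 1 ∧ ∀ i, m x i = a + σ * if p = i then 1 else 0 := by
    intro x
    obtain ⟨h1, h2⟩ := hS x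
    have h3 := heq x
    simp only [w] at h3
    have h4 : (((S x).card : ℤ) - 1) * ((r : ℤ) - (S x).card - 1) = 0 := by
      have h6 : 2 * ((((S x).card : ℤ) - 1) * ((r : ℤ) - (S x).card - 1)) = 0 := by linear_combination h3
      linarith
    rcases mul_eq_zero.mp h4 with h5 | h5
    · have : (S x).card = 1 := by omega
      obtain ⟨p, hp⟩ := Finset.card_eq_one.mp this
      refine ⟨p, 1, m x (lo x), one_pow 2, fun i => ?_⟩
      have hiff : m x i = m x (lo x) + 1 ↔ i = p := by
        rw [show i = p ↔ i ∈ S x by rw [hp, Finset.mem_singleton]]; simp [S]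
      rcases eq_or_ne p i with rfl | hne
      · simpa using hiff.mpr rfl
      · simpa [hne] using (htwo x i).resolve_right fun e => hne (hiff.mp e).symm
    · have hc : (S x)ᶜ.card = 1 := by rw [Finset.card_compl, ← hrdef]; omega
      obtain ⟨p, hp⟩ := Finset.card_eq_one.mp hc
      refine ⟨p, -1, m x (lo x) + 1, by norm_num, fun i => ?_⟩
      have hiff : ¬ m x i = m x (lo x) + 1 ↔ i = p := by
        rw [show i = p ↔ i ∈ (S x)ᶜ by rw [hp, Finset.mem_singleton]]; simp [S]
      rcases eq_or_ne p i with rfl | hne
      · have := (htwo x p).resolve_right (hiff.mpr rfl)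
        simp [this]
      · have : m x i = m x (lo x) + 1 := by
          by_contra e
          exact hne (hiff.mp e).symm
        simp [hne, this]
  choose p σ a hσ hm using hform
  let c : R → ℤ := fun i => ∑ x, if p x = i then 1 else 0
  have hcij : ∀ i j, i ≠ j → c i + c j = 2 := by
    intro i j hij
    have := hdiff i j
    rw [if_neg hij] at this
    rw [← this, ← Finset.sum_add_distrib]
    refine Finset.sum_congr rfl fun x _ => ?_
    rw [hm, hm]
    split_ifs with e1 e2 e2
    · exact absurd (e1.symm.trans e2) hij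
    · ring_nf; rw [hσ]
    · ring_nf; rw [hσ]
    · ring
  have hc1 : ∀ i, c i = 1 := by
    intro i
    obtain ⟨j, hj, l, hl, hjl⟩ := Finset.one_lt_card.mp (show 1 < (Finset.univ.erase i).card by
      rw [Finset.card_erase_of_mem (Finset.mem_univ i), Finset.card_univ, ← hrdef]; omega)
    have h1 := hcij i j (Ne.symm (Finset.ne_of_mem_erase hj))
    have h2 := hcij i l (Ne.symm (Finset.ne_of_mem_erase hl))
    have h3 := hcij j l hjl
    linarith
  have hsingle : ∀ i, ∃ x, Finset.univ.filter (fun y => p y = i) = {x} := by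
    intro i
    rw [← Finset.card_eq_one]
    have := hc1 i
    simp only [c, Finset.sum_boole] at this
    exact_mod_cast this
  choose q hq using hsingle
  have hqp : ∀ x, q (p x) = x := fun x => by
    have : x ∈ Finset.univ.filter fun y => p y = p x := by simp
    rw [hq, Finset.mem_singleton] at this
    exact this.symm
  have hpq : ∀ i, p (q i) = i := fun i => by
    have : q i ∈ Finset.univ.filter fun y => p y = i := by rw [hq]; exact Finset.mem_singleton_self _
    exact (Finset.mem_filter.mp this).2
  let e : ι ≃ R := ⟨p, q, hqp, hpq⟩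
  let Q : ℤ := ∑ x, a x ^ 2
  let g : R → ℤ := fun i => σ (q i) * a (q i)
  have hgram : ∀ i j, ∑ x, m x i * m x j = Q + g i + g j + if i = j then 1 else 0 := by
    intro i j
    calc ∑ x, m x i * m x j = ∑ x, (a x ^ 2 + (if p x = i then σ x * a x else 0)
          + (if p x = j then σ x * a x else 0) + if p x = i ∧ p x = j then 1 else 0) := by
          refine Finset.sum_congr rfl fun x _ => ?_
          rw [hm, hm]
          by_cases e1 : p x = i
          · by_cases e2 : p x = j
            · simp only [if_pos e1, if_pos e2, if_pos (And.intro e1 e2)]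
              linear_combination hσ x
            · simp only [if_pos e1, if_neg e2, if_neg fun h : p x = i ∧ p x = j => e2 h.2]
              ring
          · by_cases e2 : p x = j
            · simp only [if_neg e1, if_pos e2, if_neg fun h : p x = i ∧ p x = j => e1 h.1]
              ring
            · simp only [if_neg e1, if_neg e2, if_neg fun h : p x = i ∧ p x = j => e1 h.1]
              ring
      _ = _ := by
          simp only [Finset.sum_add_distrib]
          have e1 : ∀ k, ∑ x, (if p x = k then σ x * a x else 0) = g k := fun k => by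
            rw [← Finset.sum_filter, hq, Finset.sum_singleton]
          rw [e1, e1]
          congr 1
          split_ifs with hij
          · subst hij
            simp only [and_self]
            exact hc1 i
          · exact Finset.sum_eq_zero fun x _ => if_neg fun e => hij (e.1.symm.trans e.2)
  have hpair : ∀ i j, Q + g i + g j = A := fun i j => by
    have := (hgram i j).symm.trans (h i j)
    linarith
  intro x
  refine ⟨g (p x), ?_, ?_⟩
  · have hQ : Q = r * g (p x) ^ 2 := by
      calc Q = ∑ i, a (q i) ^ 2 := (e.symm.sum_comp fun y => a y ^ 2).symm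
        _ = ∑ i : R, g (p x) ^ 2 := Finset.sum_congr rfl fun i _ => by
            have h1 : g i = g (p x) := by linarith [hpair i i, hpair (p x) (p x)]
            rw [← h1]
            simp only [g, mul_pow, hσ, one_mul]
        _ = _ := by rw [Finset.sum_const, Finset.card_univ, ← hrdef, nsmul_eq_mul]
    linarith [hpair (p x) (p x)]
  · have hsum : ∑ i, m x i = r * a x + σ x := by
      simp only [hm, mul_ite, mul_one, mul_zero, Finset.sum_add_distrib, Finset.sum_const,
        Finset.card_univ, nsmul_eq_mul, Finset.sum_ite_eq, Finset.mem_univ, if_true, ← hrdef]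
    simp only [g, hqp, hsum]
    linear_combination (1 - (r : ℤ) ^ 2 * a x ^ 2) * hσ x

end Cfsg.Agent.Lib.Perm.FeitArith
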