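import Mathlib
import Cfsg.Agent.Lib.Perm.AffineCoords

/-! The action of a two-point stabiliser on an abelian kernel. -/

set_option autoImplicit false

namespace Cfsg.Agent.Lib.Perm.KernelAction

open MulAction
open Cfsg.Agent.Lib.Perm.Zassenhaus Cfsg.Agent.Lib.Perm.AffineCoords

universe u v

variable {G : Type u} {Ω : Type v} [Group G] [MulAction G Ω] {T : Subgroup G} {p o : Ω}

/-- Only the trivial element of the kernel is centralised by a non-trivial element of the two-point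
stabiliser. -/
theorem eq_one_of_conj_eq (h3 : FixAtMostTwo G Ω) (hT : IsKernel T p) (ho : o ≠ p) {h t : G}
    (hh : h ∈ stabilizer G p ⊓ stabilizer G o) (h1 : h ≠ 1) (ht : t ∈ T) (he : h * t * h⁻¹ = t) :
    t = 1 := by
  obtain ⟨hp, ho'⟩ := Subgroup.mem_inf.mp hh
  have hne : t • o ≠ p := hT.smul_ne ho ⟨t, ht⟩
  have hfix : h • (t • o) = t • o := by
    rw [← mul_smul, mul_inv_eq_iff_eq_mul.mp he, mul_smul, mem_stabilizer_iff.mp ho']
  by_contra htne
  have hto : t • o ≠ o := fun e => htne (congrArg Subtype.val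
    (hT.eq_of_smul_eq ho (s := ⟨t, ht⟩) (t := 1) (by simpa using e)))
  exact h1 (h3 h p o (t • o) (Ne.symm ho) (Ne.symm hto) (Ne.symm hne) hp ho' hfix)

/-- An involution of the two-point stabiliser inverts the kernel. -/
theorem conj_eq_inv_of_involution (h3 : FixAtMostTwo G Ω) (hT : IsKernel T p) (ho : o ≠ p) {h t : G}
    (hh : h ∈ stabilizer G p ⊓ stabilizer G o) (h1 : h ≠ 1) (h2 : h * h = 1) (ht : t ∈ T) :
    h * t * h⁻¹ = t⁻¹ := by
  have hc := hT.conj_mem h (Subgroup.mem_inf.mp hh).1 t ht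
  have hw : h * (t * (h * t * h⁻¹)) * h⁻¹ = t * (h * t * h⁻¹) := by
    rw [show h * (t * (h * t * h⁻¹)) * h⁻¹ = (h * t * h⁻¹) * ((h * h) * t * (h * h)⁻¹) by group, h2,
      one_mul, inv_one, mul_one, hT.comm _ hc _ ht]
  exact eq_inv_of_mul_eq_one_right (eq_one_of_conj_eq h3 hT ho hh h1 (mul_mem ht hc) hw)

/-- The two-point stabiliser has at most one involution. -/
theorem involution_unique (h3 : FixAtMostTwo G Ω) (hT : IsKernel T p) (ho : o ≠ p)
    {e : Ω} (hep : e ≠ p) (heo : e ≠ o) {u v : G}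
    (hu : u ∈ stabilizer G p ⊓ stabilizer G o) (hu1 : u ≠ 1) (hu2 : u * u = 1)
    (hv : v ∈ stabilizer G p ⊓ stabilizer G o) (hv1 : v ≠ 1) (hv2 : v * v = 1) : u = v := by
  obtain ⟨⟨t, ht⟩, hte⟩ := (hT.regular o e ho hep).exists
  obtain ⟨hvp, hvo⟩ := Subgroup.mem_inf.mp hv
  obtain ⟨hup, huo⟩ := Subgroup.mem_inf.mp hu
  have key : ∀ w ∈ stabilizer G p ⊓ stabilizer G o, w ≠ 1 → w * w = 1 → w • e = t⁻¹ • o := by
    intro w hw hw1 hw2
    rw [← hte, ← mul_smul, mul_inv_eq_iff_eq_mul.mp (conj_eq_inv_of_involution h3 hT ho hw hw1 hw2 ht),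
      mul_smul, mem_stabilizer_iff.mp (Subgroup.mem_inf.mp hw).2]
  obtain ⟨hp, ho'⟩ := Subgroup.mem_inf.mp (mul_mem (inv_mem hv) hu)
  exact (inv_mul_eq_one.mp (h3 _ p o e (Ne.symm ho) (Ne.symm heo) (Ne.symm hep) hp ho'
    (by rw [mul_smul, key u hu hu1 hu2, inv_smul_eq_iff, key v hv hv1 hv2]))).symm

theorem exists_rep_aux {H : Type*} [Group H] {V : Type u} [AddCommGroup V] [Finite V] {ℓ j : ℕ}
    [Fact ℓ.Prime] (ρ : H → V →+ V) (h1 : ∀ v, ρ 1 v = v) (hm : ∀ g h v, ρ (g * h) v = ρ g (ρ h v))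
    (hexp : ∀ v : V, ℓ • v = 0) (hcard : Nat.card V = ℓ ^ j)
    (hfpf : ∀ h, h ≠ 1 → ∀ v, ρ h v = v → v = 0) (hinv : ∀ h, h ≠ 1 → h * h = 1 → ∀ v, ρ h v = -v) :
    ∃ (V : Type u) (_ : AddCommGroup V) (_ : Module (ZMod ℓ) V) (_ : Finite V)
      (R : H →* Module.End (ZMod ℓ) V),
      Module.finrank (ZMod ℓ) V = j ∧ (∀ h, h ≠ 1 → ∀ v, R h v = v → v = 0) ∧
      ∀ h, h ≠ 1 → h * h = 1 → R h = -1 := by
  have : Module (ZMod ℓ) V := AddCommGroup.zmodModule hexp
  let F : H → Module.End (ZMod ℓ) V := fun h => (ρ h).toZModLinearMap ℓ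
  have e1 : F 1 = 1 := LinearMap.ext fun v => h1 v
  have e2 : ∀ g h, F (g * h) = F g * F h := fun g h => LinearMap.ext fun v => hm g h v
  let R : H →* Module.End (ZMod ℓ) V := MonoidHom.mk ⟨F, e1⟩ e2
  refine ⟨V, inferInstance, inferInstance, inferInstance, R, ?_, hfpf,
    fun h h1 h2 => LinearMap.ext fun v => hinv h h1 h2 v⟩
  have := Fintype.ofFinite V
  have h := Module.card_eq_pow_finrank (K := ZMod ℓ) (V := V)
  rw [ZMod.card, ← Nat.card_eq_fintype_card, hcard] at h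
  exact (Nat.pow_right_injective (Fact.out : ℓ.Prime).two_le h).symm

/-- The two-point stabiliser acting on the kernel by conjugation. -/
theorem exists_rep (h3 : FixAtMostTwo G Ω) (hT : IsKernel T p) (ho : o ≠ p) [Fintype Ω] [Finite G]
    {ℓ j : ℕ} [Fact ℓ.Prime] (hexp : ∀ t ∈ T, t ^ ℓ = 1) (hcard : Fintype.card Ω = ℓ ^ j + 1) :
    ∃ (V : Type u) (_ : AddCommGroup V) (_ : Module (ZMod ℓ) V) (_ : Finite V)
      (R : ↥(stabilizer G p ⊓ stabilizer G o) →* Module.End (ZMod ℓ) V),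
      Module.finrank (ZMod ℓ) V = j ∧ (∀ h, h ≠ 1 → ∀ v, R h v = v → v = 0) ∧
      ∀ h, h ≠ 1 → h * h = 1 → R h = -1 := by
  letI : CommGroup T := { (inferInstance : Group T) with
    mul_comm := fun s t => Subtype.ext (hT.comm s s.2 t t.2) }
  let ρ : ↥(stabilizer G p ⊓ stabilizer G o) → Additive T →+ Additive T := fun h =>
    { toFun := fun v => Additive.ofMul ⟨(h : G) * (Additive.toMul v : T) * (h : G)⁻¹,
        hT.conj_mem h (Subgroup.mem_inf.mp h.2).1 _ (Additive.toMul v).2⟩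
      map_zero' := congrArg Additive.ofMul (Subtype.ext (by simp))
      map_add' := fun v w => congrArg Additive.ofMul (Subtype.ext (by simp [mul_assoc])) }
  refine exists_rep_aux ρ (fun v => Additive.toMul.injective (Subtype.ext (by simp [ρ])))
    (fun g h v => Additive.toMul.injective (Subtype.ext (by simp [ρ, mul_assoc])))
    (fun v => Additive.toMul.injective (Subtype.ext (hexp _ (Additive.toMul v).2))) ?_ ?_ ?_
  · have h' := hT.card_add_one ho
    rw [Nat.card_congr Additive.toMul]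
    omega
  · intro h h1 v hv
    apply Additive.toMul.injective
    exact Subtype.ext (eq_one_of_conj_eq h3 hT ho h.2 (fun e => h1 (Subtype.ext e)) (Additive.toMul v).2
      (congrArg (fun w : Additive T => ((Additive.toMul w : T) : G)) hv))
  · intro h h1 h2 v
    apply Additive.toMul.injective
    exact Subtype.ext (conj_eq_inv_of_involution h3 hT ho h.2 (fun e => h1 (Subtype.ext e))
      (congrArg Subtype.val h2) (Additive.toMul v).2)

end Cfsg.Agent.Lib.Perm.KernelAction
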