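import Mathlib
import Cfsg.Agent.Lib.Chars.Completeness
import Cfsg.Agent.Lib.Chars.Induced
import Cfsg.Agent.Lib.Chars.Ops
import Cfsg.Agent.Lib.Chars.Integral
import Cfsg.Agent.Lib.Perm.KernelAction
import Cfsg.Agent.Lib.Perm.FeitArith
import Cfsg.Agent.Lib.Perm.Inversion

/-! Feit's theorem: in a Zassenhaus group with abelian kernel whose two-point stabiliser is of odd
order and is inverted by a swap, the two-point stabiliser has at most two orbits on the kernel. -/

set_option autoImplicit false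

namespace Cfsg.Agent.Lib.Perm.Feit

open MulAction Cfsg
open Cfsg.Agent.Lib.Perm.Zassenhaus Cfsg.Agent.Lib.Perm.AffineCoords
open scoped ComplexConjugate

universe u v

variable {G : Type u} {Ω : Type v} [Group G] [MulAction G Ω]

theorem sum_hom_units {A : Type*} [Group A] [Fintype A] (φ : A →* ℂˣ) [Decidable (φ = 1)] :
    ∑ a, (φ a : ℂ) = if φ = 1 then (Nat.card A : ℂ) else 0 := by
  split_ifs with h
  · subst h; simp [Nat.card_eq_fintype_card]
  · obtain ⟨b, hb⟩ : ∃ b, φ b ≠ 1 := by
      by_contra hc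
      push Not at hc
      exact h (MonoidHom.ext hc)
    have e : (φ b : ℂ) * ∑ a, (φ a : ℂ) = ∑ a, (φ a : ℂ) := by
      rw [Finset.mul_sum]
      exact Fintype.sum_equiv (Equiv.mulLeft b) _ _ fun a => by simp
    exact ((mul_left_eq_self₀).mp e).resolve_left fun e' => hb (Units.ext e')

theorem hom_mul_conj_eq {A : Type*} [Group A] [Finite A] (φ ψ : A →* ℂˣ) (a : A) :
    (φ a : ℂ) * conj (ψ a : ℂ) = (((φ * ψ⁻¹) a : ℂˣ) : ℂ) := by
  rw [MonoidHom.mul_apply, MonoidHom.inv_apply, Units.val_mul, Units.val_inv_eq_inv_val,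
    Complex.inv_eq_conj (Cfsg.Agent.Lib.Chars.norm_hom_apply ψ a)]

theorem hom_mul_inv_eq_one {A : Type*} [Group A] {φ ψ : A →* ℂˣ} : φ * ψ⁻¹ = 1 ↔ φ = ψ := by
  constructor
  · intro h
    refine MonoidHom.ext fun a => ?_
    have := DFunLike.congr_fun h a
    rw [MonoidHom.mul_apply, MonoidHom.inv_apply, MonoidHom.one_apply] at this
    exact mul_inv_eq_one.mp this
  · rintro rfl
    exact MonoidHom.ext fun a => by simp

theorem hom_inv_mul_self {A : Type*} [Group A] (φ : A →* ℂˣ) : φ⁻¹ * φ = 1 :=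
  MonoidHom.ext fun a => by simp

theorem hom_inv_ne_one {A : Type*} [Group A] {φ : A →* ℂˣ} (h : φ ≠ 1) : φ⁻¹ ≠ 1 := fun e =>
  h (MonoidHom.ext fun a => inv_eq_one.mp (DFunLike.congr_fun e a))

theorem hom_eq_inv_of_mul_eq_one {A : Type*} [Group A] {φ ψ : A →* ℂˣ} (h : φ * ψ = 1) : φ = ψ⁻¹ :=
  MonoidHom.ext fun a => eq_inv_of_mul_eq_one_left (DFunLike.congr_fun h a)

theorem hom_mul_one {A : Type*} [Group A] (φ : A →* ℂˣ) : φ * 1 = φ :=
  MonoidHom.ext fun a => by simp

theorem sum_hom_mul_conj {A : Type*} [Group A] [Fintype A] (φ ψ : A →* ℂˣ) [Decidable (φ = ψ)] :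
    ∑ a, (φ a : ℂ) * conj (ψ a : ℂ) = if φ = ψ then (Nat.card A : ℂ) else 0 := by
  classical
  simp only [hom_mul_conj_eq]
  rw [sum_hom_units]
  simp only [hom_mul_inv_eq_one]

/-- A finite abelian group annihilated by `k` has order prime to everything prime to `k`. -/
theorem coprime_card_of_pow_eq_one {A : Type*} [Group A] [Finite A] {k b : ℕ} (hkb : k.Coprime b)
    (h : ∀ x : A, x ^ k = 1) : (Nat.card A).Coprime b := by
  refine Nat.coprime_of_dvd fun q hq hqA hqb => ?_
  have := Fact.mk hq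
  obtain ⟨x, hx⟩ := exists_prime_orderOf_dvd_card' q hqA
  exact hq.ne_one (Nat.dvd_one.mp (hkb ▸ Nat.dvd_gcd (hx ▸ orderOf_dvd_of_pow_eq_one (h x)) hqb))

section Setup

variable (h3 : FixAtMostTwo G Ω) {T : Subgroup G} {p o : Ω} (hT : IsKernel T p) (ho : o ≠ p)

include hT ho in
theorem existsUnique_decomp {g : G} (hg : g ∈ stabilizer G p) :
    ∃ u : T, (u : G)⁻¹ * g ∈ stabilizer G p ⊓ stabilizer G o ∧
      ∀ u' : T, (u' : G)⁻¹ * g ∈ stabilizer G p ⊓ stabilizer G o → u' = u := by
  have hgo : g • o ≠ p := fun h => ho (smul_left_cancel g (h.trans (mem_stabilizer_iff.mp hg).symm))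
  obtain ⟨u, hu, huniq⟩ := hT.regular o (g • o) ho hgo
  refine ⟨u, Subgroup.mem_inf.mpr ⟨mul_mem (inv_mem (hT.le u.2)) hg, ?_⟩, fun u' hu' => huniq u' ?_⟩
  · rw [mem_stabilizer_iff, mul_smul, inv_smul_eq_iff, hu]
  · have := mem_stabilizer_iff.mp (Subgroup.mem_inf.mp hu').2
    rw [mul_smul, inv_smul_eq_iff] at this
    exact this.symm

/-- The projection of the point stabiliser onto the two-point stabiliser along the kernel. -/
noncomputable def proj : stabilizer G p →* ↥(stabilizer G p ⊓ stabilizer G o) :=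
  MonoidHom.mk' (fun g => ⟨_, (existsUnique_decomp hT ho g.2).choose_spec.1⟩) fun g g' => by
    refine Subtype.ext ?_
    obtain ⟨hu, -⟩ := (existsUnique_decomp hT ho g.2).choose_spec
    obtain ⟨hu', -⟩ := (existsUnique_decomp hT ho g'.2).choose_spec
    obtain ⟨-, huniq⟩ := (existsUnique_decomp hT ho (g * g').2).choose_spec
    set u := (existsUnique_decomp hT ho g.2).choose
    set u' := (existsUnique_decomp hT ho g'.2).choose
    have hc := hT.conj_mem _ (Subgroup.mem_inf.mp hu).1 _ u'.2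
    have e := huniq ⟨_, mul_mem u.2 hc⟩ (by
      show ((u : G) * (((u : G)⁻¹ * g) * u' * ((u : G)⁻¹ * g)⁻¹))⁻¹ * ((g : G) * g') ∈ _
      rw [show ((u : G) * (((u : G)⁻¹ * g) * u' * ((u : G)⁻¹ * g)⁻¹))⁻¹ * ((g : G) * g') =
        ((u : G)⁻¹ * g) * ((u' : G)⁻¹ * g') by group]
      exact mul_mem hu hu')
    show ((existsUnique_decomp hT ho (g * g').2).choose : G)⁻¹ * ((g : G) * g') =
      ((u : G)⁻¹ * g) * ((u' : G)⁻¹ * g')
    rw [← e]
    group

theorem proj_mul_of_mem {u : G} (hu : u ∈ T) {h : G} (hh : h ∈ stabilizer G p ⊓ stabilizer G o)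
    {g : stabilizer G p} (hg : (g : G) = u * h) : proj hT ho g = ⟨h, hh⟩ := by
  refine Subtype.ext ?_
  show ((existsUnique_decomp hT ho g.2).choose : G)⁻¹ * g = h
  rw [← (existsUnique_decomp hT ho g.2).choose_spec.2 ⟨u, hu⟩ (by rw [hg, inv_mul_cancel_left]; exact hh),
    hg, inv_mul_cancel_left]

theorem proj_kernel {g : stabilizer G p} (hg : (g : G) ∈ T) : proj hT ho g = 1 :=
  proj_mul_of_mem hT ho hg (one_mem _) (mul_one _).symm

theorem proj_two_point {g : stabilizer G p} (hg : (g : G) ∈ stabilizer G p ⊓ stabilizer G o) :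
    proj hT ho g = ⟨g, hg⟩ :=
  proj_mul_of_mem hT ho (one_mem T) hg (one_mul _).symm

/-- Conjugation by an element of the two-point stabiliser on the kernel. -/
def cj (h : ↥(stabilizer G p ⊓ stabilizer G o)) : T →* T :=
  MonoidHom.codRestrict ((MulAut.conj (h : G)⁻¹).toMonoidHom.comp T.subtype) T fun t =>
    hT.conj_mem _ (inv_mem (Subgroup.mem_inf.mp h.2).1) _ t.2

theorem coe_cj (h : ↥(stabilizer G p ⊓ stabilizer G o)) (t : T) :
    (cj hT h t : G) = (h : G)⁻¹ * t * h := by
  show (h : G)⁻¹ * t * ((h : G)⁻¹)⁻¹ = _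
  rw [inv_inv]

theorem cj_cj (g h : ↥(stabilizer G p ⊓ stabilizer G o)) (t : T) :
    cj hT g (cj hT h t) = cj hT (h * g) t :=
  Subtype.ext (by rw [coe_cj, coe_cj, coe_cj, Subgroup.coe_mul]; group)

include h3 ho in
theorem eq_one_of_invariant [Finite G] {μ : T →* ℂˣ} {h : ↥(stabilizer G p ⊓ stabilizer G o)}
    (hh : h ≠ 1) (hμ : μ.comp (cj hT h) = μ) : μ = 1 := by
  have hinj : Function.Injective fun t : T => t⁻¹ * cj hT h t := by
    intro t t' e
    have e1 : cj hT h (t * t'⁻¹) = t * t'⁻¹ := by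
      rw [map_mul, map_inv]
      have e2 : (t : T)⁻¹ * cj hT h t = t'⁻¹ * cj hT h t' := e
      rw [show cj hT h t = t * (t'⁻¹ * cj hT h t') by rw [← e2, mul_inv_cancel_left]]
      simp [mul_assoc]
    have e3 := congrArg Subtype.val e1
    rw [coe_cj] at e3
    refine mul_inv_eq_one.mp (Subtype.ext (KernelAction.eq_one_of_conj_eq h3 hT ho (inv_mem h.2)
      (fun e => hh (Subtype.ext (inv_eq_one.mp e))) (t * t'⁻¹).2 ?_))
    rw [inv_inv]; exact e3
  refine MonoidHom.ext fun y => ?_
  obtain ⟨t, ht⟩ := Finite.injective_iff_surjective.mp hinj y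
  have e : μ (cj hT h t) = μ t := DFunLike.congr_fun hμ t
  rw [← ht]
  simp [e]

end Setup

variable [Fintype G] [Fintype Ω] {T : Subgroup G} {p o : Ω}

open Classical in
theorem indFun_kernel (h2 : IsMultiplyPretransitive G Ω 2) (hT : IsKernel T p) (ho : o ≠ p)
    (f : T → ℂ) (t : T) :
    indFun T f t = (∑ h : ↥(stabilizer G p ⊓ stabilizer G o), f (cj hT h t)) +
      if t = 1 then (Nat.card T : ℂ) * (Nat.card ↥(stabilizer G p ⊓ stabilizer G o)) * f 1 else 0 := by
  have hG : Nat.card G = (Nat.card T + 1) * (Nat.card T * Nat.card ↥(stabilizer G p ⊓ stabilizer G o)) := by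
    rw [Inversion.card_group h2 hT ho, ← hT.card_add_one ho, Nat.add_sub_cancel]
  have hn0 : (Nat.card T : ℂ) ≠ 0 := Nat.cast_ne_zero.mpr Nat.card_pos.ne'
  by_cases ht : t = 1
  · subst ht
    rw [if_pos rfl]
    have hi : (T.index : ℂ) = ((Nat.card T : ℂ) + 1) * Nat.card ↥(stabilizer G p ⊓ stabilizer G o) := by
      have := T.card_mul_index
      rw [hG, show ∀ a b c : ℕ, a * (b * c) = b * (a * c) from fun a b c => by ring] at this
      rw [Nat.eq_of_mul_eq_mul_left Nat.card_pos this]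
      push_cast; ring
    rw [OneMemClass.coe_one, Chars.indFun_one_eq, hi]
    simp only [map_one, Finset.sum_const, Finset.card_univ, nsmul_eq_mul, ← Nat.card_eq_fintype_card]
    ring
  rw [if_neg ht, add_zero]
  simp only [indFun]
  rw [inv_mul_eq_iff_eq_mul₀ hn0]
  let e : T × ↥(stabilizer G p ⊓ stabilizer G o) → G := fun x => (x.1 : G) * x.2
  have he : Function.Injective e := by
    rintro ⟨u, h⟩ ⟨u', h'⟩ hx
    have hx' : (u : G) * h = u' * h' := hx
    have hu : u = u' := hT.eq_of_smul_eq ho (by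
      have := congrArg (· • o) hx'
      simp only [mul_smul] at this
      rwa [mem_stabilizer_iff.mp (Subgroup.mem_inf.mp h.2).2,
        mem_stabilizer_iff.mp (Subgroup.mem_inf.mp h'.2).2] at this)
    subst hu
    exact Prod.ext rfl (Subtype.ext (mul_left_cancel hx'))
  calc ∑ x : G, extendByZero T f (x⁻¹ * t * x)
      = ∑ x : T × ↥(stabilizer G p ⊓ stabilizer G o), f (cj hT x.2 t) := by
        refine (Fintype.sum_of_injective e he _ _ ?_ ?_).symm
        · intro x hx
          refine Chars.extendByZero_of_not_mem _ fun hmem => hx ?_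
          have hxp : x • p = p := by
            by_contra hne
            refine ht (hT.eq_of_smul_eq hne (s := t) (t := 1) ?_)
            have := mem_stabilizer_iff.mp (hT.le hmem)
            rw [mul_smul, mul_smul, inv_smul_eq_iff] at this
            rw [this, OneMemClass.coe_one, one_smul]
          obtain ⟨u, hu, -⟩ := existsUnique_decomp hT ho (mem_stabilizer_iff.mpr hxp)
          exact ⟨(u, ⟨_, hu⟩), mul_inv_cancel_left _ _⟩
        · rintro ⟨u, h⟩
          have hm : (e (u, h))⁻¹ * (t : G) * e (u, h) = ((cj hT h t : T) : G) := by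
            have hc := hT.comm _ t.2 _ u.2
            rw [coe_cj]
            show ((u : G) * h)⁻¹ * t * ((u : G) * h) = _
            rw [mul_inv_rev, show (h : G)⁻¹ * (u : G)⁻¹ * t * ((u : G) * h) =
              (h : G)⁻¹ * ((u : G)⁻¹ * (t * u)) * h by group, hc, inv_mul_cancel_left]
          show f (cj hT h t) = _
          rw [hm, Chars.extendByZero_coe]
    _ = (Nat.card T : ℂ) * ∑ h, f (cj hT h t) := by
        rw [Fintype.sum_prod_type]
        simp only [Finset.sum_const, Finset.card_univ, nsmul_eq_mul, Nat.card_eq_fintype_card]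

open Classical in
theorem classInner_ind (h2 : IsMultiplyPretransitive G Ω 2) (hT : IsKernel T p) (ho : o ≠ p)
    (lam μ : T →* ℂˣ) :
    classInner (indFun T fun t => (lam t : ℂ)) (indFun T fun t => (μ t : ℂ)) =
      ((Nat.card ↥(stabilizer G p ⊓ stabilizer G o) +
        (Finset.univ.filter fun h : ↥(stabilizer G p ⊓ stabilizer G o) => μ.comp (cj hT h) = lam).card : ℕ) : ℂ) := by
  rw [Chars.classInner_indFun_left _ _ _ (Chars.isClassFunction_indFun _ _)]
  simp only [classInner, indFun_kernel h2 hT ho, map_add, map_sum, mul_add, Finset.sum_add_distrib,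
    Finset.mul_sum]
  rw [Finset.sum_comm]
  have hn0 : (Nat.card T : ℂ) ≠ 0 := Nat.cast_ne_zero.mpr Nat.card_pos.ne'
  have h1 : ∀ h : ↥(stabilizer G p ⊓ stabilizer G o),
      ∑ t : T, (Nat.card T : ℂ)⁻¹ * ((lam t : ℂ) * conj ((μ (cj hT h t) : ℂˣ) : ℂ)) =
        if μ.comp (cj hT h) = lam then 1 else 0 := by
    intro h
    rw [← Finset.mul_sum]
    have := sum_hom_mul_conj lam (μ.comp (cj hT h))
    simp only [MonoidHom.comp_apply] at this
    rw [this]
    simp only [eq_comm (a := lam)]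
    split_ifs <;> simp [hn0]
  rw [Finset.sum_congr rfl fun h _ => h1 h, Finset.sum_boole]
  simp only [apply_ite (starRingEnd ℂ), map_zero, mul_ite, mul_zero, Finset.sum_ite_eq',
    Finset.mem_univ, if_true, map_one, Units.val_one, map_mul, Complex.conj_natCast, mul_one, one_mul]
  push_cast
  field_simp
  ring

/-- Summing over the group a function of the image of a point. -/
theorem sum_smul_point [IsPretransitive G Ω] (p : Ω) (F : Ω → ℂ) :
    ∑ x : G, F (x • p) = (Nat.card (stabilizer G p) : ℂ) * ∑ y, F y := by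
  classical
  rw [← Finset.sum_fiberwise Finset.univ (fun x : G => x • p) (fun x => F (x • p)), Finset.mul_sum]
  refine Finset.sum_congr rfl fun y _ => ?_
  rw [Finset.sum_congr rfl fun x hx => congrArg F (Finset.mem_filter.mp hx).2, Finset.sum_const,
    nsmul_eq_mul]
  congr 2
  obtain ⟨g, rfl⟩ := exists_smul_eq G p y
  rw [Nat.card_eq_fintype_card, ← Fintype.card_coe]
  refine Fintype.card_congr
    { toFun := fun x => ⟨g⁻¹ * x.1, by
        rw [mem_stabilizer_iff, mul_smul, (Finset.mem_filter.mp x.2).2, inv_smul_smul]⟩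
      invFun := fun z => ⟨g * z.1, Finset.mem_filter.mpr ⟨Finset.mem_univ _, by
        rw [mul_smul, mem_stabilizer_iff.mp z.2]⟩⟩
      left_inv := fun x => Subtype.ext (mul_inv_cancel_left _ _)
      right_inv := fun z => Subtype.ext (inv_mul_cancel_left _ _) }

open Classical in
/-- Values on the point stabiliser of a character induced from a linear character. -/
theorem indFun_stab [IsPretransitive G Ω] (hT : IsKernel T p) (ho : o ≠ p) {s : G} (hsp : s • p = o)
    (hso : s • o = p)
    (hcomm : ∀ g ∈ stabilizer G p ⊓ stabilizer G o, ∀ h ∈ stabilizer G p ⊓ stabilizer G o, g * h = h * g)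
    (hinv : ∀ h ∈ stabilizer G p ⊓ stabilizer G o, s * h * s⁻¹ = h⁻¹)
    (ψ : ↥(stabilizer G p ⊓ stabilizer G o) →* ℂˣ) (g : stabilizer G p) :
    indFun (stabilizer G p) (fun x => (ψ (proj hT ho x) : ℂ)) g =
      (ψ (proj hT ho g) : ℂ) + conj (ψ (proj hT ho g) : ℂ) *
        ((Finset.univ.filter fun y : Ω => y ≠ p ∧ (g : G) • y = y).card : ℂ) := by
  set θ : stabilizer G p → ℂ := fun x => (ψ (proj hT ho x) : ℂ) with hθ
  let C : Ω → ℂ := fun y => if y = p then (ψ (proj hT ho g) : ℂ)
    else if (g : G) • y = y then conj (ψ (proj hT ho g) : ℂ) else 0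
  have hC : ∀ x : G, extendByZero (stabilizer G p) θ (x⁻¹ * g * x) = C (x • p) := by
    intro x
    by_cases hfix : (g : G) • (x • p) = x • p
    swap
    · have hne : x • p ≠ p := fun e => hfix (by rw [e]; exact g.2)
      simp only [C, if_neg hne, if_neg hfix]
      refine Chars.extendByZero_of_not_mem _ fun h => hfix ?_
      rw [mem_stabilizer_iff, mul_smul, mul_smul, inv_smul_eq_iff] at h
      exact h
    have hmem : x⁻¹ * (g : G) * x ∈ stabilizer G p := by
      rw [mem_stabilizer_iff, mul_smul, mul_smul, inv_smul_eq_iff, hfix]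
    rw [Chars.extendByZero_of_mem θ hmem]
    have hconj : ∀ (a b : stabilizer G p), proj hT ho (a⁻¹ * b * a) = proj hT ho b := by
      intro a b
      rw [map_mul, map_mul, map_inv, mul_assoc, show proj hT ho b * proj hT ho a =
        proj hT ho a * proj hT ho b from Subtype.ext (hcomm _ (proj hT ho b).2 _ (proj hT ho a).2),
        inv_mul_cancel_left]
    by_cases hxp : x • p = p
    · simp only [C, if_pos hxp, θ]
      rw [← hconj ⟨x, hxp⟩ g]
      rfl
    · simp only [C, if_neg hxp, if_pos hfix, θ]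
      obtain ⟨u, hu⟩ := (hT.regular o (x • p) ho hxp).exists
      have hh : (u : G)⁻¹ * g * u ∈ stabilizer G p ⊓ stabilizer G o := by
        refine Subgroup.mem_inf.mpr ⟨mul_mem (mul_mem (inv_mem (hT.le u.2)) g.2) (hT.le u.2), ?_⟩
        rw [mem_stabilizer_iff, mul_smul, mul_smul, hu, hfix, inv_smul_eq_iff, hu]
      have hx' : s⁻¹ * (u : G)⁻¹ * x ∈ stabilizer G p := by
        rw [mem_stabilizer_iff, mul_smul, mul_smul, inv_smul_eq_iff, inv_smul_eq_iff, hsp, hu]
      have e1 : s⁻¹ * ((u : G)⁻¹ * g * u) * s = ((u : G)⁻¹ * g * u)⁻¹ := by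
        have h1 := hinv _ (inv_mem hh)
        rw [inv_inv] at h1
        conv_lhs => rw [← h1]
        group
      have hinvmem := inv_mem hh
      have e2 : (⟨x⁻¹ * (g : G) * x, hmem⟩ : stabilizer G p) = (⟨_, hx'⟩ : stabilizer G p)⁻¹ *
          ⟨((u : G)⁻¹ * g * u)⁻¹, (Subgroup.mem_inf.mp hinvmem).1⟩ * ⟨_, hx'⟩ := by
        refine Subtype.ext ?_
        show x⁻¹ * (g : G) * x = (s⁻¹ * (u : G)⁻¹ * x)⁻¹ * ((u : G)⁻¹ * g * u)⁻¹ * (s⁻¹ * (u : G)⁻¹ * x)
        rw [← e1]
        group
      have e3 : (⟨((u : G)⁻¹ * g * u)⁻¹, (Subgroup.mem_inf.mp hinvmem).1⟩ : stabilizer G p) =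
          ((⟨(u : G), hT.le u.2⟩ : stabilizer G p)⁻¹ * g * ⟨(u : G), hT.le u.2⟩)⁻¹ := rfl
      rw [e2, hconj, e3, map_inv, hconj, map_inv, Units.val_inv_eq_inv_val,
        Complex.inv_eq_conj (Chars.norm_hom_apply _ _)]
  simp only [indFun]
  rw [Finset.sum_congr rfl fun x _ => hC x, sum_smul_point,
    inv_mul_cancel_left₀ (Nat.cast_ne_zero.mpr Nat.card_pos.ne')]
  simp only [C]
  rw [← Finset.add_sum_erase _ _ (Finset.mem_univ p), if_pos rfl]
  congr 1
  rw [Finset.sum_congr rfl fun y hy => if_neg (Finset.ne_of_mem_erase hy), ← Finset.sum_filter,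
    Finset.sum_const, nsmul_eq_mul, mul_comm]
  congr 3
  ext y
  simp

open Classical in
theorem classInner_stab (h2 : IsMultiplyPretransitive G Ω 2) (hT : IsKernel T p) (ho : o ≠ p)
    {s : G} (hsp : s • p = o) (hso : s • o = p)
    (hcomm : ∀ g ∈ stabilizer G p ⊓ stabilizer G o, ∀ h ∈ stabilizer G p ⊓ stabilizer G o, g * h = h * g)
    (hinv : ∀ h ∈ stabilizer G p ⊓ stabilizer G o, s * h * s⁻¹ = h⁻¹)
    (ψ φ : ↥(stabilizer G p ⊓ stabilizer G o) →* ℂˣ) :
    classInner (indFun (stabilizer G p) fun x => (ψ (proj hT ho x) : ℂ))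
      (indFun (stabilizer G p) fun x => (φ (proj hT ho x) : ℂ)) =
      (if ψ = φ then 1 else 0) + if ψ * φ = 1 then 1 else 0 := by
  have : IsPretransitive G Ω := by
    haveI := h2
    exact MulAction.isPretransitive_of_is_two_pretransitive
  rw [Chars.classInner_indFun_left _ _ _ (Chars.isClassFunction_indFun _ _)]
  simp only [classInner, indFun_stab hT ho hsp hso hcomm hinv, map_add, map_mul, Complex.conj_natCast,
    Complex.conj_conj, mul_add, Finset.sum_add_distrib]
  have hP : (Nat.card (stabilizer G p) : ℂ) =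
      (Nat.card T : ℂ) * Nat.card ↥(stabilizer G p ⊓ stabilizer G o) := by
    rw [← Nat.cast_mul, ← Nat.card_prod]
    congr 1
    refine (Nat.card_congr (Equiv.ofBijective (fun x : T × ↥(stabilizer G p ⊓ stabilizer G o) =>
      (⟨(x.1 : G) * x.2, mul_mem (hT.le x.1.2) (Subgroup.mem_inf.mp x.2.2).1⟩ : stabilizer G p)) ⟨?_, ?_⟩)).symm
    · rintro ⟨a, b⟩ ⟨a', b'⟩ e
      have e1 := congrArg (proj hT ho) e
      rw [proj_mul_of_mem hT ho a.2 b.2 rfl, proj_mul_of_mem hT ho a'.2 b'.2 rfl] at e1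
      have hb : b = b' := Subtype.ext (congrArg Subtype.val e1)
      subst hb
      exact Prod.ext (Subtype.ext (mul_right_cancel (congrArg Subtype.val e))) rfl
    · rintro ⟨g, hg⟩
      obtain ⟨u, hu, -⟩ := existsUnique_decomp hT ho hg
      exact ⟨(u, ⟨_, hu⟩), Subtype.ext (mul_inv_cancel_left _ _)⟩
  have hn0 : (Nat.card T : ℂ) ≠ 0 := Nat.cast_ne_zero.mpr Nat.card_pos.ne'
  have hd0 : (Nat.card ↥(stabilizer G p ⊓ stabilizer G o) : ℂ) ≠ 0 := Nat.cast_ne_zero.mpr Nat.card_pos.ne'
  congr 1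
  · have := sum_hom_mul_conj (ψ.comp (proj hT ho)) (φ.comp (proj hT ho))
    simp only [MonoidHom.comp_apply] at this
    rw [this]
    have hiff : ψ.comp (proj hT ho) = φ.comp (proj hT ho) ↔ ψ = φ := by
      refine ⟨fun e => MonoidHom.ext fun h => ?_, fun e => by rw [e]⟩
      have := DFunLike.congr_fun e ⟨(h : G), (Subgroup.mem_inf.mp h.2).1⟩
      rwa [MonoidHom.comp_apply, MonoidHom.comp_apply,
        proj_two_point hT ho (g := ⟨(h : G), (Subgroup.mem_inf.mp h.2).1⟩) h.2] at this
    simp only [hiff]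
    split_ifs
    · exact inv_mul_cancel₀ (Nat.cast_ne_zero.mpr Nat.card_pos.ne')
    · exact mul_zero _
  · have e : ∀ x : stabilizer G p, (ψ (proj hT ho x) : ℂ) * ((φ (proj hT ho x) : ℂ) *
        ((Finset.univ.filter fun y : Ω => y ≠ p ∧ (x : G) • y = y).card : ℂ)) =
        ∑ y : Ω, if y ≠ p ∧ (x : G) • y = y then (((ψ * φ) (proj hT ho x) : ℂˣ) : ℂ) else 0 := by
      intro x
      rw [← Finset.sum_filter, Finset.sum_const, nsmul_eq_mul, MonoidHom.mul_apply, Units.val_mul]
      ring
    rw [Finset.sum_congr rfl fun x _ => e x, Finset.sum_comm]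
    have hy : ∀ y : Ω, (∑ x : stabilizer G p,
        if y ≠ p ∧ (x : G) • y = y then (((ψ * φ) (proj hT ho x) : ℂˣ) : ℂ) else 0) =
        if y = p then 0 else ∑ h : ↥(stabilizer G p ⊓ stabilizer G o), (((ψ * φ) h : ℂˣ) : ℂ) := by
      intro y
      by_cases hy : y = p
      · simp [hy]
      rw [if_neg hy]
      obtain ⟨u, hu⟩ := (hT.regular o y ho hy).exists
      let e' : ↥(stabilizer G p ⊓ stabilizer G o) → stabilizer G p := fun h =>
        ⟨(u : G) * h * (u : G)⁻¹, mul_mem (mul_mem (hT.le u.2) (Subgroup.mem_inf.mp h.2).1)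
          (inv_mem (hT.le u.2))⟩
      refine (Fintype.sum_of_injective e' (fun a b e => Subtype.ext (by
        simpa [e'] using congrArg Subtype.val e)) _ _ ?_ ?_).symm
      · intro x hx
        rw [if_neg]
        rintro ⟨-, hfix⟩
        refine hx ⟨⟨(u : G)⁻¹ * x * u, Subgroup.mem_inf.mpr
          ⟨mul_mem (mul_mem (inv_mem (hT.le u.2)) x.2) (hT.le u.2), ?_⟩⟩, Subtype.ext (by simp [e', mul_assoc])⟩
        rw [mem_stabilizer_iff, mul_smul, mul_smul, hu, hfix, inv_smul_eq_iff, hu]
      · intro h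
        rw [if_pos ⟨hy, by
          show ((u : G) * h * (u : G)⁻¹) • y = y
          rw [mul_smul, mul_smul, inv_smul_eq_iff.mpr hu.symm,
            mem_stabilizer_iff.mp (Subgroup.mem_inf.mp h.2).2, hu]⟩]
        have e4 : proj hT ho (e' h) = h := by
          have : e' h = ⟨(u : G), hT.le u.2⟩ * ⟨(h : G), (Subgroup.mem_inf.mp h.2).1⟩ *
              (⟨(u : G), hT.le u.2⟩ : stabilizer G p)⁻¹ := rfl
          rw [this, map_mul, map_mul, map_inv, proj_kernel hT ho (g := ⟨(u : G), hT.le u.2⟩) u.2,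
            proj_two_point hT ho (g := ⟨(h : G), (Subgroup.mem_inf.mp h.2).1⟩) h.2]
          simp
        rw [e4]
    rw [Finset.sum_congr rfl fun y _ => hy y, ← Finset.add_sum_erase _ _ (Finset.mem_univ p), if_pos rfl,
      zero_add, Finset.sum_congr rfl fun y hy => if_neg (Finset.ne_of_mem_erase hy), Finset.sum_const,
      nsmul_eq_mul, sum_hom_units, Finset.card_erase_of_mem (Finset.mem_univ p), Finset.card_univ,
      ← hT.card_add_one ho, Nat.add_sub_cancel, hP]
    split_ifs
    · field_simp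
    · simp

open Classical in
theorem classInner_kernel_stab (h2 : IsMultiplyPretransitive G Ω 2) (hT : IsKernel T p) (ho : o ≠ p)
    {s : G} (hsp : s • p = o) (hso : s • o = p)
    (hcomm : ∀ g ∈ stabilizer G p ⊓ stabilizer G o, ∀ h ∈ stabilizer G p ⊓ stabilizer G o, g * h = h * g)
    (hinv : ∀ h ∈ stabilizer G p ⊓ stabilizer G o, s * h * s⁻¹ = h⁻¹)
    (lam : T →* ℂˣ) (ψ : ↥(stabilizer G p ⊓ stabilizer G o) →* ℂˣ) :
    classInner (indFun T fun t => (lam t : ℂ)) (indFun (stabilizer G p) fun x => (ψ (proj hT ho x) : ℂ)) =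
      (if lam = 1 then 1 else 0) + 1 := by
  have : IsPretransitive G Ω := by
    haveI := h2
    exact MulAction.isPretransitive_of_is_two_pretransitive
  rw [Chars.classInner_indFun_left _ _ _ (Chars.isClassFunction_indFun _ _)]
  have hres : ∀ t : T, indFun (stabilizer G p) (fun x => (ψ (proj hT ho x) : ℂ)) (t : G) =
      1 + if t = 1 then (Nat.card T : ℂ) else 0 := by
    intro t
    rw [indFun_stab hT ho hsp hso hcomm hinv ψ ⟨(t : G), hT.le t.2⟩,
      proj_kernel hT ho (g := ⟨(t : G), hT.le t.2⟩) t.2, map_one, Units.val_one, map_one, one_mul]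
    congr 1
    split_ifs with ht
    · subst ht
      simp only [OneMemClass.coe_one, one_smul, and_true]
      rw [Finset.filter_ne', Finset.card_erase_of_mem (Finset.mem_univ p), Finset.card_univ,
        ← hT.card_add_one ho, Nat.add_sub_cancel]
    · rw [Nat.cast_eq_zero, Finset.card_eq_zero, Finset.filter_eq_empty_iff]
      rintro y - ⟨hy, hty⟩
      exact ht (hT.eq_of_smul_eq hy (s := t) (t := 1) (by simpa using hty))
  simp only [classInner, hres, map_add, map_one, mul_add, mul_one, Finset.sum_add_distrib, sum_hom_units]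
  simp only [apply_ite (starRingEnd ℂ), map_zero, mul_ite, mul_zero, Finset.sum_ite_eq',
    Finset.mem_univ, if_true, map_one, Units.val_one, Complex.conj_natCast, one_mul]
  have hn0 : (Nat.card T : ℂ) ≠ 0 := Nat.cast_ne_zero.mpr Nat.card_pos.ne'
  split_ifs <;> simp [hn0]

/-- **Feit**: at most two orbits. -/
theorem card_le_two_mul (h2 : IsMultiplyPretransitive G Ω 2) (h3 : FixAtMostTwo G Ω)
    (hT : IsKernel T p) (ho : o ≠ p)
    (hodd : Odd (Nat.card ↥(stabilizer G p ⊓ stabilizer G o)))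
    (hd : 1 < Nat.card ↥(stabilizer G p ⊓ stabilizer G o))
    {s : G} (hsp : s • p = o) (hso : s • o = p)
    (hinv : ∀ h ∈ stabilizer G p ⊓ stabilizer G o, s * h * s⁻¹ = h⁻¹) :
    Fintype.card Ω - 2 ≤ 2 * Nat.card ↥(stabilizer G p ⊓ stabilizer G o) := by
  classical
  have : IsPretransitive G Ω := by
    haveI := h2
    exact MulAction.isPretransitive_of_is_two_pretransitive
  have hcomm : ∀ g ∈ stabilizer G p ⊓ stabilizer G o, ∀ h ∈ stabilizer G p ⊓ stabilizer G o,
      g * h = h * g := by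
    intro g hg h hh
    have := hinv (g * h) (mul_mem hg hh)
    rw [show s * (g * h) * s⁻¹ = (s * g * s⁻¹) * (s * h * s⁻¹) by group, hinv g hg, hinv h hh,
      ← mul_inv_rev, inv_inj] at this
    exact this.symm
  have : IsMulCommutative T := ⟨⟨fun a b => Subtype.ext (hT.comm a a.2 b b.2)⟩⟩
  let : Fintype (T →* ℂˣ) := @Fintype.ofFinite _ (Finite.of_injective _ (Chars.linIrr_injective (G := T)))
  -- linear characters of the kernel
  have hlinbij : Function.Bijective (Chars.linIrr : (T →* ℂˣ) → IrrCharacter T) := by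
    refine ⟨Chars.linIrr_injective, fun χ => ?_⟩
    obtain ⟨φ, hφ⟩ := Chars.exists_hom_of_degree_one (Chars.irr_isCharacter χ) (Chars.irr_apply_one_of_comm χ)
    exact ⟨φ, Subtype.ext hφ.symm⟩
  have hcardΛ : Nat.card (T →* ℂˣ) = Nat.card T := by
    rw [Chars.card_monoidHom_units, commutator_def, (Subgroup.commutator_eq_bot_iff_le_centralizer).mpr
      (fun x _ => Subgroup.mem_centralizer_iff.mpr fun y _ => mul_comm' y x), Subgroup.index_bot]
  let d := Nat.card ↥(stabilizer G p ⊓ stabilizer G o)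
  let I : (T →* ℂˣ) → G → ℂ := fun lam => indFun T fun t => (lam t : ℂ)
  have hIc : ∀ lam, IsCharacter G (I lam) := fun lam => Chars.isCharacter_indFun _ (Chars.isCharacter_hom lam)
  choose m hm using fun (χ : IrrCharacter G) (lam : T →* ℂˣ) =>
    Chars.isCharacter_classInner_nat (hIc lam) (Chars.irr_isCharacter χ)
  have hgram : ∀ lam μ, ∑ χ, m χ lam * m χ μ =
      d + (Finset.univ.filter fun h : ↥(stabilizer G p ⊓ stabilizer G o) => μ.comp (cj hT h) = lam).card := by
    intro lam μ
    apply Nat.cast_injective (R := ℂ)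
    refine Eq.trans ?_ (classInner_ind h2 hT ho lam μ)
    rw [Chars.classInner_eq_sum_mul_conj (Chars.isClassFunction_indFun _ _) (Chars.isClassFunction_indFun _ _)]
    push_cast
    refine Finset.sum_congr rfl fun χ _ => ?_
    show (m χ lam : ℂ) * (m χ μ : ℂ) = classInner (I lam) (χ : G → ℂ) * conj (classInner (I μ) (χ : G → ℂ))
    rw [hm, hm, Complex.conj_natCast]
  have hdegsum : ∀ χ : IrrCharacter G, (χ : G → ℂ) 1 = ((∑ lam, m χ lam : ℕ) : ℂ) := by
    intro χ
    push_cast
    simp only [← hm]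
    show (χ : G → ℂ) 1 = ∑ lam : T →* ℂˣ, classInner (indFun T fun t => (lam t : ℂ)) (χ : G → ℂ)
    rw [Finset.sum_congr rfl fun (lam : T →* ℂˣ) _ => Chars.classInner_indFun_left T
      (fun t => (lam t : ℂ)) (χ : G → ℂ) (Chars.irr_isClassFunction χ)]
    simp only [classInner, ← Finset.mul_sum]
    rw [Finset.sum_comm]
    simp only [← Finset.sum_mul]
    have hcol : ∀ t : T, ∑ lam : T →* ℂˣ, ((lam t : ℂˣ) : ℂ) = if t = 1 then (Nat.card T : ℂ) else 0 := by
      intro t
      rw [← Chars.sum_degree_mul_irr t, ← (Equiv.ofBijective _ hlinbij).sum_comp fun χ : IrrCharacter T =>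
        (χ : T → ℂ) 1 * (χ : T → ℂ) t]
      exact Finset.sum_congr rfl fun lam _ => by simp [Chars.linIrr]
    simp only [hcol, ite_mul, zero_mul, Finset.sum_ite_eq', Finset.mem_univ, if_true, OneMemClass.coe_one]
    rw [inv_mul_cancel_left₀ (Nat.cast_ne_zero.mpr Nat.card_pos.ne')]
    obtain ⟨k, hk⟩ := Chars.isCharacter_exists_degree (Chars.irr_isCharacter χ)
    rw [hk, Complex.conj_natCast]
  -- the known characters
  let J : (↥(stabilizer G p ⊓ stabilizer G o) →* ℂˣ) → G → ℂ := fun ψ =>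
    indFun (stabilizer G p) fun x => (ψ (proj hT ho x) : ℂ)
  have hJc : ∀ ψ, IsCharacter G (J ψ) := fun ψ =>
    Chars.isCharacter_indFun _ (Chars.isCharacter_hom (ψ.comp (proj hT ho)))
  have hJJ : ∀ ψ φ, classInner (J ψ) (J φ) = (if ψ = φ then 1 else 0) + if ψ * φ = 1 then 1 else 0 :=
    classInner_stab h2 hT ho hsp hso hcomm hinv
  have hIJ : ∀ lam ψ, classInner (I lam) (J ψ) = (if lam = 1 then 1 else 0) + 1 :=
    classInner_kernel_stab h2 hT ho hsp hso hcomm hinv
  let one : IrrCharacter G := Chars.linIrr (1 : G →* ℂˣ)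
  have hone : ∀ lam, classInner (I lam) (one : G → ℂ) = if lam = 1 then 1 else 0 := by
    intro lam
    show classInner (indFun T fun t => (lam t : ℂ)) (one : G → ℂ) = _
    rw [Chars.classInner_indFun_left _ _ _ (Chars.irr_isClassFunction one)]
    simp only [classInner, one, Chars.linIrr, MonoidHom.one_apply, Units.val_one, map_one, mul_one,
      sum_hom_units]
    split_ifs
    · exact inv_mul_cancel₀ (Nat.cast_ne_zero.mpr Nat.card_pos.ne')
    · exact mul_zero _
  have hJone : ∀ ψ, classInner (J ψ) (one : G → ℂ) = if ψ = 1 then 1 else 0 := by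
    intro ψ
    show classInner (indFun (stabilizer G p) fun x => (ψ (proj hT ho x) : ℂ)) (one : G → ℂ) = _
    rw [Chars.classInner_indFun_left _ _ _ (Chars.irr_isClassFunction one)]
    simp only [classInner, one, Chars.linIrr, MonoidHom.one_apply, Units.val_one, map_one, mul_one]
    have := sum_hom_units (ψ.comp (proj hT ho))
    simp only [MonoidHom.comp_apply] at this
    rw [this]
    have hiff : ψ.comp (proj hT ho) = 1 ↔ ψ = 1 := by
      refine ⟨fun e => MonoidHom.ext fun h => ?_, fun e => by rw [e, MonoidHom.one_comp]⟩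
      have := DFunLike.congr_fun e ⟨(h : G), (Subgroup.mem_inf.mp h.2).1⟩
      rwa [MonoidHom.comp_apply, proj_two_point hT ho (g := ⟨(h : G), (Subgroup.mem_inf.mp h.2).1⟩) h.2] at this
    simp only [hiff]
    split_ifs
    · exact inv_mul_cancel₀ (Nat.cast_ne_zero.mpr Nat.card_pos.ne')
    · exact mul_zero _
  have hStc : IsCharacter G (J 1 - (one : G → ℂ)) := by
    refine Chars.isCharacter_of_isClassFunction_of_nat (Chars.isClassFunction_sub
      (Chars.isClassFunction_indFun _ _) (Chars.irr_isClassFunction one)) fun χ => ?_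
    rw [Chars.classInner_sub_left]
    rcases eq_or_ne one χ with h | h
    · subst h
      exact ⟨0, by rw [hJone, Chars.classInner_irr_self, if_pos rfl, sub_self, Nat.cast_zero]⟩
    · rw [Chars.classInner_irr_of_ne h, sub_zero]
      exact Chars.isCharacter_classInner_nat (hJc 1) (Chars.irr_isCharacter χ)
  have honeJ : ∀ ψ, classInner (one : G → ℂ) (J ψ) = if ψ = 1 then 1 else 0 := fun ψ => by
    rw [← Chars.conj_classInner, hJone]; split_ifs <;> simp
  have hStirr : IsIrrCharacter G (J 1 - (one : G → ℂ)) := by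
    rw [Chars.isIrrCharacter_iff_classInner_eq_one hStc, Chars.classInner_sub_left,
      Chars.classInner_sub_right, Chars.classInner_sub_right, hJJ, hJone, honeJ, Chars.classInner_irr_self,
      hom_mul_one]
    simp
  let st : IrrCharacter G := ⟨_, hStirr⟩
  let Ψ := {ψ : ↥(stabilizer G p ⊓ stabilizer G o) →* ℂˣ // ψ ≠ 1}
  have hne_inv : ∀ ψ : Ψ, ψ.1 * ψ.1 ≠ 1 := by
    intro ψ e
    refine ψ.2 (MonoidHom.ext fun h => ?_)
    have h2' : (ψ.1 h) ^ 2 = 1 := by rw [pow_two]; exact DFunLike.congr_fun e h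
    rw [MonoidHom.one_apply, ← orderOf_eq_one_iff]
    exact Nat.dvd_one.mp (hodd.coprime_two_right ▸ Nat.dvd_gcd
      ((orderOf_map_dvd ψ.1 h).trans (orderOf_dvd_natCard h)) (orderOf_dvd_of_pow_eq_one h2'))
  have hJirr : ∀ ψ : Ψ, IsIrrCharacter G (J ψ.1) := by
    intro ψ
    rw [Chars.isIrrCharacter_iff_classInner_eq_one (hJc ψ.1), hJJ, if_pos rfl, if_neg (hne_inv ψ), add_zero]
  let Jirr : Ψ → IrrCharacter G := fun ψ => ⟨_, hJirr ψ⟩
  have : Finite Ψ := by
    have : Finite (↥(stabilizer G p ⊓ stabilizer G o) →* ℂˣ) :=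
      Finite.of_injective _ (Chars.linIrr_injective (G := ↥(stabilizer G p ⊓ stabilizer G o)))
    infer_instance
  let : Fintype Ψ := Fintype.ofFinite _
  let L' : Finset (IrrCharacter G) := Finset.univ.image Jirr
  have hL' : 2 * L'.card + 1 = d := by
    have hfib : ∀ χ ∈ L', (Finset.univ.filter fun ψ => Jirr ψ = χ).card = 2 := by
      intro χ hχ
      obtain ⟨ψ, -, rfl⟩ := Finset.mem_image.mp hχ
      let ψ' : Ψ := ⟨ψ.1⁻¹, hom_inv_ne_one ψ.2⟩
      have hne : ψ ≠ ψ' := fun e => hne_inv ψ (by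
        conv_lhs => arg 2; rw [show ψ.1 = ψ.1⁻¹ from congrArg Subtype.val e]
        exact hom_mul_inv_eq_one.mpr rfl)
      refine Finset.card_eq_two.mpr ⟨ψ, ψ', hne, ?_⟩
      ext φ
      simp only [Finset.mem_filter, Finset.mem_univ, true_and, Finset.mem_insert, Finset.mem_singleton]
      constructor
      · intro e
        have e1 := hJJ φ.1 ψ.1
        rw [show J φ.1 = J ψ.1 from congrArg Subtype.val e, hJJ, if_pos rfl, if_neg (hne_inv ψ), add_zero] at e1
        by_cases h1 : φ.1 = ψ.1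
        · exact Or.inl (Subtype.ext h1)
        · right
          rw [if_neg h1, zero_add] at e1
          by_cases h2' : φ.1 * ψ.1 = 1
          · exact Subtype.ext (hom_eq_inv_of_mul_eq_one h2')
          · rw [if_neg h2'] at e1; exact absurd e1 one_ne_zero
      · rintro (rfl | rfl)
        · rfl
        · by_contra hcon
          have h1 : classInner (J ψ'.1) (J ψ.1) = 0 := Chars.classInner_irr_of_ne hcon
          rw [hJJ, if_neg (fun e => hne (Subtype.ext e.symm)), if_pos (hom_inv_mul_self ψ.1), zero_add] at h1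
          exact one_ne_zero h1
    have h1 := Finset.card_eq_sum_card_image Jirr (Finset.univ : Finset Ψ)
    rw [Finset.sum_congr rfl hfib, Finset.sum_const, smul_eq_mul, Finset.card_univ,
      ← Nat.card_eq_fintype_card] at h1
    have h2' : Nat.card Ψ + 1 = d := by
      rw [← Finite.card_option, Nat.card_congr (Equiv.optionSubtypeNe _), Chars.card_monoidHom_units,
        commutator_def, (Subgroup.commutator_eq_bot_iff_le_centralizer).mpr
          (fun x _ => Subgroup.mem_centralizer_iff.mpr fun y _ => Subtype.ext (hcomm _ y.2 _ x.2)), Subgroup.index_bot]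
    have h3' : L'.card = (Finset.univ.image Jirr).card := rfl
    omega
  have hone_st : one ≠ st := by
    intro e
    have h1 := Chars.classInner_irr_self one
    conv_lhs at h1 => arg 1; rw [e]
    rw [show (st : G → ℂ) = J 1 - (one : G → ℂ) from rfl, Chars.classInner_sub_left, hJone,
      Chars.classInner_irr_self, if_pos rfl, sub_self] at h1
    exact zero_ne_one h1
  have hnotmem : one ∉ L' ∧ st ∉ L' := by
    constructor <;> intro h <;> obtain ⟨ψ, -, e⟩ := Finset.mem_image.mp h
    · have h1 := Chars.classInner_irr_self one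
      conv_lhs at h1 => arg 1; rw [← e]
      rw [show ((Jirr ψ : IrrCharacter G) : G → ℂ) = J ψ.1 from rfl, hJone, if_neg ψ.2] at h1
      exact zero_ne_one h1
    · have h1 := Chars.classInner_irr_self st
      conv_lhs at h1 => arg 1; rw [← e]
      rw [show ((Jirr ψ : IrrCharacter G) : G → ℂ) = J ψ.1 from rfl,
        show (st : G → ℂ) = J 1 - (one : G → ℂ) from rfl, Chars.classInner_sub_right, hJJ, hJone,
        if_neg ψ.2, if_neg (show ¬ ψ.1 * 1 = 1 by rw [hom_mul_one]; exact ψ.2), add_zero, sub_zero] at h1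
      exact zero_ne_one h1
  have hm_one : ∀ lam, m one lam = if lam = 1 then 1 else 0 := by
    intro lam
    apply Nat.cast_injective (R := ℂ)
    rw [← hm, hone]; split_ifs <;> simp
  have hm_st : ∀ lam, m st lam = 1 := by
    intro lam
    apply Nat.cast_injective (R := ℂ)
    rw [← hm, show (st : G → ℂ) = J 1 - (one : G → ℂ) from rfl, Chars.classInner_sub_right, hIJ, hone]
    simp
  have hm_J : ∀ χ ∈ L', ∀ lam, m χ lam = (if lam = 1 then 1 else 0) + 1 := by
    intro χ hχ lam
    obtain ⟨ψ, -, rfl⟩ := Finset.mem_image.mp hχ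
    apply Nat.cast_injective (R := ℂ)
    rw [← hm, show ((Jirr ψ : IrrCharacter G) : G → ℂ) = J ψ.1 from rfl, hIJ]
    split_ifs <;> norm_num
  let L : Finset (IrrCharacter G) := insert one (insert st L')
  have hsumL : ∀ f : IrrCharacter G → ℕ, ∑ χ ∈ L, f χ = f one + (f st + ∑ χ ∈ L', f χ) := by
    intro f
    rw [Finset.sum_insert, Finset.sum_insert hnotmem.2]
    simp [hone_st, hnotmem.1]
  have hrest : ∀ lam μ, (∑ χ ∈ Lᶜ, m χ lam * m χ μ) + (∑ χ ∈ L, m χ lam * m χ μ) =
      d + (Finset.univ.filter fun h : ↥(stabilizer G p ⊓ stabilizer G o) => μ.comp (cj hT h) = lam).card := by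
    intro lam μ
    rw [← hgram, Finset.sum_compl_add_sum]
  -- the trivial character of the kernel does not occur in the remaining characters
  have hm0 : ∀ χ, χ ∉ L → m χ 1 = 0 := by
    intro χ hχ
    have h1 := hrest 1 1
    rw [hsumL, hm_one, hm_st, if_pos rfl,
      Finset.sum_congr rfl (fun x hx => by rw [hm_J x hx, if_pos rfl] : ∀ x ∈ L', m x 1 * m x 1 = 4),
      Finset.sum_const, smul_eq_mul, Finset.filter_true_of_mem (fun h _ => by simp), Finset.card_univ,
      ← Nat.card_eq_fintype_card] at h1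
    have h0 : ∑ x ∈ Lᶜ, m x 1 * m x 1 = 0 := by omega
    exact mul_self_eq_zero.mp (Finset.sum_eq_zero_iff.mp h0 χ (Finset.mem_compl.mpr hχ))
  -- orbits of nontrivial linear characters
  let Λ := {lam : T →* ℂˣ // lam ≠ 1}
  have hne1 : ∀ (lam : T →* ℂˣ) (h : ↥(stabilizer G p ⊓ stabilizer G o)), lam ≠ 1 → lam.comp (cj hT h) ≠ 1 := by
    intro lam h hl e
    refine hl (MonoidHom.ext fun t => ?_)
    have := DFunLike.congr_fun e (cj hT h⁻¹ t)
    rw [MonoidHom.comp_apply, cj_cj, inv_mul_cancel] at this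
    rwa [show cj hT (1 : ↥(stabilizer G p ⊓ stabilizer G o)) t = t from Subtype.ext (by rw [coe_cj]; simp)] at this
  have hact : ∀ (lam : T →* ℂˣ) (g h : ↥(stabilizer G p ⊓ stabilizer G o)), (lam.comp (cj hT g)).comp (cj hT h) = lam.comp (cj hT (h * g)) :=
    fun lam g h => MonoidHom.ext fun t => congrArg lam (cj_cj hT g h t)
  have hid : ∀ lam : T →* ℂˣ, lam.comp (cj hT (1 : ↥(stabilizer G p ⊓ stabilizer G o))) = lam := fun lam =>
    MonoidHom.ext fun t => congrArg lam (Subtype.ext (by rw [coe_cj]; simp))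
  let S : Setoid Λ := ⟨fun a b => ∃ h, a.1.comp (cj hT h) = b.1,
    ⟨fun a => ⟨1, hid _⟩, fun ⟨h, e⟩ => ⟨h⁻¹, by rw [← e, hact, inv_mul_cancel, hid]⟩,
      fun ⟨g, e⟩ ⟨h, e'⟩ => ⟨h * g, by rw [← e', ← e, hact]⟩⟩⟩
  let R := Quotient S
  have : Finite Λ := inferInstance
  let : Fintype R := Fintype.ofFinite R
  let rep : R → Λ := Quotient.out
  have hcount : ∀ i j : R, (Finset.univ.filter fun h : ↥(stabilizer G p ⊓ stabilizer G o) =>
      (rep j).1.comp (cj hT h) = (rep i).1).card = if i = j then 1 else 0 := by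
    intro i j
    split_ifs with hij
    · subst hij
      rw [Finset.card_eq_one]
      refine ⟨1, ?_⟩
      ext h
      simp only [Finset.mem_filter, Finset.mem_univ, true_and, Finset.mem_singleton]
      refine ⟨fun e => by_contra fun hh => (rep i).2 (eq_one_of_invariant h3 hT ho hh e), ?_⟩
      rintro rfl; exact hid _
    · rw [Finset.card_eq_zero, Finset.filter_eq_empty_iff]
      intro h _ e
      refine hij ?_
      have : Quotient.mk S (rep j) = Quotient.mk S (rep i) := Quotient.sound ⟨h, e⟩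
      simp only [rep, Quotient.out_eq] at this
      exact this.symm
  let E : R × ↥(stabilizer G p ⊓ stabilizer G o) → Λ := fun x =>
    ⟨(rep x.1).1.comp (cj hT x.2), hne1 _ _ (rep x.1).2⟩
  have hE : Function.Bijective E := by
    constructor
    · rintro ⟨i, g⟩ ⟨j, h⟩ e
      have e' : (rep i).1.comp (cj hT g) = (rep j).1.comp (cj hT h) := congrArg Subtype.val e
      have hij : i = j := by
        have h1 : Quotient.mk S (rep i) = Quotient.mk S (E (i, g)) := Quotient.sound ⟨g, rfl⟩
        have h2' : Quotient.mk S (rep j) = Quotient.mk S (E (j, h)) := Quotient.sound ⟨h, rfl⟩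
        rw [e, ← h2'] at h1
        simpa only [rep, Quotient.out_eq] using h1
      subst hij
      have : (rep i).1.comp (cj hT (h⁻¹ * g)) = (rep i).1 := by
        rw [← hact, e', hact, inv_mul_cancel, hid]
      by_contra hgh
      exact (rep i).2 (eq_one_of_invariant h3 hT ho
        (fun e1 => hgh (Prod.ext rfl (inv_mul_eq_one.mp e1).symm)) this)
    · intro lam
      obtain ⟨h, hh⟩ : S.r (rep (Quotient.mk S lam)) lam := Quotient.exact (Quotient.out_eq _)
      exact ⟨(Quotient.mk S lam, h), Subtype.ext hh⟩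
  have hrd : Fintype.card R * d + 1 = Nat.card T := by
    rw [← hcardΛ, ← Nat.card_congr (Equiv.optionSubtypeNe (1 : T →* ℂˣ)), Finite.card_option,
      ← Nat.card_congr (Equiv.ofBijective E hE), Nat.card_prod, Nat.card_eq_fintype_card]
  have hm_inv : ∀ χ (lam : T →* ℂˣ) (h : ↥(stabilizer G p ⊓ stabilizer G o)), lam ≠ 1 → m χ (lam.comp (cj hT h)) = m χ lam := by
    intro χ lam h hl
    have hone' : ∀ k : ↥(stabilizer G p ⊓ stabilizer G o), (Finset.univ.filter fun g : ↥(stabilizer G p ⊓ stabilizer G o) =>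
        lam.comp (cj hT g) = lam.comp (cj hT k)).card = 1 := by
      intro k
      rw [Finset.card_eq_one]
      refine ⟨k, ?_⟩
      ext g
      simp only [Finset.mem_filter, Finset.mem_univ, true_and, Finset.mem_singleton]
      refine ⟨fun e => by_contra fun hh => hl (eq_one_of_invariant h3 hT ho (h := k⁻¹ * g)
        (fun e1 => hh (inv_mul_eq_one.mp e1).symm) (by rw [← hact, e, hact, inv_mul_cancel, hid])), ?_⟩
      rintro rfl; rfl
    have h11 : ∑ χ, m χ (lam.comp (cj hT h)) * m χ lam = d + 1 := by rw [hgram, hone']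
    have h22 : ∑ χ, m χ lam * m χ lam = d + 1 := by
      rw [hgram]
      have := hone' 1
      simp only [hid] at this
      rw [this]
    have h33 : ∑ χ, m χ (lam.comp (cj hT h)) * m χ (lam.comp (cj hT h)) = d + 1 := by
      rw [hgram]
      congr 1
      rw [Finset.card_eq_one]
      refine ⟨1, ?_⟩
      ext g
      simp only [Finset.mem_filter, Finset.mem_univ, true_and, Finset.mem_singleton]
      refine ⟨fun e => by_contra fun hh => hne1 lam h hl (eq_one_of_invariant h3 hT ho hh e), ?_⟩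
      rintro rfl; exact hid _
    have hsq : ∑ χ, ((m χ (lam.comp (cj hT h)) : ℤ) - m χ lam) ^ 2 = 0 := by
      have e1 : ∀ χ, ((m χ (lam.comp (cj hT h)) : ℤ) - m χ lam) ^ 2 =
          ((m χ (lam.comp (cj hT h)) * m χ (lam.comp (cj hT h)) : ℕ) : ℤ) +
            ((m χ lam * m χ lam : ℕ) : ℤ) - 2 * ((m χ (lam.comp (cj hT h)) * m χ lam : ℕ) : ℤ) :=
        fun χ => by push_cast; ring
      simp only [e1, Finset.sum_sub_distrib, Finset.sum_add_distrib, ← Finset.mul_sum, ← Nat.cast_sum,
        h11, h22, h33]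
      ring
    have := sq_eq_zero_iff.mp ((Finset.sum_eq_zero_iff_of_nonneg fun x _ => sq_nonneg _).mp hsq χ
      (Finset.mem_univ χ))
    omega
  have hdeg : ∀ χ, χ ∉ L → (χ : G → ℂ) 1 = ((d * ∑ i : R, m χ (rep i).1 : ℕ) : ℂ) := by
    intro χ hχ
    rw [hdegsum]
    congr 1
    rw [Fintype.sum_eq_add_sum_subtype_ne (fun lam => m χ lam) 1, hm0 χ hχ, zero_add,
      show (∑ lam : {lam : T →* ℂˣ // lam ≠ 1}, m χ lam.1) = ∑ x, m χ (E x).1 from
        ((Equiv.ofBijective E hE).sum_comp fun lam => m χ lam.1).symm, Fintype.sum_prod_type, Finset.mul_sum]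
    refine Finset.sum_congr rfl fun i _ => ?_
    rw [Finset.sum_congr rfl fun h _ => hm_inv χ _ h (rep i).2, Finset.sum_const, Finset.card_univ,
      smul_eq_mul, ← Nat.card_eq_fintype_card]
  -- the contradiction
  by_contra hlt
  push Not at hlt
  have hΩ := hT.card_add_one ho
  have hr : 3 ≤ Fintype.card R := by
    by_contra h
    push Not at h
    have : Fintype.card R * d ≤ 2 * d := Nat.mul_le_mul_right d (by omega)
    omega
  set r := Fintype.card R with hrdef
  have hGcard : Nat.card G = (Nat.card T + 1) * (Nat.card T * d) := by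
    rw [Inversion.card_group h2 hT ho, ← hT.card_add_one ho, Nat.add_sub_cancel]
  have hdpos : 0 < d := Nat.card_pos
  have hdiv : ∀ χ, χ ∉ L → 0 < ∑ i : R, m χ (rep i).1 ∧
      (∑ i : R, m χ (rep i).1) ∣ (Nat.card T + 1) * Nat.card T := by
    intro χ hχ
    obtain ⟨k, hk0, hk, hkdvd⟩ := Chars.irr_degree_dvd_card χ
    rw [hdeg χ hχ, Nat.cast_inj] at hk
    refine ⟨Nat.pos_of_ne_zero fun e => ?_, ?_⟩
    · rw [e, mul_zero] at hk; omega
    · rw [← hk, hGcard, ← mul_assoc, mul_comm _ d] at hkdvd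
      exact Nat.dvd_of_mul_dvd_mul_left hdpos hkdvd
  let K := {χ : IrrCharacter G // χ ∉ L}
  let M : K → R → ℤ := fun χ i => (m χ.1 (rep i).1 : ℤ)
  have hMgram : ∀ i j, ∑ x, M x i * M x j = (L'.card : ℤ) + if i = j then 1 else 0 := by
    intro i j
    have h1 := hrest (rep i).1 (rep j).1
    rw [hcount, hsumL, hm_one, hm_one, hm_st, hm_st, if_neg (rep i).2, if_neg (rep j).2,
      Finset.sum_congr rfl (fun x hx => by rw [hm_J x hx, hm_J x hx, if_neg (rep i).2, if_neg (rep j).2] :
        ∀ x ∈ L', m x (rep i).1 * m x (rep j).1 = 1),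
      Finset.sum_const, smul_eq_mul] at h1
    have h2' : ∑ χ ∈ Lᶜ, m χ (rep i).1 * m χ (rep j).1 = L'.card + if i = j then 1 else 0 := by
      split_ifs at h1 ⊢ <;> omega
    calc ∑ x : K, M x i * M x j = ((∑ x : K, m x.1 (rep i).1 * m x.1 (rep j).1 : ℕ) : ℤ) := by
          push_cast; rfl
      _ = _ := by
          rw [← Finset.sum_subtype Lᶜ (fun _ => Finset.mem_compl) fun χ => m χ (rep i).1 * m χ (rep j).1, h2']
          push_cast; rfl
  have hnc : ∀ x : K, ∃ i j, M x i ≠ M x j := by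
    intro x
    by_contra hcon
    push Not at hcon
    obtain ⟨hpos, hdvd⟩ := hdiv x.1 x.2
    obtain ⟨i₀⟩ : Nonempty R := Fintype.card_pos_iff.mp (by omega)
    have hall : ∀ i, m x.1 (rep i).1 = m x.1 (rep i₀).1 := fun i => Int.ofNat_inj.mp (hcon i i₀)
    rw [Finset.sum_congr rfl fun i _ => hall i, Finset.sum_const, Finset.card_univ, smul_eq_mul] at hdvd
    have h1 : r ∣ (Nat.card T + 1) * Nat.card T := (Dvd.intro _ rfl).trans hdvd
    have h4 : r ∣ r * d * (r * d + 3) + 2 := by
      rw [← hrd] at h1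
      rwa [show (r * d + 1 + 1) * (r * d + 1) = r * d * (r * d + 3) + 2 by ring] at h1
    rw [Nat.dvd_add_right (dvd_mul_of_dvd_left (Dvd.intro d rfl) _)] at h4
    have := Nat.le_of_dvd (by norm_num) h4
    omega
  have hKne : Nonempty K := Fintype.card_pos_iff.mp (lt_of_lt_of_le (by omega)
    (FeitArith.card_le_of_gram M _ (Int.natCast_nonneg _) hMgram))
  obtain ⟨x⟩ := hKne
  obtain ⟨σ, hA, hσ⟩ := FeitArith.coherent hr M _ (Int.natCast_nonneg _) hMgram hnc x
  rw [← hrdef] at hA hσ
  obtain ⟨-, hdvd⟩ := hdiv x.1 x.2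
  have hu : ((r : ℤ) * σ + 1) ∣ ((Nat.card T : ℤ) + 1) * Nat.card T := by
    have h1 : (∑ i, M x i) ∣ ((Nat.card T : ℤ) + 1) * Nat.card T := by
      have := Int.natCast_dvd_natCast.mpr hdvd
      push_cast at this
      exact this
    rcases sq_eq_sq_iff_eq_or_eq_neg.mp hσ with e | e
    · rwa [← e]
    · rw [e, neg_dvd] at h1
      exact h1
  have hdA : (d : ℤ) = 2 * (L'.card : ℤ) + 1 := by omega
  have hn : (Nat.card T : ℤ) = r * d + 1 := by exact_mod_cast hrd.symm
  have hu2 : ((r : ℤ) * σ + 1) ∣ ((r : ℤ) - 1) := by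
    have h1 : ((r : ℤ) * σ + 1) ∣ (r : ℤ) * (r - 1) := by
      have e : ((Nat.card T : ℤ) + 1) * Nat.card T = (r : ℤ) * (r - 1) +
          ((r : ℤ) * σ + 1) * (2 * ((r : ℤ) * σ + 1) * (2 * ((r : ℤ) * σ + 1) ^ 2 + 2 * r - 1)) := by
        rw [hn, hdA, hA]; ring
      rw [e] at hu
      exact (dvd_add_left (Dvd.intro _ rfl)).mp hu
    exact (IsCoprime.dvd_of_dvd_mul_left ⟨1, -σ, by ring⟩ h1)
  have hr' : (3 : ℤ) ≤ r := by exact_mod_cast hr
  have hApos : 1 ≤ L'.card := by omega
  have hσ1 : σ = -1 := by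
    have hbound := Int.le_of_dvd (by linarith) (Int.natAbs_dvd.mpr hu2)
    rcases lt_trichotomy σ (-1) with h | h | h
    · exfalso
      have : ((r : ℤ) * σ + 1).natAbs = -((r : ℤ) * σ + 1) := by
        rw [Int.ofNat_natAbs_of_nonpos]; nlinarith
      rw [this] at hbound
      nlinarith
    · exact h
    · exfalso
      rcases (by omega : σ = 0 ∨ 1 ≤ σ) with e | e
      · have h0 : (L'.card : ℤ) = 0 := by rw [hA, e]; ring
        omega
      · have : (((r : ℤ) * σ + 1).natAbs : ℤ) = (r : ℤ) * σ + 1 := Int.natAbs_of_nonneg (by nlinarith)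
        rw [this] at hbound
        nlinarith
  have hA2 : L'.card + 2 = r := by
    rw [hσ1] at hA
    have : (L'.card : ℤ) + 2 = r := by linarith
    exact_mod_cast this
  -- a small invariant subgroup
  have hnval : Nat.card T = (r - 1) * (2 * r - 1) := by
    obtain ⟨k, hk⟩ : ∃ k, r = k + 3 := ⟨r - 3, by omega⟩
    have : d = 2 * k + 3 := by omega
    rw [← hrd, this, hk, show k + 3 - 1 = k + 2 by omega, show 2 * (k + 3) - 1 = 2 * k + 5 by omega]
    ring
  let : CommGroup T := { (inferInstance : Group T) with mul_comm := fun a b => mul_comm' a b }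
  let W := (powMonoidHom (r - 1) : T →* T).ker
  let V := (powMonoidHom (r - 1) : T →* T).range
  have hcop : (r - 1).Coprime (2 * r - 1) := by
    obtain ⟨k, hk⟩ : ∃ k, r = k + 1 := ⟨r - 1, by omega⟩
    rw [hk, show k + 1 - 1 = k by omega, show 2 * (k + 1) - 1 = 1 + 2 * k by omega]
    simp
  have hWexp : ∀ w : W, w ^ (r - 1) = 1 := fun w => Subtype.ext (MonoidHom.mem_ker.mp w.2)
  have hVexp : ∀ w : V, w ^ (2 * r - 1) = 1 := by
    rintro ⟨_, t, rfl⟩
    refine Subtype.ext ?_
    show (t ^ (r - 1)) ^ (2 * r - 1) = 1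
    rw [← pow_mul, ← hnval, pow_card_eq_one']
  have hWV : Nat.card W * Nat.card V = (r - 1) * (2 * r - 1) := by
    rw [← hnval, ← Subgroup.index_ker, Subgroup.card_mul_index]
  have hWcard : Nat.card W = r - 1 := by
    have h1 : Nat.card W ∣ r - 1 :=
      (coprime_card_of_pow_eq_one hcop hWexp).dvd_of_dvd_mul_right (hWV ▸ Dvd.intro _ rfl)
    have h2' : Nat.card V ∣ 2 * r - 1 :=
      (coprime_card_of_pow_eq_one hcop.symm hVexp).dvd_of_dvd_mul_left (hWV ▸ Dvd.intro_left _ rfl)
    have h3' := Nat.le_of_dvd (by omega) h1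
    have h4 := Nat.le_of_dvd (by omega) h2'
    by_contra hne
    have := Nat.mul_lt_mul_of_lt_of_le (show Nat.card W < r - 1 by omega) h4 (by omega)
    omega
  obtain ⟨w, hw, hw1⟩ := W.bot_or_exists_ne_one.resolve_left fun e => by
    rw [e, Subgroup.card_bot] at hWcard; omega
  have hbig : d + 1 ≤ Nat.card W := by
    show Nat.card ↥(stabilizer G p ⊓ stabilizer G o) + 1 ≤ Nat.card W
    rw [← Finite.card_option]
    refine Nat.card_le_card_of_injective (fun h => h.elim (1 : W) fun h => (⟨cj hT h w, by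
      rw [MonoidHom.mem_ker] at hw ⊢
      show (cj hT h w) ^ (r - 1) = 1
      rw [← map_pow, show w ^ (r - 1) = 1 from hw, map_one]⟩ : W)) ?_
    have key : ∀ h : ↥(stabilizer G p ⊓ stabilizer G o), cj hT h w = w → h = 1 := by
      intro h e
      by_contra hh
      refine hw1 (Subtype.ext (KernelAction.eq_one_of_conj_eq h3 hT ho (inv_mem h.2)
        (fun e1 => hh (Subtype.ext (inv_eq_one.mp e1))) w.2 ?_))
      have := congrArg Subtype.val e
      rw [coe_cj] at this
      rw [inv_inv]; exact this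
    rintro (_ | g) (_ | h) e
    · rfl
    · have e' : cj hT h w = 1 := (congrArg Subtype.val e).symm
      refine absurd ?_ hw1
      have := congrArg (cj hT h⁻¹) e'
      rwa [map_one, cj_cj, mul_inv_cancel, show cj hT (1 : ↥(stabilizer G p ⊓ stabilizer G o)) w = w from Subtype.ext (by rw [coe_cj]; simp)] at this
    · have e' : cj hT g w = 1 := congrArg Subtype.val e
      refine absurd ?_ hw1
      have := congrArg (cj hT g⁻¹) e'
      rwa [map_one, cj_cj, mul_inv_cancel, show cj hT (1 : ↥(stabilizer G p ⊓ stabilizer G o)) w = w from Subtype.ext (by rw [coe_cj]; simp)] at this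
    · have e' : cj hT g w = cj hT h w := congrArg Subtype.val e
      have := congrArg (cj hT h⁻¹) e'
      rw [cj_cj, cj_cj, mul_inv_cancel, show cj hT (1 : ↥(stabilizer G p ⊓ stabilizer G o)) w = w from Subtype.ext (by rw [coe_cj]; simp)] at this
      exact congrArg some (mul_inv_eq_one.mp (key _ this))
  omega

end Cfsg.Agent.Lib.Perm.Feit
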