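import Cfsg.Agent.Lib.Perm.SharplyTwo
import Cfsg.Agent.S0695

/-!
Normal subgroups of multiply transitive groups: Jordan's theorem, normal subgroups of multiply
primitive groups, Wagner's theorem.
-/

set_option autoImplicit false

namespace Cfsg.Agent.Lib.Perm

open MulAction SubMulAction

universe u v

section

variable {G : Type u} [Group G] {X : Type v} [MulAction G X]

theorem faithful_ofStabilizer [FaithfulSMul G X] (a : X) :
    FaithfulSMul (stabilizer G a) (ofStabilizer G a) :=
  ⟨fun {g h} e => Subtype.ext (FaithfulSMul.eq_of_smul_eq_smul (α := X) fun x => by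
    by_cases hx : x = a
    · subst hx
      rw [mem_stabilizer_iff.mp g.2, mem_stabilizer_iff.mp h.2]
    · exact congrArg Subtype.val (e ⟨x, hx⟩))⟩

theorem natCard_ofStabilizer [Finite X] (a : X) :
    Nat.card (ofStabilizer G a) = Nat.card X - 1 := by
  have : Nat.card (ofStabilizer G a) = ({a}ᶜ : Set X).ncard := by
    rw [← Nat.card_coe_set_eq]; rfl
  rw [this, Set.ncard_compl, Set.ncard_singleton]

/-- Raising the transitivity degree of a transitive subgroup by one. -/
theorem succ_pretransitive_of_subgroupOf {k : ℕ} (N : Subgroup G) (a : X) [IsPretransitive N X]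
    (h : IsMultiplyPretransitive (N.subgroupOf (stabilizer G a)) (ofStabilizer G a) k) :
    IsMultiplyPretransitive N X (k + 1) := by
  refine isMultiplyPretransitive_of_tuples fun x y hx hy => ?_
  obtain ⟨u, hu⟩ := exists_smul_eq N (x 0) a
  obtain ⟨v, hv⟩ := exists_smul_eq N (y 0) a
  have hxa : ∀ i : Fin k, u • x i.succ ≠ a := fun i e =>
    Fin.succ_ne_zero i (hx (smul_left_cancel u (e.trans hu.symm)))
  have hya : ∀ i : Fin k, v • y i.succ ≠ a := fun i e =>
    Fin.succ_ne_zero i (hy (smul_left_cancel v (e.trans hv.symm)))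
  obtain ⟨g, hg⟩ := exists_smul_tuple h
    (x := fun i : Fin k => (⟨u • x i.succ, hxa i⟩ : ofStabilizer G a))
    (y := fun i : Fin k => (⟨v • y i.succ, hya i⟩ : ofStabilizer G a))
    (fun i j e => Fin.succ_injective _ (hx (smul_left_cancel u (congrArg Subtype.val e))))
    (fun i j e => Fin.succ_injective _ (hy (smul_left_cancel v (congrArg Subtype.val e))))
  refine ⟨v⁻¹ * (⟨(g : stabilizer G a), g.2⟩ : N) * u, fun i => ?_⟩
  rw [mul_smul, mul_smul, inv_smul_eq_iff]
  refine Fin.cases ?_ (fun j => ?_) i
  · rw [hu, hv]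
    exact (g : stabilizer G a).2
  · exact congrArg Subtype.val (hg j)

theorem subgroupOf_stabilizer_ne_bot {N : Subgroup G} {a : X} (h : stabilizer N a ≠ ⊥) :
    N.subgroupOf (stabilizer G a) ≠ ⊥ := fun e => h (stabilizer_subgroup_eq_bot_iff.mpr
      fun n hn hna => congrArg Subtype.val ((Subgroup.eq_bot_iff_forall _).mp e ⟨n, hna⟩ hn))

theorem stabilizer_eq_bot_of_conj (N : Subgroup G) [N.Normal] [IsPretransitive G X] {a : X}
    (ha : stabilizer N a = ⊥) (b : X) : stabilizer N b = ⊥ := by
  obtain ⟨g, rfl⟩ := exists_smul_eq G a b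
  refine stabilizer_subgroup_eq_bot_iff.mpr fun n hn hnb => ?_
  have := stabilizer_subgroup_eq_bot_iff.mp ha (g⁻¹ * n * g)
    (by simpa using Subgroup.Normal.conj_mem ‹_› n hn g⁻¹)
    (by rw [mul_smul, mul_smul, hnb, inv_smul_smul])
  rw [mul_eq_one_iff_eq_inv, mul_eq_left (a := g⁻¹)] at this
  exact this

/-- If a point stabiliser of a transitive subgroup is semiregular on the other points, all
two-point stabilisers are trivial. -/
theorem stabilizer_eq_bot_of_two (N : Subgroup G) {a : X}
    (h : ∀ b : ofStabilizer G a, stabilizer (N.subgroupOf (stabilizer G a)) b = ⊥)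
    {g : N} (x : Fin 2 ↪ X) (hg : g • x 0 = a) : stabilizer N x = ⊥ := by
  refine (Subgroup.eq_bot_iff_forall _).mpr fun n hn => ?_
  have h0 : n • x 0 = x 0 := DFunLike.congr_fun (mem_stabilizer_iff.mp hn) 0
  have h1 : n • x 1 = x 1 := DFunLike.congr_fun (mem_stabilizer_iff.mp hn) 1
  have hb : g • x 1 ≠ a := fun e => absurd (x.injective (smul_left_cancel g (e.trans hg.symm))) (by decide)
  have hga : (g * n * g⁻¹) • a = a := by
    rw [mul_smul, mul_smul, ← hg, inv_smul_smul, h0]
  have hgb : (g * n * g⁻¹) • g • x 1 = g • x 1 := by rw [mul_smul, mul_smul, inv_smul_smul, h1]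
  have := stabilizer_subgroup_eq_bot_iff.mp (h ⟨g • x 1, hb⟩)
    ⟨((g * n * g⁻¹ : N) : G), hga⟩ (g * n * g⁻¹).2 (Subtype.ext hgb)
  have h'' : ((g * n * g⁻¹ : N) : G) = 1 := congrArg Subtype.val this
  have h' : g * n * g⁻¹ = 1 := Subtype.ext h''
  rw [mul_inv_eq_one, mul_eq_left] at h'
  exact h'

theorem card_embedding_le [Finite G] [Finite X] (m : ℕ) (h : IsMultiplyPretransitive G X m)
    (hm : m ≤ Nat.card X) : (Nat.card X).descFactorial m ≤ Nat.card G := by
  classical
  haveI : Fintype X := Fintype.ofFinite X
  rw [Nat.card_eq_fintype_card] at hm ⊢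
  obtain ⟨x⟩ : Nonempty (Fin m ↪ X) :=
    Function.Embedding.nonempty_of_card_le (by rwa [Fintype.card_fin])
  have := Nat.card_le_card_of_surjective (fun g : G => g • x) (fun y => h.exists_smul_eq x y)
  rwa [Nat.card_eq_fintype_card, Fintype.card_embedding_eq, Fintype.card_fin] at this

/-- A normal subgroup all of whose point stabilisers are regular of exponent two on the other
points cannot occur in degree at least four. -/
theorem not_abelian_exp_two_stabilizer [FaithfulSMul G X] [Finite X] (N : Subgroup G)
    (h2 : IsMultiplyPretransitive N X 2) (hs : ∀ x : Fin 2 ↪ X, stabilizer N x = ⊥) {a : X}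
    (hc : ∀ u ∈ N, ∀ v ∈ N, u • a = a → v • a = a → u * v = v * u)
    (he : ∀ u ∈ N, u • a = a → u ^ 2 = 1) : Nat.card X ≤ 3 := by
  by_contra! h4
  haveI : Nontrivial X := Finite.one_lt_card_iff_nontrivial.mp (by omega)
  haveI : IsPretransitive N X := isPretransitive_of_two h2
  -- `N` is sharply doubly transitive; two involutions of `N_a` invert the regular kernel
  obtain ⟨p, j, hp, -, hj, hN, T, hTn, hTc, -, -, hTt, hTs, -⟩ := sharplyTwo_kernel (G := N) h2 hs
  obtain ⟨b, hb⟩ := exists_ne a
  obtain ⟨c, hc'⟩ : ∃ c : X, c ∉ ({a, b} : Set X) := by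
    by_contra! hall
    have := Set.ncard_le_ncard (s := Set.univ) (t := ({a, b} : Set X)) (fun x _ => hall x)
    rw [Set.ncard_univ, Set.ncard_pair hb.symm] at this
    omega
  simp only [Set.mem_insert_iff, Set.mem_singleton_iff, not_or] at hc'
  obtain ⟨c', hc''⟩ : ∃ c' : X, c' ∉ ({a, b, c} : Set X) := by
    by_contra! hall
    have := Set.ncard_le_ncard (s := Set.univ) (t := ({a, b, c} : Set X)) (fun x _ => hall x)
    rw [Set.ncard_univ] at this
    have h' := Set.ncard_insert_le a ({b, c} : Set X)
    rw [Set.ncard_pair (Ne.symm hc'.2)] at h'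
    omega
  simp only [Set.mem_insert_iff, Set.mem_singleton_iff, not_or] at hc''
  obtain ⟨u, hua, hub⟩ := exists_smul_two h2 hb.symm (Ne.symm hc'.1)
  obtain ⟨v, hva, hvb⟩ := exists_smul_two h2 hb.symm (Ne.symm hc''.1)
  -- a non-trivial involution fixing `a` inverts `T`
  have hinv : ∀ w : N, w • a = a → w ≠ 1 → ∀ t ∈ T, w * t * w⁻¹ = t⁻¹ := by
    intro w hwa hw1 t ht
    have hw2 : w * w = 1 := Subtype.ext (by
      have := he w w.2 hwa
      rw [pow_two] at this
      exact this)
    set t' := w * t * w⁻¹ with ht'
    have ht'T : t' ∈ T := hTn.conj_mem t ht w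
    have hfix : (w : N) * (t' * t) * w⁻¹ = t' * t := by
      have h1 : w * t' * w⁻¹ = t := by
        rw [ht', show w * (w * t * w⁻¹) * w⁻¹ = (w * w) * t * (w * w)⁻¹ by group, hw2]; simp
      rw [show w * (t' * t) * w⁻¹ = (w * t' * w⁻¹) * (w * t * w⁻¹) by group, h1, ← ht']
      exact congrArg Subtype.val (hTc.is_comm.comm ⟨t, ht⟩ ⟨t', ht'T⟩)
    have hs' : (t' * t) • a = a := by
      by_contra hne
      have : w • ((t' * t) • a) = (t' * t) • a := by
        rw [← conj_smul_of_fix (G := N) hwa, hfix]
      exact hw1 (eq_one_of_fix_two hs (Ne.symm hne) hwa this)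
    have := stabilizer_subgroup_eq_bot_iff.mp (hTs a) _ (T.mul_mem ht'T ht) hs'
    exact eq_inv_of_mul_eq_one_left this
  have hu1 : u ≠ 1 := by rintro rfl; exact hc'.2 (by simpa using hub.symm)
  have hv1 : v ≠ 1 := by rintro rfl; exact hc''.2.1 (by simpa using hvb.symm)
  have huv : u * v = 1 := by
    haveI := sharplyTwo_faithful (G := N) hs
    refine eq_one_of_commute_transitive (G := N) T (fun t ht => ?_) (a := a)
      (by rw [mul_smul, hva, hua])
    have : (u * v) * t * (u * v)⁻¹ = t := by
      rw [show (u * v) * t * (u * v)⁻¹ = u * (v * t * v⁻¹) * u⁻¹ by group, hinv v hva hv1 t ht,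
        hinv u hua hu1 _ (T.inv_mem ht), inv_inv]
    exact mul_inv_eq_iff_eq_mul.mp this
  have hu2 : u * u = 1 := Subtype.ext (by
    have := he u u.2 hua
    rw [pow_two] at this
    exact this)
  have : v = u := mul_left_cancel (huv.trans hu2.symm)
  exact hc''.2.2 (by rw [← hvb, this, hub])

end

/-- Restriction of a multiply transitive action to a point stabiliser. -/
theorem stabilizer_pretransitive {G : Type u} [Group G] {X : Type v} [MulAction G X] {k : ℕ}
    [IsPretransitive G X] (h : IsMultiplyPretransitive G X (k + 1)) (a : X) :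
    IsMultiplyPretransitive (stabilizer G a) (ofStabilizer G a) k :=
  (SubMulAction.ofStabilizer.isMultiplyPretransitive (a := a)).mp h

/-- **Jordan**: a non-trivial normal subgroup of a faithful `(k+2)`-transitive group of degree
greater than `k + 2` is `(k+1)`-transitive, or `k + 2 = 3` and it is regular. -/
theorem jordan : ∀ (k : ℕ) {G : Type u} [Group G] {X : Type v} [MulAction G X] [FaithfulSMul G X]
    [Finite X], k + 2 < Nat.card X → IsMultiplyPretransitive G X (k + 2) →
    ∀ (N : Subgroup G) [N.Normal], N ≠ ⊥ →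
      IsMultiplyPretransitive N X (k + 1) ∨ (k = 1 ∧ ∀ a : X, stabilizer N a = ⊥)
  | 0, G, _, X, _, _, _, hdeg, hG, N, _, hN => by
    left
    have := normal_isPretransitive_of_two hG N hN
    exact is_one_pretransitive_iff.mpr this
  | k + 1, G, _, X, _, _, _, hdeg, hG, N, _, hN => by
    have h2 : IsMultiplyPretransitive G X 2 :=
      isMultiplyPretransitive_of_le (n := k + 1 + 2) (by omega) (by omega)
    haveI : IsPretransitive G X := isPretransitive_of_two h2
    haveI : IsPretransitive N X := normal_isPretransitive_of_two h2 N hN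
    obtain ⟨a⟩ : Nonempty X := (Nat.card_pos_iff.mp (by omega)).1
    by_cases ha : stabilizer N a = ⊥
    · rcases k with _ | k
      · exact Or.inr ⟨rfl, stabilizer_eq_bot_of_conj N ha⟩
      · exfalso
        have h4 : IsMultiplyPretransitive G X 4 :=
          isMultiplyPretransitive_of_le (n := k + 1 + 1 + 2) (by omega) (by omega)
        have := regularNormal_card_le_four N h4 ha
        omega
    · haveI := faithful_ofStabilizer (G := G) a
      have hcard := natCard_ofStabilizer (G := G) a
      have hsub : (N.subgroupOf (stabilizer G a)).Normal := inferInstance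
      rcases jordan k (G := stabilizer G a) (X := ofStabilizer G a) (by omega)
        (stabilizer_pretransitive hG a) (N.subgroupOf (stabilizer G a))
        (subgroupOf_stabilizer_ne_bot ha) with h | ⟨rfl, hreg⟩
      · exact Or.inl (succ_pretransitive_of_subgroupOf N a h)
      · exfalso
        have hG3 : IsMultiplyPretransitive (stabilizer G a) (ofStabilizer G a) 3 :=
          stabilizer_pretransitive hG a
        have hG2 : IsMultiplyPretransitive (stabilizer G a) (ofStabilizer G a) 2 :=
          isMultiplyPretransitive_of_le (n := 3) (by omega) (by omega)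
        set M := N.subgroupOf (stabilizer G a)
        haveI : IsPretransitive M (ofStabilizer G a) :=
          normal_isPretransitive_of_two hG2 M (subgroupOf_stabilizer_ne_bot ha)
        haveI : Nontrivial (ofStabilizer G a) := Finite.one_lt_card_iff_nontrivial.mp (by omega)
        obtain ⟨b⟩ : Nonempty (ofStabilizer G a) := inferInstance
        obtain ⟨p, -, hMc, -, -⟩ := regularNormal_elementaryAbelian M hG2 (hreg b)
        have hN2 : IsMultiplyPretransitive N X 2 :=
          succ_pretransitive_of_subgroupOf N a (is_one_pretransitive_iff.mpr inferInstance)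
        have hM2 : ∀ u ∈ N, u • a = a → u ^ 2 = 1 := fun u hu hua => congrArg Subtype.val
          (regularNormal_sq_eq_one M hG3 (hreg b) (by omega) (n := ⟨u, hua⟩) hu)
        have hcomm : ∀ u ∈ N, ∀ v ∈ N, u • a = a → v • a = a → u * v = v * u :=
          fun u hu v hv hua hva => congrArg (fun z : M => ((z : stabilizer G a) : G))
            (hMc.is_comm.comm ⟨⟨u, hua⟩, hu⟩ ⟨⟨v, hva⟩, hv⟩)
        refine absurd (not_abelian_exp_two_stabilizer N hN2 (fun x => ?_) hcomm hM2) (by omega)
        obtain ⟨g, hg⟩ := exists_smul_eq N (x 0) a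
        exact stabilizer_eq_bot_of_two N (hreg ·) x hg

/-- A normal subgroup of a multiply primitive group that is not the full symmetric group. -/
theorem normal_of_multiplyPreprimitive : ∀ (k : ℕ) {G : Type u} [Group G] {X : Type v}
    [MulAction G X] [FaithfulSMul G X] [Finite X], k + 1 ≤ Nat.card X →
    IsMultiplyPreprimitive G X (k + 1) → Nat.card G < (Nat.card X).factorial →
    ∀ (H : Subgroup G) [H.Normal], H ≠ ⊥ → (∃ a : X, stabilizer H a ≠ ⊥) →
      IsMultiplyPretransitive H X (k + 1)
  | 0, G, _, X, _, _, _, hk, hG, _, H, _, hH, _ => by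
    haveI : IsPreprimitive G X := (is_one_preprimitive_iff G X).mp hG
    exact is_one_pretransitive_iff.mpr (normal_isPretransitive_of_ne_bot H hH)
  | k + 1, G, _, X, _, _, _, hk, hG, hcardG, H, _, hH, ⟨a', ha'⟩ => by
    have hG1 : IsMultiplyPretransitive G X (k + 1 + 1) :=
      IsMultiplyPreprimitive.isMultiplyPretransitive G X _
    have h2 : IsMultiplyPretransitive G X 2 :=
      isMultiplyPretransitive_of_le (n := k + 1 + 1) (by omega) hk
    haveI : IsPretransitive G X := isPretransitive_of_two h2
    haveI : IsPretransitive H X := normal_isPretransitive_of_two h2 H hH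
    set a := a'
    haveI := faithful_ofStabilizer (G := G) a
    haveI hpa : IsMultiplyPreprimitive (stabilizer G a) (ofStabilizer G a) (k + 1) :=
      isMultiplyPreprimitive_ofStabilizer G X
    have hcard := natCard_ofStabilizer (G := G) a
    set M := H.subgroupOf (stabilizer G a)
    have hMne : M ≠ ⊥ := subgroupOf_stabilizer_ne_bot ha'
    have hGa : Nat.card G = Nat.card X * Nat.card (stabilizer G a) := by
      rw [← index_stabilizer_of_transitive G a, mul_comm, Subgroup.card_mul_index]
    have hfac : (Nat.card X).factorial = Nat.card X * (Nat.card X - 1).factorial :=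
      (Nat.mul_factorial_pred (by omega)).symm
    have hfewer : Nat.card (stabilizer G a) < (Nat.card (ofStabilizer G a)).factorial := by
      rw [hcard]
      rw [hGa, hfac] at hcardG
      exact Nat.lt_of_mul_lt_mul_left hcardG
    refine succ_pretransitive_of_subgroupOf H a ?_
    by_cases hnr : ∃ b : ofStabilizer G a, stabilizer M b ≠ ⊥
    · exact normal_of_multiplyPreprimitive k (by omega) hpa hfewer M hMne hnr
    push Not at hnr
    rcases k with _ | k
    · haveI : IsPreprimitive (stabilizer G a) (ofStabilizer G a) :=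
        (is_one_preprimitive_iff _ _).mp hpa
      exact is_one_pretransitive_iff.mpr (normal_isPretransitive_of_ne_bot M hMne)
    exfalso
    haveI : Finite G := Finite.of_injective _ (MulAction.toPerm_injective (α := G) (β := X))
    haveI : Fintype (ofStabilizer G a) := Fintype.ofFinite _
    have hprim2 : IsMultiplyPreprimitive (stabilizer G a) (ofStabilizer G a) 2 :=
      isMultiplyPreprimitive_of_le _ _ hpa (by omega) (by
        rw [ENat.card_eq_coe_fintype_card, ← Nat.card_eq_fintype_card]
        exact_mod_cast (show k + 1 + 1 ≤ Nat.card (ofStabilizer G a) by omega))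
    have hp2 : IsMultiplyPretransitive (stabilizer G a) (ofStabilizer G a) 2 :=
      hprim2.isMultiplyPretransitive
    haveI : IsPretransitive M (ofStabilizer G a) := normal_isPretransitive_of_two hp2 M hMne
    have h3lt : 3 ≤ Nat.card X := by omega
    rcases Cfsg.Agent.S0695.result (by rw [← Nat.card_eq_fintype_card]; omega) hprim2 M inferInstance hnr
      with h3 | ⟨hMc, hM2, -⟩
    · rw [← Nat.card_eq_fintype_card, hcard] at h3
      have h4 : Nat.card X = 4 := by omega
      have := card_embedding_le (G := G) (X := X) 3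
        (isMultiplyPretransitive_of_le (n := k + 1 + 1 + 1) (by omega) hk) (by omega)
      rw [h4] at this hcardG
      simp [Nat.descFactorial, Nat.factorial] at this hcardG
      omega
    · have hN2 : IsMultiplyPretransitive H X 2 :=
        succ_pretransitive_of_subgroupOf H a (is_one_pretransitive_iff.mpr inferInstance)
      have hcomm : ∀ u ∈ H, ∀ v ∈ H, u • a = a → v • a = a → u * v = v * u :=
        fun u hu v hv hua hva => congrArg (fun z : M => ((z : stabilizer G a) : G))
          (hMc.is_comm.comm ⟨⟨u, hua⟩, hu⟩ ⟨⟨v, hva⟩, hv⟩)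
      have hle := not_abelian_exp_two_stabilizer H hN2 (fun x => by
          obtain ⟨g, hg⟩ := exists_smul_eq H (x 0) a
          exact stabilizer_eq_bot_of_two H (hnr ·) x hg) hcomm
        (fun u hu hua => congrArg Subtype.val (hM2 ⟨u, hua⟩ hu))
      have h3 : Nat.card X = 3 := by omega
      have := card_embedding_le (G := G) (X := X) 3
        (isMultiplyPretransitive_of_le (n := k + 1 + 1 + 1) (by omega) hk) (by omega)
      rw [h3] at this hcardG
      simp [Nat.descFactorial, Nat.factorial] at this hcardG
      omega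

end Cfsg.Agent.Lib.Perm
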