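import Mathlib
import Cfsg.Agent.Lib.Perm.ZassenhausBasics
import Cfsg.Agent.Lib.Perm.OddStabiliser
import Cfsg.Agent.Lib.Perm.Feit
import Cfsg.Agent.Lib.Perm.Inversion

/-! Zassenhaus groups with an abelian kernel. -/

set_option autoImplicit false

namespace Cfsg.Agent.Lib.Perm.AbelianKernel

open MulAction
open Cfsg.Agent.Lib.Perm.Zassenhaus Cfsg.Agent.Lib.Perm.AffineCoords

universe u v

/-- The two-point stabiliser acts semiregularly on the other points. -/
theorem card_stab_two_dvd {G Ω : Type*} [Group G] [MulAction G Ω] [Finite G] [Fintype Ω]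
    (h3 : FixAtMostTwo G Ω) {p o : Ω} (hpo : p ≠ o) :
    Nat.card ↥(stabilizer G p ⊓ stabilizer G o) ∣ Fintype.card Ω - 2 := by
  classical
  let X := {x : Ω // x ∈ ({p, o} : Finset Ω)ᶜ}
  have hmove : ∀ (g : ↥(stabilizer G p ⊓ stabilizer G o)) (x : X),
      (g : G) • (x : Ω) ∈ ({p, o} : Finset Ω)ᶜ := by
    intro g x
    obtain ⟨hp, ho⟩ := Subgroup.mem_inf.mp g.2
    have hx := x.2
    simp only [Finset.mem_compl, Finset.mem_insert, Finset.mem_singleton, not_or] at hx ⊢
    exact ⟨fun h => hx.1 (smul_left_cancel (g : G) (h.trans hp.symm)),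
      fun h => hx.2 (smul_left_cancel (g : G) (h.trans ho.symm))⟩
  let : MulAction ↥(stabilizer G p ⊓ stabilizer G o) X :=
    { smul := fun g x => ⟨(g : G) • (x : Ω), hmove g x⟩
      one_smul := fun x => Subtype.ext (one_smul G (x : Ω))
      mul_smul := fun g h x => Subtype.ext (mul_smul (g : G) (h : G) (x : Ω)) }
  have hfree : ∀ x : X, stabilizer ↥(stabilizer G p ⊓ stabilizer G o) x = ⊥ := by
    intro x
    rw [Subgroup.eq_bot_iff_forall]
    intro g hg
    obtain ⟨hp, ho⟩ := Subgroup.mem_inf.mp g.2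
    have hx := x.2
    simp only [Finset.mem_compl, Finset.mem_insert, Finset.mem_singleton, not_or] at hx
    exact Subtype.ext (h3 (g : G) p o x hpo (Ne.symm hx.2) (Ne.symm hx.1) hp ho
      (congrArg Subtype.val hg))
  have e := Nat.card_congr (MulAction.selfEquivSigmaOrbitsQuotientStabilizer
    ↥(stabilizer G p ⊓ stabilizer G o) X)
  rw [Nat.card_sigma] at e
  have hX : Nat.card X = Fintype.card Ω - 2 := by
    rw [Nat.card_eq_finsetCard, Finset.card_compl, Finset.card_pair hpo]
  rw [← hX, e]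
  refine Finset.dvd_sum fun ω _ => ?_
  rw [← Subgroup.index_eq_card, hfree, Subgroup.index_bot]

/-- If the two-point stabiliser has the largest possible order, the action is triply transitive. -/
theorem three_pretransitive {G Ω : Type*} [Group G] [MulAction G Ω] [Finite G] [Fintype Ω]
    (h2 : IsMultiplyPretransitive G Ω 2) (h3 : FixAtMostTwo G Ω) {p o : Ω} (hpo : p ≠ o)
    (hd : Nat.card ↥(stabilizer G p ⊓ stabilizer G o) = Fintype.card Ω - 2) :
    IsMultiplyPretransitive G Ω 3 ∧ ∀ t : Fin 3 ↪ Ω, stabilizer G t = ⊥ := by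
  classical
  refine ⟨?_, fun t => ?_⟩
  · rw [isMultiplyPretransitive_iff]
    intro x y
    have hxy : ∀ i j : Fin 3, i ≠ j → x i ≠ x j := fun i j h e => h (x.injective e)
    have hyy : ∀ i j : Fin 3, i ≠ j → y i ≠ y j := fun i j h e => h (y.injective e)
    obtain ⟨g, hg0, hg1⟩ := exists_smul_pair h2 (hxy 0 1 (by decide)) (hyy 0 1 (by decide))
    obtain ⟨c, hc0, hc1⟩ := exists_smul_pair h2 hpo (hyy 0 1 (by decide))
    let Z := {z : Ω // z ∈ ({y 0, y 1} : Finset Ω)ᶜ}
    have hz : ∀ z : Ω, z ∈ ({y 0, y 1} : Finset Ω)ᶜ ↔ z ≠ y 0 ∧ z ≠ y 1 := fun z => by simp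
    have hgx : g • x 2 ∈ ({y 0, y 1} : Finset Ω)ᶜ := (hz _).mpr
      ⟨fun e => hxy 2 0 (by decide) (smul_left_cancel g (e.trans hg0.symm)),
       fun e => hxy 2 1 (by decide) (smul_left_cancel g (e.trans hg1.symm))⟩
    let f : ↥(stabilizer G p ⊓ stabilizer G o) → Z := fun h =>
      ⟨(c * h * c⁻¹) • g • x 2, by
        obtain ⟨hp, ho⟩ := Subgroup.mem_inf.mp h.2
        obtain ⟨e0, e1⟩ := (hz _).mp hgx
        refine (hz _).mpr ⟨fun e => e0 ?_, fun e => e1 ?_⟩
        · refine smul_left_cancel (c * h * c⁻¹) (e.trans ?_)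
          rw [← hc0, conj_fix hp]
        · refine smul_left_cancel (c * h * c⁻¹) (e.trans ?_)
          rw [← hc1, conj_fix ho]⟩
    have hf : Function.Bijective f := by
      rw [Nat.bijective_iff_injective_and_card]
      refine ⟨fun a b e => ?_, ?_⟩
      · obtain ⟨hp, ho⟩ := Subgroup.mem_inf.mp (mul_mem (inv_mem b.2) a.2)
        obtain ⟨e0, e1⟩ := (hz _).mp hgx
        have e' : (c * a * c⁻¹) • g • x 2 = (c * b * c⁻¹) • g • x 2 := congrArg Subtype.val e
        have h1 := h3 (c * ((b : G)⁻¹ * (a : G)) * c⁻¹) (y 0) (y 1) (g • x 2) (hyy 0 1 (by decide))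
          (Ne.symm e1) (Ne.symm e0) (by rw [← hc0]; exact conj_fix hp) (by rw [← hc1]; exact conj_fix ho)
          (by rw [show c * ((b : G)⁻¹ * (a : G)) * c⁻¹ = (c * b * c⁻¹)⁻¹ * (c * a * c⁻¹) by group,
              mul_smul, e', inv_smul_smul])
        exact Subtype.ext (inv_mul_eq_one.mp (conj_eq_one_iff.mp h1)).symm
      · rw [hd, Nat.card_eq_finsetCard, Finset.card_compl, Finset.card_pair (hyy 0 1 (by decide))]
    obtain ⟨h, hh⟩ := hf.2 ⟨y 2, (hz _).mpr ⟨hyy 2 0 (by decide), hyy 2 1 (by decide)⟩⟩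
    obtain ⟨hp, ho⟩ := Subgroup.mem_inf.mp h.2
    refine ⟨c * h * c⁻¹ * g, Function.Embedding.ext fun i => ?_⟩
    rw [Function.Embedding.smul_apply, mul_smul]
    fin_cases i
    · show (c * h * c⁻¹) • g • x 0 = y 0
      rw [hg0, ← hc0, conj_fix hp]
    · show (c * h * c⁻¹) • g • x 1 = y 1
      rw [hg1, ← hc1, conj_fix ho]
    · exact congrArg Subtype.val hh
  · rw [Subgroup.eq_bot_iff_forall]
    intro g hg
    have e : ∀ i, g • t i = t i := fun i => by rw [← Function.Embedding.smul_apply, mem_stabilizer_iff.mp hg]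
    exact h3 g (t 0) (t 1) (t 2) (t.injective.ne (by decide)) (t.injective.ne (by decide))
      (t.injective.ne (by decide)) (e 0) (e 1) (e 2)

/-- Odd two-point stabilisers in a Zassenhaus group with abelian kernel. -/
theorem odd_case {Ω : Type v} [Fintype Ω] :
    ∀ (N : ℕ) {G : Type u} [Group G] [MulAction G Ω] [Finite G], Nat.card G ≤ N →
      Cfsg.IsZassenhausGroup G Ω → ∀ {p o : Ω} {T : Subgroup G}, IsKernel T p → o ≠ p →
      Odd (Nat.card ↥(stabilizer G p ⊓ stabilizer G o)) →
      Fintype.card Ω - 2 ≤ 2 * Nat.card ↥(stabilizer G p ⊓ stabilizer G o) ∧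
        ∀ s : G, s • p = o → s • o = p → ∀ h ∈ stabilizer G p ⊓ stabilizer G o, s * h * s⁻¹ = h⁻¹ := by
  classical
  intro N
  induction N with
  | zero =>
    intro G _ _ _ hN
    exact absurd (Nat.card_pos (α := G)) (by omega)
  | succ N ih =>
    intro G _ _ _ hN hZ p o T hT ho hodd
    have hZ' := hZ
    obtain ⟨hF, h2, h3, hfix, -⟩ := hZ'
    cases nonempty_fintype G
    obtain ⟨g₀, hg₀, hgp, hgo⟩ := Cfsg.Agent.Lib.Zassenhaus.exists_fix_pair h2 hfix (Ne.symm ho)
    set H := stabilizer G p ⊓ stabilizer G o with hHdef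
    have hd1 : 1 < Nat.card H := (Subgroup.one_lt_card_iff_ne_bot H).mpr fun e => hg₀ (by
      have : g₀ ∈ H := Subgroup.mem_inf.mpr ⟨hgp, hgo⟩
      rwa [e, Subgroup.mem_bot] at this)
    have hdvd := card_stab_two_dvd h3 (p := p) (o := o) (Ne.symm ho)
    obtain ⟨c, hcp, hco⟩ := exists_third hfix p o
    have hn3 : 3 ≤ Fintype.card Ω := Fintype.two_lt_card_iff.mpr ⟨p, o, c, Ne.symm ho, hcp.symm, hco.symm⟩
    have hcardG := Inversion.card_group h2 hT ho
    have hn : Nat.card T + 1 = Fintype.card Ω := hT.card_add_one ho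
    have hnil : ∀ q : ℕ, q.Prime → q ∣ Nat.card H →
        ¬ ∃ M : Subgroup G, M.Normal ∧ M.index = q ^ (Nat.card G).factorization q := by
      rintro q hq hqd ⟨M, hMn, hMi⟩
      have hqG : q ∣ Nat.card G := hqd.trans (Subgroup.card_subgroup_dvd_card H)
      have hk : 1 ≤ (Nat.card G).factorization q := hq.factorization_pos_of_dvd Nat.card_pos.ne' hqG
      have hq2 : q ≠ 2 := fun e => by
        rw [e, ← even_iff_two_dvd] at hqd
        exact Nat.not_even_iff_odd.mpr hodd hqd
      -- the kernel lies in `M`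
      have hqn : ¬ q ∣ Nat.card T := by
        intro h
        have h1 : q ∣ Fintype.card Ω - 2 := hqd.trans hdvd
        have := Nat.dvd_sub h h1
        rw [show Nat.card T - (Fintype.card Ω - 2) = 1 by omega] at this
        exact hq.ne_one (Nat.dvd_one.mp this)
      have hTM : T ≤ M := by
        intro t ht
        rw [← QuotientGroup.eq_one_iff, ← orderOf_eq_one_iff]
        refine Nat.dvd_one.mp ?_
        have hcop : (q ^ (Nat.card G).factorization q).Coprime (Nat.card T) :=
          ((Nat.Prime.coprime_iff_not_dvd hq).mpr hqn).pow_left _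
        rw [← hcop]
        refine Nat.dvd_gcd ?_ ((orderOf_map_dvd (QuotientGroup.mk' M) t).trans
          (Subgroup.orderOf_dvd_natCard T ht))
        rw [← hMi, Subgroup.index_eq_card]
        exact orderOf_dvd_natCard _
      have hMne : M ≠ ⊥ := by
        intro e
        obtain ⟨⟨t, ht⟩, ht1⟩ := (hT.regular o c ho hcp).exists
        have := hTM ht
        rw [e, Subgroup.mem_bot] at this
        subst this
        exact hco (by simpa using ht1.symm)
      have hZM := Cfsg.Agent.Lib.Zassenhaus.isZassenhausGroup_normal hZ M hMne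
      have hMcard : Nat.card M * q ^ (Nat.card G).factorization q = Nat.card G := by
        rw [← hMi, Subgroup.card_mul_index]
      have hMlt : Nat.card M < Nat.card G := by
        rw [← hMcard]
        exact lt_mul_of_one_lt_right Nat.card_pos (Nat.one_lt_pow (by omega) hq.one_lt)
      have hTM' : IsKernel (T.subgroupOf M) p := by
        refine ⟨fun t ht => hT.le ht, fun g hg t ht => hT.conj_mem _ hg _ ht,
          fun a ha b hb => Subtype.ext (hT.comm _ ha _ hb), fun y z hy hz => ?_⟩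
        obtain ⟨t, ht, huniq⟩ := hT.regular y z hy hz
        refine ⟨⟨⟨t, hTM t.2⟩, t.2⟩, ht, fun u hu => ?_⟩
        have e := congrArg Subtype.val (huniq ⟨_, u.2⟩ hu)
        apply Subtype.ext; apply Subtype.ext
        exact e
      let HM : Subgroup M := H.subgroupOf M
      have hHM : stabilizer M p ⊓ stabilizer M o = HM := rfl
      have hdM : Nat.card HM ∣ Nat.card H :=
        Subgroup.card_dvd_of_injective ((M.subtype.comp HM.subtype).codRestrict H fun x => x.2)
          fun a b e => Subtype.ext (Subtype.ext (congrArg (fun y : H => (y : G)) e))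
      have hb := (ih (by omega) hZM hTM' ho (hHM ▸ hodd.of_dvd_nat hdM)).1
      rw [hHM] at hb
      have hcM := Inversion.card_group (G := M) hZM.2.1 hTM' ho
      rw [hHM] at hcM
      have hkey : Nat.card HM * q ^ (Nat.card G).factorization q = Nat.card H := by
        generalize (Nat.card G).factorization q = k at hMcard ⊢
        rw [hcM, hcardG, mul_assoc, mul_assoc] at hMcard
        exact Nat.eq_of_mul_eq_mul_left (show 0 < Fintype.card Ω - 1 by omega)
          (Nat.eq_of_mul_eq_mul_left (show 0 < Fintype.card Ω by omega) hMcard)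
      have h3q : 3 ≤ q ^ (Nat.card G).factorization q :=
        (show 3 ≤ q by have := hq.two_le; omega).trans (Nat.le_self_pow (by omega) q)
      have hle := Nat.le_of_dvd (by omega) hdvd
      have h4 : Nat.card HM * 3 ≤ Nat.card H := (Nat.mul_le_mul_left _ h3q).trans hkey.le
      have hpos : 0 < Nat.card HM := Nat.card_pos
      rw [← hHdef] at hle
      omega
    obtain ⟨-, -, hinv⟩ := OddStabiliser.odd_inverted h2 h3 hfix (Ne.symm ho) hodd hnil
    obtain ⟨s, hs1, hs2⟩ := exists_smul_pair h2 (Ne.symm ho) ho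
    exact ⟨Feit.card_le_two_mul h2 h3 hT ho hodd hd1 hs1 hs2 (hinv s hs1 hs2), hinv⟩

/-- Zassenhaus groups with abelian kernel: the two possibilities. -/
theorem dichotomy {G : Type u} {Ω : Type v} [Group G] [MulAction G Ω] [Finite G] [Fintype Ω]
    (hZ : Cfsg.IsZassenhausGroup G Ω) {p o : Ω} {T : Subgroup G} (hT : IsKernel T p) (ho : o ≠ p) :
    Nat.card ↥(stabilizer G p ⊓ stabilizer G o) = Fintype.card Ω - 2 ∨
    (2 * Nat.card ↥(stabilizer G p ⊓ stabilizer G o) = Fintype.card Ω - 2 ∧
      ∀ s : G, s • p = o → s • o = p → ∀ h ∈ stabilizer G p ⊓ stabilizer G o, s * h * s⁻¹ = h⁻¹) := by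
  have hZ' := hZ
  obtain ⟨hF, h2, h3, hfix, -⟩ := hZ'
  obtain ⟨c, hcp, hco⟩ := exists_third hfix p o
  have hn3 : 3 ≤ Fintype.card Ω := Fintype.two_lt_card_iff.mpr ⟨p, o, c, Ne.symm ho, hcp.symm, hco.symm⟩
  obtain ⟨k, hk⟩ := card_stab_two_dvd h3 (p := p) (o := o) (Ne.symm ho)
  have hpos : 0 < Nat.card ↥(stabilizer G p ⊓ stabilizer G o) := Nat.card_pos
  have key : Fintype.card Ω - 2 ≤ 2 * Nat.card ↥(stabilizer G p ⊓ stabilizer G o) →
      Nat.card ↥(stabilizer G p ⊓ stabilizer G o) = Fintype.card Ω - 2 ∨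
        2 * Nat.card ↥(stabilizer G p ⊓ stabilizer G o) = Fintype.card Ω - 2 := by
    intro hle
    have hk2 : k ≤ 2 := by
      by_contra h
      have := Nat.mul_le_mul_left (Nat.card ↥(stabilizer G p ⊓ stabilizer G o)) (Nat.lt_of_not_le h : 3 ≤ k)
      omega
    interval_cases k <;> omega
  rcases Nat.even_or_odd (Nat.card ↥(stabilizer G p ⊓ stabilizer G o)) with he | hodd
  · obtain ⟨hle, hinvol⟩ := swap_count h2 h3 (Ne.symm ho) hn3 he
    rcases key hle with h | h
    · exact Or.inl h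
    · exact Or.inr ⟨h, fun s h1 h2' g hg =>
        ZassenhausBasics.inverts_of_swaps_involutions (hinvol h.le) h1 h2' hg⟩
  · obtain ⟨hle, hinv⟩ := odd_case (Nat.card G) le_rfl hZ hT ho hodd
    rcases key hle with h | h
    · exact Or.inl h
    · exact Or.inr ⟨h, hinv⟩

end Cfsg.Agent.Lib.Perm.AbelianKernel
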