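import Mathlib
import Cfsg.Agent.Lib.Perm.Feit
import Cfsg.Agent.Lib.Chars.DegreesOneP
import Cfsg.Agent.Lib.Zassenhaus.InducedLinear

/-! A two-transitive group with abelian kernel whose two-point stabiliser is transitive on the
kernel and has a nontrivial linear character invariant under a swap is not simple. -/

set_option autoImplicit false

namespace Cfsg.Agent.Lib.Perm.InvariantLinear

open MulAction Cfsg
open Cfsg.Agent.Lib.Perm.Zassenhaus Cfsg.Agent.Lib.Perm.AffineCoords
open scoped ComplexConjugate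

universe u v

variable {G : Type u} {Ω : Type v} [Group G] [MulAction G Ω] [Fintype G] [Fintype Ω]
  {T : Subgroup G} {p o : Ω}

open Classical in
/-- Values on the point stabiliser of the character induced from an invariant linear character. -/
theorem indFun_stab [IsPretransitive G Ω] (hT : IsKernel T p) (ho : o ≠ p) {s : G} (hsp : s • p = o)
    (hso : s • o = p) (ψ : ↥(stabilizer G p ⊓ stabilizer G o) →* ℂˣ)
    (hinv : ∀ (h : G) (hh : h ∈ stabilizer G p ⊓ stabilizer G o)
      (hh' : s⁻¹ * h * s ∈ stabilizer G p ⊓ stabilizer G o), ψ ⟨s⁻¹ * h * s, hh'⟩ = ψ ⟨h, hh⟩)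
    (g : stabilizer G p) :
    indFun (stabilizer G p) (fun x => (ψ (Feit.proj hT ho x) : ℂ)) g =
      (ψ (Feit.proj hT ho g) : ℂ) * ((Finset.univ.filter fun y : Ω => (g : G) • y = y).card : ℂ) := by
  set θ : stabilizer G p → ℂ := fun x => (ψ (Feit.proj hT ho x) : ℂ) with hθ
  let C : Ω → ℂ := fun y => if (g : G) • y = y then (ψ (Feit.proj hT ho g) : ℂ) else 0
  have hconj : ∀ (a b : stabilizer G p), ψ (Feit.proj hT ho (a⁻¹ * b * a)) = ψ (Feit.proj hT ho b) := by
    intro a b
    simp only [map_mul, map_inv]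
    rw [mul_comm, mul_inv_cancel_left]
  have hC : ∀ x : G, extendByZero (stabilizer G p) θ (x⁻¹ * g * x) = C (x • p) := by
    intro x
    by_cases hfix : (g : G) • (x • p) = x • p
    swap
    · simp only [C, if_neg hfix]
      refine Chars.extendByZero_of_not_mem _ fun h => hfix ?_
      rw [mem_stabilizer_iff, mul_smul, mul_smul, inv_smul_eq_iff] at h
      exact h
    have hmem : x⁻¹ * (g : G) * x ∈ stabilizer G p := by
      rw [mem_stabilizer_iff, mul_smul, mul_smul, inv_smul_eq_iff, hfix]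
    rw [Chars.extendByZero_of_mem θ hmem]
    simp only [C, if_pos hfix, θ]
    congr 1
    by_cases hxp : x • p = p
    · rw [← hconj ⟨x, hxp⟩ g]; rfl
    · obtain ⟨u, hu⟩ := (hT.regular o (x • p) ho hxp).exists
      have hh : (u : G)⁻¹ * g * u ∈ stabilizer G p ⊓ stabilizer G o := by
        refine Subgroup.mem_inf.mpr ⟨mul_mem (mul_mem (inv_mem (hT.le u.2)) g.2) (hT.le u.2), ?_⟩
        rw [mem_stabilizer_iff, mul_smul, mul_smul, hu, hfix, inv_smul_eq_iff, hu]
      have hx' : s⁻¹ * (u : G)⁻¹ * x ∈ stabilizer G p := by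
        rw [mem_stabilizer_iff, mul_smul, mul_smul, inv_smul_eq_iff, inv_smul_eq_iff, hsp, hu]
      have hh' : s⁻¹ * ((u : G)⁻¹ * g * u) * s ∈ stabilizer G p ⊓ stabilizer G o := by
        obtain ⟨h1, h2⟩ := Subgroup.mem_inf.mp hh
        refine Subgroup.mem_inf.mpr ⟨?_, ?_⟩
        · rw [mem_stabilizer_iff, mul_smul, mul_smul, hsp, mem_stabilizer_iff.mp h2, inv_smul_eq_iff, hsp]
        · rw [mem_stabilizer_iff, mul_smul, mul_smul, hso, mem_stabilizer_iff.mp h1, inv_smul_eq_iff, hso]
      have e2 : (⟨x⁻¹ * (g : G) * x, hmem⟩ : stabilizer G p) = (⟨_, hx'⟩ : stabilizer G p)⁻¹ *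
          ⟨_, (Subgroup.mem_inf.mp hh').1⟩ * ⟨_, hx'⟩ := by
        refine Subtype.ext ?_
        show x⁻¹ * (g : G) * x = (s⁻¹ * (u : G)⁻¹ * x)⁻¹ * (s⁻¹ * ((u : G)⁻¹ * g * u) * s) *
          (s⁻¹ * (u : G)⁻¹ * x)
        group
      rw [e2, hconj, Feit.proj_two_point hT ho (g := ⟨_, (Subgroup.mem_inf.mp hh').1⟩) hh', hinv _ hh,
        ← hconj ⟨u, hT.le u.2⟩ g]
      congr 1
      exact (Feit.proj_two_point hT ho
        (g := (⟨(u : G), hT.le u.2⟩ : stabilizer G p)⁻¹ * g * ⟨(u : G), hT.le u.2⟩) hh).symm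
  simp only [indFun]
  rw [Finset.sum_congr rfl fun x _ => hC x, Feit.sum_smul_point,
    inv_mul_cancel_left₀ (Nat.cast_ne_zero.mpr Nat.card_pos.ne')]
  simp only [C]
  rw [← Finset.sum_filter, Finset.sum_const, nsmul_eq_mul, mul_comm]

/-- The induced character has norm two. -/
theorem classInner_self_eq_two [Fintype (stabilizer G p)] (h2 : IsMultiplyPretransitive G Ω 2)
    (hT : IsKernel T p) (ho : o ≠ p) {s : G} (hsp : s • p = o) (hso : s • o = p)
    (ψ : ↥(stabilizer G p ⊓ stabilizer G o) →* ℂˣ)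
    (hinv : ∀ (h : G) (hh : h ∈ stabilizer G p ⊓ stabilizer G o)
      (hh' : s⁻¹ * h * s ∈ stabilizer G p ⊓ stabilizer G o), ψ ⟨s⁻¹ * h * s, hh'⟩ = ψ ⟨h, hh⟩) :
    classInner (indFun (stabilizer G p) fun x => (ψ (Feit.proj hT ho x) : ℂ))
      (indFun (stabilizer G p) fun x => (ψ (Feit.proj hT ho x) : ℂ)) = 2 := by
  classical
  haveI := h2
  have : IsPretransitive G Ω := MulAction.isPretransitive_of_is_two_pretransitive
  rw [Chars.classInner_indFun_left _ _ _ (Chars.isClassFunction_indFun _ _)]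
  simp only [classInner, indFun_stab hT ho hsp hso ψ hinv, map_mul, Complex.conj_natCast]
  have h1 : ∀ x : stabilizer G p,
      (ψ (Feit.proj hT ho x) : ℂ) * (conj (ψ (Feit.proj hT ho x) : ℂ) *
        ((Finset.univ.filter fun y : Ω => (x : G) • y = y).card : ℂ)) =
        ((Finset.univ.filter fun y : Ω => (x : G) • y = y).card : ℂ) := fun x => by
    rw [← mul_assoc, Complex.mul_conj, Complex.normSq_eq_norm_sq, Chars.norm_hom_apply]
    simp
  rw [Finset.sum_congr rfl fun x _ => h1 x, inv_mul_eq_iff_eq_mul₀ (Nat.cast_ne_zero.mpr Nat.card_pos.ne'),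
    ← Nat.cast_sum, ← Nat.cast_ofNat, ← Nat.cast_mul, Nat.cast_inj]
  simp only [Finset.card_eq_sum_ones, Finset.sum_filter]
  rw [Finset.sum_comm]
  simp only [← Finset.sum_filter, ← Finset.card_eq_sum_ones]
  have hfib : ∀ y : Ω, (Finset.univ.filter fun x : stabilizer G p => (x : G) • y = y).card =
      Nat.card ↥(stabilizer G p ⊓ stabilizer G y) := fun y => by
    rw [← Nat.card_eq_finsetCard]
    exact Nat.card_congr
      { toFun := fun x => ⟨(x.1 : G), x.1.2, (Finset.mem_filter.mp x.2).2⟩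
        invFun := fun x => ⟨⟨x.1, x.2.1⟩, Finset.mem_filter.mpr ⟨Finset.mem_univ _, x.2.2⟩⟩
        left_inv := fun _ => rfl
        right_inv := fun _ => rfl }
  simp only [hfib]
  rw [← Finset.add_sum_erase _ _ (Finset.mem_univ p), inf_idem,
    Finset.sum_congr rfl fun y hy => Cfsg.Agent.Lib.Zassenhaus.SimpleOdd.card_pair_eq h2 (Ne.symm ho)
      (Finset.ne_of_mem_erase hy).symm,
    Finset.sum_const, smul_eq_mul, Finset.card_erase_of_mem (Finset.mem_univ p), Finset.card_univ,
    ← Cfsg.Agent.Lib.Zassenhaus.SimpleOdd.card_stabilizer_eq h2 (Ne.symm ho)]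
  ring

/-- The main criterion. -/
theorem not_isSimpleGroup (h2 : IsMultiplyPretransitive G Ω 2) (h3 : FixAtMostTwo G Ω)
    (hT : IsKernel T p) (ho : o ≠ p) {s : G} (hsp : s • p = o) (hso : s • o = p)
    (ψ : ↥(stabilizer G p ⊓ stabilizer G o) →* ℂˣ) (hψ : ψ ≠ 1)
    (hinv : ∀ (h : G) (hh : h ∈ stabilizer G p ⊓ stabilizer G o)
      (hh' : s⁻¹ * h * s ∈ stabilizer G p ⊓ stabilizer G o), ψ ⟨s⁻¹ * h * s, hh'⟩ = ψ ⟨h, hh⟩)
    (htr : ∀ t ∈ T, ∀ t' ∈ T, t ≠ 1 → t' ≠ 1 → ∃ g : G, g * t * g⁻¹ = t') : ¬ IsSimpleGroup G := by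
  classical
  intro hs
  haveI := h2
  have : IsPretransitive G Ω := MulAction.isPretransitive_of_is_two_pretransitive
  let μ₀ : stabilizer G p →* ℂˣ := ψ.comp (Feit.proj hT ho)
  let J : G → ℂ := indFun (stabilizer G p) fun x => (ψ (Feit.proj hT ho x) : ℂ)
  have hJ : IsCharacter G J := Chars.isCharacter_indFun _ (Chars.isCharacter_hom μ₀)
  -- a nontrivial element and linear character of the kernel
  have hcard := hT.card_add_one ho
  have hex : ∃ t : T, t ≠ 1 := by
    obtain ⟨h, hh⟩ : ∃ h, ψ h ≠ 1 := by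
      by_contra hc
      push Not at hc
      exact hψ (MonoidHom.ext hc)
    by_contra hc
    push Not at hc
    have : Subsingleton T := ⟨fun a b => (hc a).trans (hc b).symm⟩
    have hΩ : Fintype.card Ω = 2 := by
      have : Nat.card T = 1 := Nat.card_unique
      omega
    rcases IsSimpleGroup.eq_bot_or_eq_top_of_normal (stabilizer G p)
      (Subgroup.normal_of_index_eq_two (by
        rw [index_stabilizer_of_transitive, Nat.card_eq_fintype_card, hΩ])) with e | e
    · exact hh (by rw [show h = 1 from Subtype.ext (Subgroup.mem_bot.mp (e ▸ (Subgroup.mem_inf.mp h.2).1)), map_one])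
    · exact ho (hsp.symm.trans (mem_stabilizer_iff.mp (e ▸ Subgroup.mem_top s)))
  obtain ⟨t₀, ht₀⟩ := hex
  obtain ⟨μ, -, hμ⟩ := Chars.exists_hom_separating T hT.comm ⊥ t₀ (by rw [Subgroup.mem_bot]; exact ht₀)
  have hμ1 : μ ≠ 1 := fun e => hμ (by rw [e]; rfl)
  let I : G → ℂ := indFun T fun t => (μ t : ℂ)
  have hI : IsCharacter G I := Chars.isCharacter_indFun _ (Chars.isCharacter_hom μ)
  choose k hk using fun χ : IrrCharacter G => Chars.isCharacter_classInner_nat hI (Chars.irr_isCharacter χ)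
  obtain ⟨m, hm⟩ := Chars.isCharacter_exists_nat_decomp hJ
  have hmJ : ∀ χ : IrrCharacter G, classInner J (χ : G → ℂ) = m χ := fun χ => by
    rw [hm]; exact Chars.classInner_sum_smul_irr _ χ
  -- the inner product of `I` and `J` is one
  have hIJ : classInner I J = 1 := by
    show classInner (indFun T fun t => (μ t : ℂ)) J = 1
    rw [Chars.classInner_indFun_left _ _ _ (Chars.isClassFunction_indFun _ _)]
    have hval : ∀ t : T, J t = if t = 1 then (Fintype.card Ω : ℂ) else 1 := by
      intro t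
      split_ifs with ht
      · subst ht
        show indFun (stabilizer G p) _ ((1 : T) : G) = _
        rw [OneMemClass.coe_one, Chars.indFun_one_eq, index_stabilizer_of_transitive,
          Nat.card_eq_fintype_card, map_one, map_one, Units.val_one, mul_one]
      · have h := Zassenhaus.InducedLinear.indFun_apply_of_unique_fix μ₀ (hT.le t.2) (fun c hc => by
          by_contra hcp
          exact ht (hT.eq_of_smul_eq hcp (s := t) (t := 1) (by rw [hc, OneMemClass.coe_one, one_smul])))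
        refine h.trans ?_
        show ((ψ (Feit.proj hT ho ⟨(t : G), hT.le t.2⟩) : ℂˣ) : ℂ) = 1
        rw [Feit.proj_kernel hT ho (g := ⟨(t : G), hT.le t.2⟩) t.2, map_one, Units.val_one]
    simp only [classInner]
    have e : ∀ t : T, (μ t : ℂ) * conj (J t) =
        (if t = 1 then (Nat.card T : ℂ) else 0) + (μ t : ℂ) := by
      intro t
      simp only [hval, apply_ite (starRingEnd ℂ), map_one, Complex.conj_natCast]
      split_ifs with ht
      · subst ht; rw [map_one, Units.val_one, one_mul, ← hcard]; push_cast; ring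
      · rw [zero_add, mul_one]
    change _ * ∑ t : T, (μ t : ℂ) * conj (J t) = 1
    rw [Finset.sum_congr rfl fun t _ => e t, Finset.sum_add_distrib, Finset.sum_ite_eq',
      if_pos (Finset.mem_univ _), Feit.sum_hom_units, if_neg hμ1, add_zero,
      inv_mul_cancel₀ (Nat.cast_ne_zero.mpr Nat.card_pos.ne')]
  have hmk : ∑ χ, m χ * k χ = 1 := by
    apply Nat.cast_injective (R := ℂ)
    rw [Nat.cast_one, ← hIJ, Chars.classInner_eq_sum_mul_conj (Chars.isClassFunction_indFun _ _)
      (Chars.isClassFunction_indFun _ _)]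
    push_cast
    refine Finset.sum_congr rfl fun χ _ => ?_
    show (m χ : ℂ) * (k χ : ℂ) = classInner I (χ : G → ℂ) * conj (classInner J (χ : G → ℂ))
    rw [hk, hmJ, Complex.conj_natCast, mul_comm]
  have hmm : ∑ χ, m χ * m χ = 2 := by
    apply Nat.cast_injective (R := ℂ)
    rw [show ((2 : ℕ) : ℂ) = 2 by norm_num, ← classInner_self_eq_two h2 hT ho hsp hso ψ hinv]
    show _ = classInner J J
    rw [Chars.classInner_eq_sum_mul_conj (Chars.isClassFunction_indFun _ _) (Chars.isClassFunction_indFun _ _)]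
    push_cast
    refine Finset.sum_congr rfl fun χ _ => ?_
    show (m χ : ℂ) * (m χ : ℂ) = classInner J (χ : G → ℂ) * conj (classInner J (χ : G → ℂ))
    rw [hmJ, Complex.conj_natCast]
  -- a constituent trivial on the kernel
  obtain ⟨χ, hmχ, hkχ⟩ : ∃ χ, 0 < m χ ∧ k χ = 0 := by
    by_contra hc
    push Not at hc
    have hle : ∑ χ, m χ ≤ 1 := by
      rw [← hmk]
      refine Finset.sum_le_sum fun χ _ => ?_
      rcases Nat.eq_zero_or_pos (m χ) with h | h
      · omega
      · exact Nat.le_mul_of_pos_right _ (Nat.pos_of_ne_zero (hc χ h))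
    have : ∑ χ, m χ * m χ ≤ ∑ χ, m χ := Finset.sum_le_sum fun χ _ => by
      have h1 : m χ ≤ 1 := (Finset.single_le_sum (f := m) (fun _ _ => Nat.zero_le _) (Finset.mem_univ χ)).trans hle
      exact (Nat.mul_le_mul_left _ h1).trans_eq (mul_one _)
    omega
  have hχc := Chars.irr_isClassFunction χ
  have hconst : ∀ t ∈ T, t ≠ 1 → (χ : G → ℂ) t = (χ : G → ℂ) t₀ := by
    intro t ht ht1
    obtain ⟨g, hg⟩ := htr t₀ t₀.2 t ht (fun e => ht₀ (Subtype.ext e)) ht1
    rw [← hg, hχc]
  have heq : (χ : G → ℂ) t₀ = (χ : G → ℂ) 1 := by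
    have h0 := hk χ
    rw [hkχ, Nat.cast_zero] at h0
    change classInner (indFun T fun t => (μ t : ℂ)) (χ : G → ℂ) = 0 at h0
    rw [Chars.classInner_indFun_left _ _ _ hχc] at h0
    simp only [classInner, mul_eq_zero, inv_eq_zero, Nat.cast_eq_zero, Nat.card_pos.ne', false_or] at h0
    have e : ∀ t : T, (μ t : ℂ) * conj ((χ : G → ℂ) t) = conj ((χ : G → ℂ) t₀) * (μ t : ℂ) +
        if t = 1 then conj ((χ : G → ℂ) 1) - conj ((χ : G → ℂ) t₀) else 0 := by
      intro t
      split_ifs with ht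
      · subst ht; simp
      · rw [hconst t t.2 fun e => ht (Subtype.ext e), add_zero, mul_comm]
    rw [Finset.sum_congr rfl fun t _ => e t, Finset.sum_add_distrib, Finset.sum_ite_eq',
      if_pos (Finset.mem_univ _), ← Finset.mul_sum, Feit.sum_hom_units, if_neg hμ1, mul_zero, zero_add,
      sub_eq_zero] at h0
    exact ((starRingEnd ℂ).injective h0).symm
  obtain ⟨n, ρ, -, hρ⟩ := χ.2
  have htop : MonoidHom.ker ρ = ⊤ := by
    refine (IsSimpleGroup.eq_bot_or_eq_top_of_normal (MonoidHom.ker ρ) inferInstance).resolve_left fun e => ?_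
    refine ht₀ (Subtype.ext (Subgroup.mem_bot.mp (e ▸ ?_)))
    rw [MonoidHom.mem_ker, Chars.rep_eq_one_iff, hρ]
    exact heq
  have hall : ∀ g : G, (χ : G → ℂ) g = (χ : G → ℂ) 1 := fun g => by
    have hg : g ∈ MonoidHom.ker ρ := htop ▸ Subgroup.mem_top g
    rw [MonoidHom.mem_ker, Chars.rep_eq_one_iff, hρ] at hg
    exact hg
  have h0 : classInner J (χ : G → ℂ) = 0 := by
    show classInner (indFun (stabilizer G p) fun x => (ψ (Feit.proj hT ho x) : ℂ)) _ = 0
    rw [Chars.classInner_indFun_left _ _ _ hχc]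
    simp only [classInner, hall, ← Finset.sum_mul, mul_eq_zero]
    refine Or.inr (Or.inl ?_)
    have := Feit.sum_hom_units μ₀
    rw [if_neg] at this
    · exact this
    · intro e
      refine hψ (MonoidHom.ext fun h => ?_)
      have e' := DFunLike.congr_fun e ⟨(h : G), (Subgroup.mem_inf.mp h.2).1⟩
      rwa [MonoidHom.comp_apply, Feit.proj_two_point hT ho (g := ⟨(h : G), (Subgroup.mem_inf.mp h.2).1⟩) h.2] at e'
  rw [hmJ, Nat.cast_eq_zero] at h0
  omega

end Cfsg.Agent.Lib.Perm.InvariantLinear
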