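import Mathlib
import Cfsg.Prelude.Def_Transfer
import Cfsg.Agent.Lib.PUnique.Basic
import Cfsg.Agent.Lib.Transfer.QuaternionSylow
import Cfsg.Agent.Lib.Involution.ThompsonTransfer

/-!
# Index two subgroups of near-field groups with an involutive automorphism

A finite group acting simply transitively on the nonzero vectors of a vector space of odd order,
with at most one subgroup of order 3 and an involutive automorphism fixing only elements of
square one, has a subgroup of index 2.
-/

set_option autoImplicit false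

namespace Cfsg.Agent.Lib.Perm.IndexTwo

variable {H : Type*} [Group H] [Finite H]

theorem mem_of_coprime_index {N : Subgroup H} [N.Normal] {x : H} {m : ℕ} (hx : x ^ m = 1)
    (hm : m.Coprime N.index) : x ∈ N := by
  rw [← QuotientGroup.eq_one_iff, ← orderOf_eq_one_iff]
  refine Nat.eq_one_of_dvd_coprimes hm (orderOf_dvd_of_pow_eq_one ?_) ?_
  · rw [← QuotientGroup.mk_pow, hx]; rfl
  · rw [Subgroup.index_eq_card]; exact orderOf_dvd_natCard _

/-- A normal subgroup whose index is a nontrivial power of two lies in a subgroup of index two. -/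
theorem exists_index_two_of_index_pow (K : Subgroup H) [K.Normal] {k : ℕ} (hk : K.index = 2 ^ (k + 1)) :
    ∃ N : Subgroup H, N.index = 2 := by
  have : Fact (Nat.Prime 2) := ⟨Nat.prime_two⟩
  have hcard : Nat.card (H ⧸ K) = 2 ^ (k + 1) := by rw [← Subgroup.index_eq_card, hk]
  obtain ⟨M, hM⟩ := Sylow.exists_subgroup_card_pow_prime 2 (G := H ⧸ K) (n := k)
    (hcard ▸ pow_dvd_pow 2 (Nat.le_succ k))
  refine ⟨M.comap (QuotientGroup.mk' K), ?_⟩
  rw [Subgroup.index_comap_of_surjective _ (QuotientGroup.mk'_surjective K)]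
  have h := M.card_mul_index
  rw [hcard, hM, pow_succ] at h
  exact Nat.eq_of_mul_eq_mul_left (pow_pos two_pos k) h

/-- A group of even order with a normal 2-complement has a subgroup of index two. -/
theorem exists_index_two_of_npc (heven : Even (Nat.card H)) (h : Cfsg.HasNormalPComplement 2 H) :
    ∃ N : Subgroup H, N.index = 2 := by
  obtain ⟨P, K, hK, hc⟩ := h
  have : Fact (Nat.Prime 2) := ⟨Nat.prime_two⟩
  obtain ⟨k, hk⟩ := IsPGroup.iff_card.mp P.isPGroup'
  rcases k with _ | k
  · have h2 := P.dvd_card_of_dvd_card (even_iff_two_dvd.mp heven)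
    rw [hk] at h2; simp at h2
  · exact exists_index_two_of_index_pow K (hc.symm.index_eq_card.trans hk)

/-- Without subgroups of index two, the only subgroup of order three is central. -/
theorem central_of_order_three (hno : ∀ N : Subgroup H, N.index ≠ 2)
    (h3 : ∀ A B : Subgroup H, Nat.card A = 3 → Nat.card B = 3 → A = B) {u : H} (hu : orderOf u = 3) :
    ∀ x, x * u = u * x := by
  have hconj : ∀ x, x * u * x⁻¹ = u ∨ x * u * x⁻¹ = u⁻¹ := by
    intro x
    have ho : orderOf (x * u * x⁻¹) = 3 := by rw [← MulAut.conj_apply, MulEquiv.orderOf_eq, hu]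
    have hmem : x * u * x⁻¹ ∈ Subgroup.zpowers u := by
      rw [h3 (Subgroup.zpowers u) (Subgroup.zpowers (x * u * x⁻¹))
        (by rw [Nat.card_zpowers, hu]) (by rw [Nat.card_zpowers, ho])]
      exact Subgroup.mem_zpowers _
    obtain ⟨k, hk : u ^ k = x * u * x⁻¹⟩ := hmem
    have hk3 : u ^ (k % 3) = x * u * x⁻¹ := by
      rw [← hk, show (3 : ℤ) = (orderOf u : ℤ) by simp [hu], zpow_mod_orderOf]
    have h0 : k % 3 = 0 ∨ k % 3 = 1 ∨ k % 3 = 2 := by omega
    rcases h0 with h | h | h
    · rw [h, zpow_zero] at hk3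
      rw [← hk3, orderOf_one] at ho
      omega
    · exact Or.inl (by rw [← hk3, h, zpow_one])
    · refine Or.inr ?_
      rw [← hk3, h, eq_inv_iff_mul_eq_one, ← zpow_add_one, show (2 : ℤ) + 1 = (3 : ℕ) by norm_num,
        zpow_natCast, ← hu, pow_orderOf_eq_one]
  have hne : u⁻¹ ≠ u := by
    intro h
    have h2 : u ^ 2 = 1 := by rw [pow_two]; exact eq_inv_iff_mul_eq_one.mp h.symm
    have := orderOf_dvd_of_pow_eq_one h2
    rw [hu] at this
    norm_num at this
  intro a
  by_contra ha
  have ha' : a * u * a⁻¹ = u⁻¹ := (hconj a).resolve_left fun h => ha (mul_inv_eq_iff_eq_mul.mp h)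
  apply hno (Subgroup.centralizer {u})
  rw [Subgroup.index_eq_two_iff]
  refine ⟨a, fun b => ?_⟩
  simp only [Subgroup.mem_centralizer_singleton_iff]
  have hb : b * a * u * (b * a)⁻¹ = (b * u * b⁻¹)⁻¹ := by
    rw [show b * a * u * (b * a)⁻¹ = b * (a * u * a⁻¹) * b⁻¹ by group, ha']; group
  rcases hconj b with h | h
  · refine Or.inr ⟨mul_inv_eq_iff_eq_mul.mp h, fun h' => hne ?_⟩
    rw [← h]; rw [mul_inv_eq_iff_eq_mul.mpr h', h] at hb
    rw [h]; exact hb.symm
  · refine Or.inl ⟨mul_inv_eq_iff_eq_mul.mp (by rw [hb, h, inv_inv]), fun h' => hne ?_⟩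
    rw [← h, mul_inv_eq_iff_eq_mul.mpr h']

/-- A group with at most one subgroup of order `p` has cyclic or quaternion Sylow `p`-subgroups. -/
theorem sylow_cyclic_or_quaternion {p : ℕ} [Fact p.Prime] (P : Sylow p H)
    (h : ∀ A B : Subgroup H, Nat.card A = p → Nat.card B = p → A = B) :
    IsCyclic (P : Subgroup H) ∨ (p = 2 ∧ ∃ n, Nonempty ((P : Subgroup H) ≃* QuaternionGroup (2 ^ n))) := by
  refine PUnique.isCyclic_or_quaternion P.isPGroup' fun A B hA hB => ?_
  apply Subgroup.map_injective (P : Subgroup H).subtype_injective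
  exact h _ _ (by rw [Subgroup.card_subtype, hA]) (by rw [Subgroup.card_subtype, hB])

/-- Without subgroups of index two and with a unique subgroup of order three, there is a normal
3-complement. -/
theorem npc_three (hno : ∀ N : Subgroup H, N.index ≠ 2)
    (h3 : ∀ A B : Subgroup H, Nat.card A = 3 → Nat.card B = 3 → A = B) :
    Cfsg.HasNormalPComplement 3 H := by
  have : Fact (Nat.Prime 3) := ⟨Nat.prime_three⟩
  obtain ⟨P⟩ : Nonempty (Sylow 3 H) := inferInstance
  have hcyc : IsCyclic (P : Subgroup H) :=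
    (sylow_cyclic_or_quaternion P h3).resolve_right (fun h => by omega)
  refine Transfer.hasNormalPComplement_of_normalizer_le_centralizer P fun g hg => ?_
  letI : CommGroup (P : Subgroup H) := hcyc.commGroup
  let ν := (P : Subgroup H).normalizerMonoidHom
  let σ : MulAut (P : Subgroup H) := ν ⟨g, hg⟩
  obtain ⟨k, hk⟩ := IsPGroup.iff_card.mp P.isPGroup'
  suffices hσ : σ = 1 by
    refine Subgroup.mem_centralizer_iff.mpr fun x hx => ?_
    have : g * x * g⁻¹ = x :=
      (congrArg Subtype.val (DFunLike.congr_fun hσ (⟨x, hx⟩ : (P : Subgroup H))) :)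
    exact (mul_inv_eq_iff_eq_mul.mp this).symm
  rw [← orderOf_eq_one_iff]
  obtain ⟨m, hm⟩ := MonoidHom.map_cyclic σ.toMonoidHom
  have hm' : ∀ y, σ y = y ^ m := hm
  have hpow : σ ^ (3 ^ k) = 1 := by
    rcases k.eq_zero_or_pos with hk0 | hk0
    · have : Subsingleton (P : Subgroup H) := Finite.card_le_one_iff_subsingleton.mp (by simp [hk, hk0])
      exact MulEquiv.ext fun y => Subsingleton.elim _ _
    obtain ⟨u, hu⟩ := exists_prime_orderOf_dvd_card' (G := (P : Subgroup H)) 3
      (by rw [hk]; exact dvd_pow_self 3 hk0.ne')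
    have hfix : σ u = u := Subtype.ext (by
      show g * (u : H) * g⁻¹ = u
      exact mul_inv_eq_iff_eq_mul.mpr
        (central_of_order_three hno h3 (by rw [Subgroup.orderOf_coe, hu]) g))
    have hdvd : (3 : ℤ) ∣ m - 1 := by
      have h1 : u ^ (m - 1) = 1 := by rw [zpow_sub_one, ← hm', hfix, mul_inv_cancel]
      simpa [hu] using orderOf_dvd_iff_zpow_eq_one.mpr h1
    have hdd : ((3 : ℕ) : ℤ) ^ (k + 1) ∣ m ^ (3 ^ k) - 1 := by
      have := dvd_sub_pow_of_dvd_sub (R := ℤ) (p := 3) (a := m) (b := 1) (by simpa using hdvd) k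
      simpa using this
    have hiter : ∀ (n : ℕ) (y : (P : Subgroup H)), (σ ^ n) y = y ^ (m ^ n) := by
      intro n
      induction n with
      | zero => intro y; simp
      | succ n ih => intro y; rw [pow_succ, MulAut.mul_apply, hm', ih, ← zpow_mul]; congr 1; ring
    refine MulEquiv.ext fun y => ?_
    rw [hiter, MulAut.one_apply]
    have hy : (orderOf y : ℤ) ∣ m ^ (3 ^ k) - 1 := by
      refine dvd_trans ?_ hdd
      have := orderOf_dvd_natCard y
      rw [hk] at this
      exact (Int.natCast_dvd_natCast.mpr this).trans (by push_cast; exact pow_dvd_pow 3 k.le_succ)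
    have := orderOf_dvd_iff_zpow_eq_one.mp hy
    rwa [zpow_sub_one, mul_inv_eq_one] at this
  have hindex : orderOf σ ∣ (P : Subgroup H).index := by
    have hker : (P : Subgroup H).subgroupOf (Subgroup.normalizer ((P : Subgroup H) : Set H)) ≤ ν.ker := by
      intro x hx
      refine MonoidHom.mem_ker.mpr (MulEquiv.ext fun y => Subtype.ext ?_)
      show (x : H) * (y : H) * (x : H)⁻¹ = y
      exact mul_inv_eq_iff_eq_mul.mpr (congrArg Subtype.val (mul_comm (⟨x, hx⟩ : (P : Subgroup H)) y))
    have h1 : orderOf σ ∣ ν.ker.index := by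
      rw [Subgroup.index_ker]
      exact Subgroup.orderOf_dvd_natCard _ ⟨_, rfl⟩
    refine h1.trans ((Subgroup.index_dvd_of_le hker).trans ?_)
    exact ⟨_, (Subgroup.relIndex_mul_index Subgroup.le_normalizer).symm⟩
  refine Nat.eq_one_of_dvd_coprimes ?_ (orderOf_dvd_of_pow_eq_one hpow) hindex
  exact (Nat.Prime.coprime_iff_not_dvd Nat.prime_three).mpr P.not_dvd_index |>.pow_left k

/-- The structure of a minimal counterexample: the centre is large. -/
theorem center_large (hno : ∀ N : Subgroup H, N.index ≠ 2) (heven : Even (Nat.card H))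
    (hinv : ∀ x y : H, x ≠ 1 → x * x = 1 → y ≠ 1 → y * y = 1 → x = y)
    (h3 : ∀ A B : Subgroup H, Nat.card A = 3 → Nat.card B = 3 → A = B)
    (φ : H →* H) (hφ : Function.Involutive φ) (hfix : ∀ x, φ x = x → x * x = 1) :
    6 ∣ Nat.card (Subgroup.center H) ∧ Nat.card H ∣ 12 * Nat.card (Subgroup.center H) ∧
      Subgroup.center H ≠ ⊤ := by
  classical
  have : Fact (Nat.Prime 2) := ⟨Nat.prime_two⟩
  have : Fact (Nat.Prime 3) := ⟨Nat.prime_three⟩
  obtain ⟨t, ht⟩ := exists_prime_orderOf_dvd_card' (G := H) 2 (even_iff_two_dvd.mp heven)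
  have ht1 : t ≠ 1 := fun h => by simp [h] at ht
  have ht2 : t * t = 1 := by rw [← pow_two, ← ht, pow_orderOf_eq_one]
  have htZ : t ∈ Subgroup.center H := Subgroup.mem_center_iff.mpr fun x => by
    have h := hinv (x * t * x⁻¹) t (fun h => ht1 (conj_eq_one_iff.mp h))
      (by rw [show x * t * x⁻¹ * (x * t * x⁻¹) = x * (t * t) * x⁻¹ by group, ht2]; group) ht1 ht2
    exact mul_inv_eq_iff_eq_mul.mp h
  -- the Sylow 2-subgroup is quaternion
  obtain ⟨P⟩ : Nonempty (Sylow 2 H) := inferInstance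
  have huniq2 : ∀ A B : Subgroup H, Nat.card A = 2 → Nat.card B = 2 → A = B := by
    have key : ∀ A : Subgroup H, Nat.card A = 2 → A = Subgroup.zpowers t := by
      intro A hA
      refine (Subgroup.eq_of_le_of_card_ge ?_ (by rw [hA, Nat.card_zpowers, ht])).symm
      rw [Subgroup.zpowers_le]
      obtain ⟨a, ha⟩ := exists_prime_orderOf_dvd_card' (G := A) 2 (by rw [hA])
      rw [← Subgroup.orderOf_coe] at ha
      exact hinv a t (fun h => by simp [h] at ha) (by rw [← pow_two, ← ha, pow_orderOf_eq_one]) ht1 ht2 ▸ a.2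
    exact fun A B hA hB => (key A hA).trans (key B hB).symm
  obtain ⟨n, ⟨e⟩⟩ : ∃ n, Nonempty ((P : Subgroup H) ≃* QuaternionGroup (2 ^ n)) := by
    rcases sylow_cyclic_or_quaternion P huniq2 with h | ⟨-, h⟩
    · obtain ⟨N, -, hN⟩ := Involution.exists_index_two_of_isCyclic_sylow heven P h
      exact absurd hN (hno N)
    · exact h
  -- the normal 3-complement
  obtain ⟨P₃, W, hWn, hW⟩ := npc_three hno h3
  obtain ⟨k, hk⟩ := IsPGroup.iff_card.mp P₃.isPGroup'
  have hWindex : W.index = 3 ^ k := hW.symm.index_eq_card.trans hk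
  have hW3 : ¬ 3 ∣ Nat.card W := by
    rw [← hW.index_eq_card]; exact P₃.not_dvd_index
  have h2W : ∀ {x : H} {i : ℕ}, x ^ 2 ^ i = 1 → x ∈ W := fun h =>
    mem_of_coprime_index h (by rw [hWindex]; exact Nat.Coprime.pow _ _ (by norm_num))
  have hPW : (P : Subgroup H) ≤ W := fun x hx => by
    obtain ⟨i, hi⟩ := P.isPGroup' ⟨x, hx⟩
    exact h2W (congrArg Subtype.val hi)
  let P' : Sylow 2 W := P.subtype hPW
  let eP : (P' : Subgroup W) ≃* (P : Subgroup H) := Subgroup.subgroupOfEquivOfLe hPW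
  -- the normal 2-complement of `W`
  obtain ⟨R, O, hOn, hO⟩ : Cfsg.HasNormalPComplement 2 W := by
    refine (Transfer.hasNormalPComplement_or_sl23 P' n ⟨eP.trans e⟩).resolve_right ?_
    rintro ⟨A, B, hB, ⟨ι⟩⟩
    apply hW3
    have h24 : 24 ∣ Nat.card W := by
      refine dvd_trans ?_ A.card_subgroup_dvd_card
      have h : Nat.card (A ⧸ B.subgroupOf A) = 24 := by
        obtain ⟨u, I, J, -, -, -, -, -, -, -, -, -, -, -, -, hc⟩ := Transfer.exists_sl23_gens
        rw [Nat.card_congr ι.toEquiv, Nat.card_eq_fintype_card, hc]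
      rw [← h]; exact Subgroup.card_quotient_dvd_card _
    exact dvd_trans (by norm_num) h24
  obtain ⟨rk, hrk⟩ := IsPGroup.iff_card.mp R.isPGroup'
  have hOindex : O.index = 2 ^ rk := hO.symm.index_eq_card.trans hrk
  have hO2 : ¬ 2 ∣ Nat.card O := by rw [← hO.index_eq_card]; exact R.not_dvd_index
  let O' : Subgroup H := O.map W.subtype
  have hO'card : Nat.card O' = Nat.card O := Subgroup.card_subtype W O
  have hO'mem : ∀ x, x ∈ O' ↔ (orderOf x).Coprime 6 := by
    intro x
    constructor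
    · intro hx
      have hd := (Subgroup.orderOf_dvd_natCard O' hx)
      rw [hO'card] at hd
      refine Nat.Coprime.coprime_dvd_left hd ?_
      rw [show (6 : ℕ) = 2 * 3 by norm_num]
      exact Nat.Coprime.mul_right ((Nat.prime_two.coprime_iff_not_dvd.mpr hO2).symm)
        ((Nat.prime_three.coprime_iff_not_dvd.mpr fun h => hW3 (h.trans O.card_subgroup_dvd_card)).symm)
    · intro hx
      have hxW : x ∈ W := mem_of_coprime_index (pow_orderOf_eq_one x)
        (by rw [hWindex]; exact (hx.coprime_dvd_right (by norm_num)).pow_right k)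
      refine ⟨⟨x, hxW⟩, mem_of_coprime_index (m := orderOf x) (Subtype.ext (by simp [pow_orderOf_eq_one])) ?_, rfl⟩
      rw [hOindex]
      exact (hx.coprime_dvd_right (by norm_num)).pow_right rk
  have hfpf : ∀ o ∈ O', φ o = o → o = 1 := by
    intro o ho h
    have hd := orderOf_dvd_of_pow_eq_one ((pow_two o).trans (hfix o h))
    exact orderOf_eq_one_iff.mp (Nat.eq_one_of_dvd_coprimes
      (((hO'mem o).mp ho).coprime_dvd_right (by norm_num : 2 ∣ 6)) dvd_rfl hd)
  have hφord : ∀ x, orderOf (φ x) = orderOf x := fun x =>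
    orderOf_injective φ hφ.injective x
  let φO : O' →* O' := (φ.comp O'.subtype).codRestrict O' fun x =>
    (hO'mem _).mpr (by rw [MonoidHom.comp_apply, hφord]; exact (hO'mem _).mp x.2)
  have hφOinv : Function.Involutive φO := fun x => Subtype.ext (hφ (x : H))
  have hφOfpf : MonoidHom.FixedPointFree φO := fun x h =>
    Subtype.ext (hfpf x x.2 (congrArg Subtype.val h))
  have hOinv : ∀ o ∈ O', φ o = o⁻¹ := fun o ho =>
    congrArg Subtype.val (congrFun (hφOfpf.coe_eq_inv_of_involutive hφOinv) ⟨o, ho⟩)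
  have hOZ : O' ≤ Subgroup.center H := by
    let C := Subgroup.centralizer (O' : Set H)
    have hmem : ∀ x, x⁻¹ * φ x ∈ C := by
      intro x
      refine Subgroup.mem_centralizer_iff.mpr fun o ho => ?_
      have ho' : x * o * x⁻¹ ∈ O' := (hO'mem _).mpr (by
        rw [← MulAut.conj_apply, MulEquiv.orderOf_eq]; exact (hO'mem o).mp ho)
      have h1 : φ (x * o * x⁻¹) = (x * o * x⁻¹)⁻¹ := hOinv _ ho'
      rw [map_mul, map_mul, map_inv, hOinv o ho] at h1
      have h2 : φ x * o⁻¹ * (φ x)⁻¹ = x * o⁻¹ * x⁻¹ := by rw [h1]; group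
      have h3 : (x⁻¹ * φ x) * o⁻¹ * (x⁻¹ * φ x)⁻¹ = o⁻¹ := by
        calc (x⁻¹ * φ x) * o⁻¹ * (x⁻¹ * φ x)⁻¹ = x⁻¹ * (φ x * o⁻¹ * (φ x)⁻¹) * x := by group
          _ = o⁻¹ := by rw [h2]; group
      have h4 := congrArg (·⁻¹) h3
      simp only [inv_inv, mul_inv_rev, mul_assoc] at h4
      calc o * (x⁻¹ * φ x) = (x⁻¹ * φ x * (o * (φ x)⁻¹ * x)) * (x⁻¹ * φ x) := by
            congr 1; simpa [mul_assoc] using h4.symm
        _ = x⁻¹ * φ x * o := by group
    have hcard : Nat.card H ≤ 2 * Nat.card C := by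
      have := Fintype.ofFinite H
      rw [Nat.card_eq_fintype_card, ← Finset.card_univ, mul_comm,
        show Nat.card C = (Finset.univ.filter (· ∈ C)).card by
          rw [Nat.card_eq_fintype_card, ← Fintype.card_subtype]]
      rw [mul_comm]
      refine (Finset.card_le_mul_card_image (f := fun x => x⁻¹ * φ x) Finset.univ 2 fun y _ => ?_).trans
        (Nat.mul_le_mul_left 2 (Finset.card_le_card fun y hy => by
          obtain ⟨x, -, rfl⟩ := Finset.mem_image.mp hy
          simpa using hmem x))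
      by_cases hy : ∃ x₀, x₀⁻¹ * φ x₀ = y
      · obtain ⟨x₀, hx₀⟩ := hy
        refine (Finset.card_le_card (t := {x₀, t * x₀}) fun x hx => ?_).trans Finset.card_le_two
        have hx' : x⁻¹ * φ x = x₀⁻¹ * φ x₀ := by rw [hx₀]; exact (Finset.mem_filter.mp hx).2
        have hf : φ (x * x₀⁻¹) = x * x₀⁻¹ := by
          rw [map_mul, map_inv, show φ x = x * (x₀⁻¹ * φ x₀) by rw [← hx']; group]; group
        rcases eq_or_ne (x * x₀⁻¹) 1 with h | h
        · exact Finset.mem_insert.mpr (Or.inl (mul_inv_eq_one.mp h))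
        · exact Finset.mem_insert.mpr (Or.inr (Finset.mem_singleton.mpr
            (mul_inv_eq_iff_eq_mul.mp (hinv _ t h (hfix _ hf) ht1 ht2))))
      · push Not at hy
        simp [Finset.filter_eq_empty_iff.mpr fun x _ => hy x]
    have htop : C = ⊤ := by
      rw [← Subgroup.index_eq_one]
      have hpos : 0 < Nat.card C := Nat.card_pos
      have hle : C.index ≤ 2 := by
        have := C.card_mul_index
        nlinarith
      have h0 : C.index ≠ 0 := Subgroup.index_ne_zero_of_finite
      have := hno C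
      omega
    intro o ho
    refine Subgroup.mem_center_iff.mpr fun x => ?_
    exact (Subgroup.mem_centralizer_iff.mp (htop ▸ Subgroup.mem_top x : x ∈ C) o ho).symm
  -- the Sylow 2-subgroup is normal
  have hOP : O.IsComplement' (P' : Subgroup W) := by
    have hc : Nat.card (P' : Subgroup W) = Nat.card (R : Subgroup W) := Nat.card_congr (P'.equiv R).toEquiv
    refine Subgroup.isComplement'_of_coprime (by rw [hc]; exact hO.card_mul) ?_
    rw [hc, hrk]
    exact Nat.Coprime.pow_right _ (Nat.prime_two.coprime_iff_not_dvd.mpr hO2).symm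
  have hdecomp : ∀ y ∈ W, ∃ o ∈ O', ∃ p ∈ (P : Subgroup H), y = o * p := by
    intro y hy
    obtain ⟨⟨o, p⟩, hop⟩ := hOP.2 ⟨y, hy⟩
    exact ⟨(o : W), ⟨o, o.2, rfl⟩, ((p : W) : H), p.2, (congrArg Subtype.val hop).symm⟩
  have hPmem : ∀ {y : H} {i : ℕ}, y ^ 2 ^ i = 1 → y ∈ (P : Subgroup H) := by
    intro y i hy
    obtain ⟨o, ho, p, hp, rfl⟩ := hdecomp y (h2W hy)
    obtain ⟨i', hi'⟩ := P.isPGroup' ⟨p, hp⟩
    have hpi : p ^ (2 ^ (i + i')) = 1 := by
      have hi'' : p ^ 2 ^ i' = 1 := congrArg Subtype.val hi'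
      rw [pow_add, mul_comm (2 ^ i), pow_mul, hi'', one_pow]
    have hcomm : Commute o p := (Subgroup.mem_center_iff.mp (hOZ ho) p).symm
    have h : (o * p) ^ (2 ^ (i + i')) = 1 := by rw [pow_add, pow_mul, hy, one_pow]
    rw [hcomm.mul_pow, hpi, mul_one] at h
    have : o = 1 := orderOf_eq_one_iff.mp (Nat.eq_one_of_dvd_coprimes
      ((((hO'mem o).mp ho).coprime_dvd_right (by norm_num : 2 ∣ 6)).pow_right _) dvd_rfl
      (orderOf_dvd_of_pow_eq_one h))
    rwa [this, one_mul]
  have hPn : (P : Subgroup H).Normal := ⟨fun y hy g => by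
    obtain ⟨i, hi⟩ := P.isPGroup' ⟨y, hy⟩
    have hi'' : y ^ 2 ^ i = 1 := congrArg Subtype.val hi
    exact hPmem (i := i) (by rw [conj_pow, hi'']; group)⟩
  have hsplit : ∀ x, ∃ o ∈ O', ∃ p ∈ (P : Subgroup H), ∃ c ∈ (P₃ : Subgroup H), x = o * p * c := by
    intro x
    obtain ⟨⟨w, c⟩, hwc⟩ := hW.2 x
    obtain ⟨o, ho, p, hp, hop⟩ := hdecomp w w.2
    exact ⟨o, ho, p, hp, c, c.2, by rw [← hop]; exact hwc.symm⟩
  have hcyc₃ : IsCyclic (P₃ : Subgroup H) :=
    (sylow_cyclic_or_quaternion P₃ h3).resolve_right (fun h => by omega)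
  obtain ⟨c, hc⟩ := hcyc₃.exists_generator
  have hcord : orderOf (c : H) = 3 ^ k := by
    rw [Subgroup.orderOf_coe, orderOf_eq_card_of_forall_mem_zpowers hc, hk]
  -- centralising the Sylow 2-subgroup means being central
  have hcentral : ∀ z ∈ (P₃ : Subgroup H), (∀ p ∈ (P : Subgroup H), z * p = p * z) →
      z ∈ Subgroup.center H := by
    intro z hz hzp
    refine Subgroup.mem_center_iff.mpr fun x => ?_
    obtain ⟨o, ho, p, hp, d, hd, rfl⟩ := hsplit x
    letI : CommGroup (P₃ : Subgroup H) := hcyc₃.commGroup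
    have h1 : Commute z o := (Subgroup.mem_center_iff.mp (hOZ ho) z)
    have h2 : Commute z p := hzp p hp
    have h3 : Commute z d := congrArg Subtype.val (mul_comm (⟨z, hz⟩ : (P₃ : Subgroup H)) ⟨d, hd⟩)
    exact ((h1.mul_right h2).mul_right h3).symm.eq
  -- the Sylow 3-subgroup acts nontrivially
  have hnc : ¬ ∀ p ∈ (P : Subgroup H), (c : H) * p = p * c := by
    intro hcp
    have hP3Z : (P₃ : Subgroup H) ≤ Subgroup.center H := by
      intro d hd
      obtain ⟨i, hi⟩ := hc ⟨d, hd⟩
      have : (c : H) ^ i = d := by rw [← Subgroup.coe_zpow]; exact congrArg Subtype.val hi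
      rw [← this]
      exact zpow_mem (hcentral c c.2 hcp) i
    let K := O' ⊔ (P₃ : Subgroup H)
    have hKZ : K ≤ Subgroup.center H := sup_le hOZ hP3Z
    have hKn : K.Normal := ⟨fun z hz g => by
      rw [Subgroup.mem_center_iff.mp (hKZ hz) g, mul_inv_cancel_right]; exact hz⟩
    have hKodd : ∀ z ∈ K, Odd (orderOf z) := by
      intro z hz
      have hP3n : (P₃ : Subgroup H).Normal :=
        ⟨fun z hz g => by rw [Subgroup.mem_center_iff.mp (hP3Z hz) g, mul_inv_cancel_right]; exact hz⟩
      obtain ⟨o, ho, d, hd, rfl⟩ := Subgroup.mem_sup_of_normal_right.mp hz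
      refine Odd.of_dvd_nat ?_ (Commute.orderOf_mul_dvd_mul_orderOf (Subgroup.mem_center_iff.mp (hP3Z hd) o))
      refine Odd.mul ?_ ?_
      · exact Nat.coprime_two_right.mp (((hO'mem o).mp ho).coprime_dvd_right (by norm_num))
      · have hd' := Subgroup.orderOf_dvd_natCard _ hd
        rw [hk] at hd'
        exact (Odd.pow (by decide : Odd 3)).of_dvd_nat hd'
    have hsurj : Function.Surjective ((QuotientGroup.mk' K).comp (P : Subgroup H).subtype) := by
      intro q
      obtain ⟨x, rfl⟩ := QuotientGroup.mk'_surjective K q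
      obtain ⟨o, ho, p, hp, d, hd, rfl⟩ := hsplit x
      refine ⟨⟨p, hp⟩, ?_⟩
      show ((p : H) : H ⧸ K) = ((o * p * d : H) : H ⧸ K)
      rw [QuotientGroup.mk_mul, QuotientGroup.mk_mul, (QuotientGroup.eq_one_iff o).mpr (Subgroup.mem_sup_left ho),
        (QuotientGroup.eq_one_iff d).mpr (Subgroup.mem_sup_right hd), one_mul, mul_one]
    obtain ⟨r, hr⟩ := IsPGroup.iff_card.mp (P.isPGroup'.of_surjective _ hsurj)
    rw [← Subgroup.index_eq_card] at hr
    rcases r with _ | r
    · rw [pow_zero, Subgroup.index_eq_one] at hr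
      have := hKodd t (hr ▸ Subgroup.mem_top t)
      rw [ht] at this
      exact absurd this (by decide)
    · obtain ⟨N, hN⟩ := exists_index_two_of_index_pow K hr
      exact hno N hN
  -- the action on the quaternion group
  haveI := hPn
  let σ : MulAut (P : Subgroup H) := MulAut.conjNormal (c : H)
  have hσ1 : σ ≠ 1 := fun h => hnc fun p hp => by
    have := congrArg Subtype.val (DFunLike.congr_fun h ⟨p, hp⟩)
    rw [MulAut.conjNormal_apply, MulAut.one_apply] at this
    exact mul_inv_eq_iff_eq_mul.mp this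
  have hσodd : Odd (orderOf σ) := by
    refine Odd.of_dvd_nat (Odd.pow (by decide : Odd 3) : Odd (3 ^ k)) ?_
    rw [← hcord]; exact orderOf_map_dvd _ _
  let ε : (P : Subgroup H) ≃* (⊤ : Subgroup (QuaternionGroup (2 ^ n))) := e.trans Subgroup.topEquiv.symm
  haveI : NeZero (2 ^ n) := ⟨pow_ne_zero n two_ne_zero⟩
  obtain ⟨i, j, h4, hjj, -, -, hfull, -, -, hσ3⟩ := Transfer.mulAut_subgroup_quaternion ⟨n, rfl⟩ ⊤
    (MulAut.congr ε σ) (by rwa [MulEquiv.orderOf_eq]) (fun h => hσ1 ((MulEquiv.map_eq_one_iff _).mp h))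
  have hc3 : (c : H) ^ 3 ∈ Subgroup.center H := by
    refine hcentral _ (pow_mem c.2 3) fun p hp => ?_
    have h1 : σ ^ 3 = 1 := (MulAut.congr ε).injective (by rw [map_pow, hσ3, map_one])
    have h2 := congrArg Subtype.val (DFunLike.congr_fun h1 ⟨p, hp⟩)
    rw [show σ ^ 3 = MulAut.conjNormal ((c : H) ^ 3) from (map_pow _ _ _).symm,
      MulAut.conjNormal_apply, MulAut.one_apply] at h2
    exact mul_inv_eq_iff_eq_mul.mp h2
  have hP8 : Nat.card (P : Subgroup H) ∣ 8 := by
    have hle : Nat.card (P : Subgroup H) ≤ 8 := by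
      rw [Nat.card_congr ε.toEquiv]
      let S := Subgroup.zpowers i
      have hS : Nat.card S = 4 := by rw [Nat.card_zpowers, h4]
      have := Nat.card_le_card_of_surjective (α := S ⊕ S)
        (f := Sum.elim (fun x => (x : (⊤ : Subgroup (QuaternionGroup (2 ^ n))))) (fun x => j⁻¹ * x))
        (fun x => by
          rcases hfull x with h | h
          · exact ⟨Sum.inl ⟨x, h⟩, rfl⟩
          · exact ⟨Sum.inr ⟨j * x, h⟩, inv_mul_cancel_left j x⟩)
      rwa [Nat.card_sum, hS] at this
    obtain ⟨l, hl⟩ := IsPGroup.iff_card.mp P.isPGroup'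
    rw [hl] at hle ⊢
    exact pow_dvd_pow 2 ((Nat.pow_le_pow_iff_right (by norm_num)).mp (hle.trans_eq (by norm_num : 8 = 2 ^ 3)))
  -- there is an element of order 3
  obtain ⟨l, rfl⟩ : ∃ l, k = l + 1 := by
    refine Nat.exists_eq_succ_of_ne_zero fun h => hnc fun p _ => ?_
    rw [h, pow_zero, orderOf_eq_one_iff] at hcord
    rw [hcord, one_mul, mul_one]
  let Z := Subgroup.center H
  have h2Z : 2 ∣ Nat.card Z := by
    rw [← ht]; exact Subgroup.orderOf_dvd_natCard _ htZ
  have h3Z : 3 ∣ Nat.card Z := by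
    obtain ⟨u, hu⟩ := exists_prime_orderOf_dvd_card' (G := H) 3
      ((hk ▸ dvd_pow_self 3 (Nat.succ_ne_zero l) : 3 ∣ Nat.card (P₃ : Subgroup H)).trans
        (P₃ : Subgroup H).card_subgroup_dvd_card)
    rw [← hu]
    exact Subgroup.orderOf_dvd_natCard _
      (Subgroup.mem_center_iff.mpr (central_of_order_three hno h3 hu))
  have hlZ : 3 ^ l ∣ Nat.card Z := by
    have h : orderOf ((c : H) ^ 3) = 3 ^ l := by
      rw [orderOf_pow, hcord, Nat.gcd_eq_right (dvd_pow_self 3 (Nat.succ_ne_zero l)), pow_succ,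
        Nat.mul_div_cancel _ (by norm_num : 0 < 3)]
    rw [← h]; exact Subgroup.orderOf_dvd_natCard _ hc3
  have hOdvd : Nat.card O ∣ Nat.card Z := hO'card ▸ Subgroup.card_dvd_of_le hOZ
  refine ⟨Nat.Coprime.mul_dvd_of_dvd_of_dvd (by norm_num : Nat.Coprime 2 3) h2Z h3Z, ?_, fun h => hnc fun p _ => ?_⟩
  · have hO3 : (Nat.card O).Coprime 3 :=
      (Nat.prime_three.coprime_iff_not_dvd.mpr fun h => hW3 (h.trans O.card_subgroup_dvd_card)).symm
    have hZ : 2 * 3 ^ l * Nat.card O ∣ Nat.card Z := by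
      refine Nat.Coprime.mul_dvd_of_dvd_of_dvd ?_
        (Nat.Coprime.mul_dvd_of_dvd_of_dvd (Nat.Coprime.pow_right l (by norm_num)) h2Z hlZ) hOdvd
      exact Nat.Coprime.mul_left (Nat.prime_two.coprime_iff_not_dvd.mpr hO2) (hO3.pow_right l).symm
    rw [← hW.card_mul, hk, ← hOP.card_mul, Nat.card_congr eP.toEquiv]
    calc Nat.card O * Nat.card (P : Subgroup H) * 3 ^ (l + 1) ∣ Nat.card O * 8 * 3 ^ (l + 1) :=
          Nat.mul_dvd_mul_right (Nat.mul_dvd_mul_left _ hP8) _
      _ = 12 * (2 * 3 ^ l * Nat.card O) := by ring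
      _ ∣ 12 * Nat.card Z := Nat.mul_dvd_mul_left _ hZ
  · exact (Subgroup.mem_center_iff.mp (h ▸ Subgroup.mem_top (c : H)) p).symm

/-- The main criterion. -/
theorem exists_index_two {V : Type*} [AddCommGroup V] [Finite V] [Nontrivial V]
    (R : H →* AddMonoid.End V) (hfpf : ∀ h, h ≠ 1 → ∀ v, R h v = v → v = 0)
    (hcard : Nat.card H + 1 = Nat.card V) (heven : Even (Nat.card H))
    (h3 : ∀ A B : Subgroup H, Nat.card A = 3 → Nat.card B = 3 → A = B)
    (φ : H →* H) (hφ : Function.Involutive φ) (hfix : ∀ x, φ x = x → x * x = 1) :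
    ∃ N : Subgroup H, N.index = 2 := by
  classical
  by_contra hno
  push Not at hno
  have hinv : ∀ x y : H, x ≠ 1 → x * x = 1 → y ≠ 1 → y * y = 1 → x = y := by
    have key : ∀ x : H, x ≠ 1 → x * x = 1 → ∀ v, R x v = -v := by
      intro x hx1 hx2 v
      refine eq_neg_of_add_eq_zero_right (hfpf x hx1 (v + R x v) ?_)
      have : R x (R x v) = v := by
        show (R x * R x) v = v
        rw [← map_mul, hx2, map_one]; rfl
      rw [map_add, this, add_comm]
    intro x y hx hx2 hy hy2
    by_contra hne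
    obtain ⟨v, hv⟩ := exists_ne (0 : V)
    refine hv (hfpf (x * y) (fun h => hne ?_) v ?_)
    · have : y⁻¹ = y := inv_eq_of_mul_eq_one_right hy2
      rw [← this]; exact eq_inv_of_mul_eq_one_left h
    · show R (x * y) v = v
      rw [map_mul]
      show R x (R y v) = v
      rw [key x hx hx2, key y hy hy2, neg_neg]
  obtain ⟨h6, h12, hne⟩ := center_large hno heven hinv h3 φ hφ hfix
  obtain ⟨v₀, hv₀⟩ := exists_ne (0 : V)
  -- transitivity
  have hinj : ∀ {v : V}, v ≠ 0 → Function.Injective fun h => R h v := by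
    intro v hv g h he
    by_contra hgh
    refine hv (hfpf (g⁻¹ * h) (fun e => hgh (inv_mul_eq_one.mp e)) v ?_)
    rw [map_mul]
    show R g⁻¹ (R h v) = v
    rw [show R h v = R g v from he.symm]
    show (R g⁻¹ * R g) v = v
    rw [← map_mul, inv_mul_cancel, map_one]; rfl
  have htrans : ∀ v : V, v ≠ 0 → ∀ w : V, w ≠ 0 → ∃ h, R h v = w := by
    intro v hv w hw
    let f : Option H → V := fun o => o.elim 0 fun h => R h v
    have hf : Function.Injective f := by
      have hne0 : ∀ h, R h v ≠ 0 := fun h e => hv (by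
        have : (R h⁻¹ * R h) v = 0 := by show R h⁻¹ (R h v) = 0; rw [e, map_zero]
        rwa [← map_mul, inv_mul_cancel, map_one] at this)
      rintro (_ | g) (_ | h) e
      · rfl
      · exact absurd e.symm (hne0 h)
      · exact absurd e (hne0 g)
      · exact congrArg some (hinj hv e)
    obtain ⟨o, ho⟩ := (hf.bijective_of_nat_card_le (by rw [Finite.card_option]; omega)).2 w
    rcases o with _ | h
    · exact absurd ho.symm hw
    · exact ⟨h, ho⟩
  -- the commuting ring
  let C : Subring (AddMonoid.End V) := Subring.centralizer (Set.range R)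
  haveI : Finite (AddMonoid.End V) := Finite.of_injective (fun f => (f : V → V)) DFunLike.coe_injective
  have hC : ∀ (f : C) (h : H) (v : V), (f : AddMonoid.End V) (R h v) = R h ((f : AddMonoid.End V) v) :=
    fun f h v => (DFunLike.congr_fun (Subring.mem_centralizer_iff.mp f.2 (R h) ⟨h, rfl⟩) v).symm
  have hker : ∀ f : C, ∀ v : V, v ≠ 0 → (f : AddMonoid.End V) v = 0 → f = 0 := by
    intro f v hv hfv
    refine Subtype.ext (AddMonoidHom.ext fun w => ?_)
    rcases eq_or_ne w 0 with rfl | hw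
    · exact map_zero (f : AddMonoid.End V)
    · obtain ⟨h, rfl⟩ := htrans v hv w hw
      show (f : AddMonoid.End V) (R h v) = 0
      rw [hC, hfv, map_zero]
  haveI : Nontrivial C := ⟨⟨0, 1, fun h => hv₀ (congrArg (fun f : C => (f : AddMonoid.End V) v₀) h).symm⟩⟩
  haveI : NoZeroDivisors C := ⟨fun {a b} hab => by
    refine or_iff_not_imp_right.mpr fun hb => hker a ((b : AddMonoid.End V) v₀) (fun h => hb (hker b v₀ hv₀ h)) ?_
    exact congrArg (fun f : C => (f : AddMonoid.End V) v₀) hab⟩
  haveI : IsDomain C := NoZeroDivisors.to_isDomain C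
  letI : Field C := (Finite.isDomain_to_isField C).toField
  have hev : Function.Injective fun f : C => (f : AddMonoid.End V) v₀ := by
    intro f g h
    refine sub_eq_zero.mp (hker (f - g) v₀ hv₀ ?_)
    show (f : AddMonoid.End V) v₀ - (g : AddMonoid.End V) v₀ = 0
    exact sub_eq_zero.mpr h
  have hqdvd : Nat.card C ∣ Nat.card V := by
    let ev : C →+ V := AddMonoidHom.mk' (fun f => (f : AddMonoid.End V) v₀) fun _ _ => rfl
    rw [Nat.card_congr (AddMonoidHom.ofInjective (f := ev) hev).toEquiv]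
    exact AddSubgroup.card_addSubgroup_dvd_card _
  have hZC : Nat.card (Subgroup.center H) ∣ Nat.card C - 1 := by
    rw [← Nat.card_units C]
    let f : Subgroup.center H →* C :=
      MonoidHom.codRestrict (R.comp (Subgroup.center H).subtype) C.toSubmonoid fun z => by
        refine Subring.mem_centralizer_iff.mpr ?_
        rintro _ ⟨h, rfl⟩
        show R h * R (z : H) = R (z : H) * R h
        rw [← map_mul, ← map_mul, Subgroup.mem_center_iff.mp z.2 h]
    refine Subgroup.card_dvd_of_injective f.toHomUnits fun z w hzw => ?_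
    have : R (z : H) v₀ = R (w : H) v₀ :=
      congrArg (fun u : Cˣ => ((u : C) : AddMonoid.End V) v₀) hzw
    exact Subtype.ext (hinj hv₀ this)
  by_cases hsurj : Function.Surjective fun f : C => (f : AddMonoid.End V) v₀
  · refine hne (eq_top_iff.mpr fun h _ => Subgroup.mem_center_iff.mpr fun g => hinj hv₀ ?_)
    obtain ⟨f, hf⟩ := hsurj (R g v₀)
    obtain ⟨f', hf'⟩ := hsurj (R h v₀)
    simp only [map_mul]
    show R g (R h v₀) = R h (R g v₀)
    rw [← hf', ← hf]
    show R g ((f' : AddMonoid.End V) v₀) = R h ((f : AddMonoid.End V) v₀)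
    rw [← hC, ← hC, ← hf, ← hf']
    exact congrArg (fun f : C => (f : AddMonoid.End V) v₀) (mul_comm f' f)
  · simp only [Function.Surjective, not_forall, not_exists] at hsurj
    obtain ⟨v₁, hv₁⟩ := hsurj
    have hsq : Nat.card C * Nat.card C ≤ Nat.card V := by
      rw [← Nat.card_prod]
      refine Nat.card_le_card_of_injective
        (fun p : C × C => (p.1 : AddMonoid.End V) v₀ + (p.2 : AddMonoid.End V) v₁) ?_
      rintro ⟨a, b⟩ ⟨a', b'⟩ he
      simp only at he
      by_cases hb : b = b'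
      · subst hb
        rw [hev (add_right_cancel he)]
      · exfalso
        have hd : ((b - b' : C) : AddMonoid.End V) v₁ = ((a' - a : C) : AddMonoid.End V) v₀ := by
          show (b : AddMonoid.End V) v₁ - (b' : AddMonoid.End V) v₁ =
            (a' : AddMonoid.End V) v₀ - (a : AddMonoid.End V) v₀
          rw [sub_eq_sub_iff_add_eq_add, add_comm, he, add_comm]
        refine hv₁ ((b - b')⁻¹ * (a' - a)) ?_
        show ((b - b')⁻¹ : C).1 (((a' - a : C) : AddMonoid.End V) v₀) = v₁
        rw [← hd]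
        show (((b - b')⁻¹ * (b - b') : C) : AddMonoid.End V) v₁ = v₁
        rw [inv_mul_cancel₀ (sub_ne_zero.mpr hb)]; rfl
    have hC1 : 1 < Nat.card C := Finite.one_lt_card
    have h6' := h6.trans hZC
    have h12' : Nat.card V - 1 ∣ 12 * (Nat.card C - 1) := by
      rw [← hcard, Nat.add_sub_cancel]
      exact h12.trans (Nat.mul_dvd_mul_left _ hZC)
    have hle := Nat.le_of_dvd (by omega) h12'
    have h7 : Nat.card C = 7 := by
      have : Nat.card C ≤ 11 := by
        by_contra hgt
        push Not at hgt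
        have : Nat.card C * 12 ≤ Nat.card C * Nat.card C := Nat.mul_le_mul_left _ hgt
        omega
      omega
    rw [h7] at hsq h12' hqdvd
    have h73 : Nat.card V ≤ 73 := by omega
    interval_cases h : Nat.card V <;> omega

end Cfsg.Agent.Lib.Perm.IndexTwo
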