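import Mathlib
import Cfsg.Agent.Lib.Perm.AbelianKernel
import Cfsg.Agent.Lib.Perm.InvariantLinear
import Cfsg.Agent.Lib.Frobenius.FPF
import Cfsg.Agent.S0729

/-! Simple Zassenhaus groups with two-point stabilisers of even order. -/

set_option autoImplicit false

namespace Cfsg.Agent.Lib.Perm.SharplySimple

open MulAction
open Cfsg.Agent.Lib.Perm.Zassenhaus Cfsg.Agent.Lib.Perm.AffineCoords

universe u v

/-- A sharply triply transitive group of even degree at least 4 is not simple. -/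
theorem not_isSimpleGroup {α : Type v} [Fintype α] [DecidableEq α] (heven : Even (Fintype.card α))
    (h4 : 4 ≤ Fintype.card α) (G : Subgroup (Equiv.Perm α)) (h3 : IsMultiplyPretransitive G α 3)
    (hsharp : ∀ x : Fin 3 ↪ α, stabilizer G x = ⊥) : ¬ IsSimpleGroup G := by
  classical
  have hn : 3 ≤ Fintype.card α := by omega
  obtain ⟨p, o, e, s, T, ℓ, j, hT, -, -, -, -, ho, he, heo, hsp, hso, hse, hss, -⟩ :=
    SharplyThree.exists_setup h3 hsharp hn
  have h2 := SharplyThree.two_pretransitive h3 hn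
  have hG := SharplyThree.fixAtMostTwo hsharp
  have hsi : s⁻¹ = s := inv_eq_of_mul_eq_one_right hss
  set H := stabilizer G p ⊓ stabilizer G o with hH
  have hHcard : Nat.card H = Fintype.card α - 2 := SharplyThree.card_stab_two h3 hsharp (Ne.symm ho) hn
  obtain ⟨N, hNi, hNs⟩ : ∃ N : Subgroup H, N.index = 2 ∧
      ∀ x : H, ∀ hx : s * (x : G) * s⁻¹ ∈ H, x ∈ N → (⟨_, hx⟩ : H) ∈ N := by
    rcases eq_or_lt_of_le h4 with h | h
    · refine ⟨⊥, by rw [Subgroup.index_bot, hHcard, ← h], fun x hx hxN => ?_⟩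
      rw [Subgroup.mem_bot] at hxN ⊢
      exact Subtype.ext (by simp [hxN])
    · obtain ⟨N, hNle, -, hNi, hNs⟩ := Cfsg.Agent.S0729.result heven
        (by obtain ⟨k, hk⟩ := heven; omega) G h3 hsharp (Ne.symm ho) (Ne.symm he) (Ne.symm heo) s hsp hso hse
      exact ⟨N.subgroupOf H, hNi, fun x hx hxN => hNs (x : G) hxN⟩
  let ψ : H →* ℂˣ := MonoidHom.mk' (fun x => if x ∈ N then 1 else -1) fun x y => by
    simp only [Subgroup.mul_mem_iff_of_index_two hNi]
    by_cases hx : x ∈ N <;> by_cases hy : y ∈ N <;> simp [hx, hy]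
  have hψ : ψ ≠ 1 := by
    intro hc
    obtain ⟨x, hx⟩ : ∃ x, x ∉ N := by
      by_contra hall
      push Not at hall
      rw [(Subgroup.eq_top_iff' N).mpr hall, Subgroup.index_top] at hNi
      omega
    have h1 : ψ x = 1 := by rw [hc]; rfl
    simp only [ψ, MonoidHom.mk'_apply, if_neg hx] at h1
    have := congrArg (fun u : ℂˣ => (u : ℂ)) h1
    norm_num at this
  let := Fintype.ofFinite G
  refine InvariantLinear.not_isSimpleGroup h2 hG hT ho hsp hso ψ hψ (fun h hh hh' => ?_) ?_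
  · have key : ∀ (g : G) (hg : g ∈ H) (hg' : s⁻¹ * g * s ∈ H),
        (⟨g, hg⟩ : H) ∈ N → (⟨s⁻¹ * g * s, hg'⟩ : H) ∈ N := by
      intro g hg hg' hgN
      have e1 : s * g * s⁻¹ = s⁻¹ * g * s := by rw [hsi]
      have hm : s * ((⟨g, hg⟩ : H) : G) * s⁻¹ ∈ H := by simpa [e1] using hg'
      have := hNs ⟨g, hg⟩ hm hgN
      rwa [show (⟨_, hm⟩ : H) = ⟨s⁻¹ * g * s, hg'⟩ from Subtype.ext e1] at this
    have hiff : (⟨s⁻¹ * h * s, hh'⟩ : H) ∈ N ↔ (⟨h, hh⟩ : H) ∈ N := by
      refine ⟨fun hc => ?_, key h hh hh'⟩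
      have e2 : s⁻¹ * (s⁻¹ * h * s) * s = h := by
        rw [hsi, show s * (s * h * s) * s = (s * s) * h * (s * s) by group, hss, one_mul, mul_one]
      have := key _ hh' (by rw [e2]; exact hh) hc
      rwa [show (⟨s⁻¹ * (s⁻¹ * h * s) * s, _⟩ : H) = ⟨h, hh⟩ from Subtype.ext e2] at this
    simp only [ψ, MonoidHom.mk'_apply, hiff]
  · intro t ht t' ht' ht1 ht'1
    have hne : ∀ u ∈ T, u ≠ 1 → u • o ≠ p ∧ u • o ≠ o := fun u hu hu1 =>
      ⟨hT.smul_ne ho ⟨u, hu⟩, fun e' => hu1 (congrArg Subtype.val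
        (hT.eq_of_smul_eq ho (s := ⟨u, hu⟩) (t := 1) (by simpa using e')))⟩
    obtain ⟨g, hgp, hgo, hgt⟩ := SharplyThree.exists_smul_triple h3 (Ne.symm ho) (hne t ht ht1).2.symm
      (hne t ht ht1).1.symm (Ne.symm ho) (hne t' ht' ht'1).2.symm (hne t' ht' ht'1).1.symm
    refine ⟨g, congrArg Subtype.val (hT.eq_of_smul_eq ho
      (s := ⟨_, hT.conj_mem g hgp t ht⟩) (t := ⟨t', ht'⟩) ?_)⟩
    show (g * t * g⁻¹) • o = t' • o
    rw [mul_smul, mul_smul, inv_smul_eq_iff.mpr hgo.symm, hgt]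

/-- The structure of a simple Zassenhaus group with two-point stabilisers of even order. -/
theorem even_stabiliser {G : Type u} {Ω : Type v} [Group G] [Finite G] [MulAction G Ω] [Fintype Ω]
    (hZ : Cfsg.IsZassenhausGroup G Ω) [IsSimpleGroup G] {a b : Ω} (hab : a ≠ b)
    (heven : Even (Nat.card ↥(stabilizer G a ⊓ stabilizer G b))) :
    ∃ T : Subgroup G, IsKernel T a ∧
      2 * Nat.card ↥(stabilizer G a ⊓ stabilizer G b) = Fintype.card Ω - 2 ∧
      ∀ s : G, s • a = b → s • b = a → ∀ h ∈ stabilizer G a ⊓ stabilizer G b, s * h * s⁻¹ = h⁻¹ := by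
  classical
  have hZ' := hZ
  obtain ⟨hF, h2, h3, hfix, -⟩ := hZ'
  obtain ⟨K₀, hK₀⟩ := Cfsg.Agent.Lib.Zassenhaus.exists_isKer h2 h3 hfix a
  have : Fact (Nat.Prime 2) := ⟨Nat.prime_two⟩
  obtain ⟨t, ht⟩ := exists_prime_orderOf_dvd_card'
    (G := ↥(stabilizer G a ⊓ stabilizer G b)) 2 (even_iff_two_dvd.mp heven)
  have hT := ZassenhausBasics.isKernel_of_involution h3 hK₀ hab.symm (t := (t : G))
    (Subgroup.mem_inf.mp t.2).1 (Subgroup.mem_inf.mp t.2).2
    (fun h => by rw [← Subgroup.orderOf_coe, h, orderOf_one] at ht; omega)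
    (mul_self_of_orderOf (by rw [Subgroup.orderOf_coe]; exact ht))
  refine ⟨_, hT, (AbelianKernel.dichotomy hZ hT hab.symm).resolve_left fun hd => ?_⟩
  obtain ⟨h3t, -⟩ := AbelianKernel.three_pretransitive h2 h3 hab hd
  let f : G →* Equiv.Perm Ω := toPermHom G Ω
  have hf : Function.Injective f := fun g h e => hF.eq_of_smul_eq_smul fun x => Equiv.ext_iff.mp e x
  let e : G ≃* f.range := MonoidHom.ofInjective hf
  have hsimp : IsSimpleGroup f.range := e.symm.isSimpleGroup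
  have hpos : 0 < Nat.card ↥(stabilizer G a ⊓ stabilizer G b) := Nat.card_pos
  obtain ⟨k, hk⟩ := heven
  refine not_isSimpleGroup (α := Ω) ⟨k + 1, by omega⟩ (by omega) f.range ?_ ?_ hsimp
  · rw [isMultiplyPretransitive_iff]
    intro x y
    obtain ⟨g, hg⟩ := (isMultiplyPretransitive_iff.mp h3t) (x := x) (y := y)
    exact ⟨e g, Function.Embedding.ext fun i => by rw [← hg]; rfl⟩
  · intro x
    rw [Subgroup.eq_bot_iff_forall]
    intro g hg
    obtain ⟨g, rfl⟩ := e.surjective g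
    have hi : ∀ i, g • x i = x i := fun i => DFunLike.congr_fun (mem_stabilizer_iff.mp hg) i
    rw [h3 g (x 0) (x 1) (x 2) (x.injective.ne (by decide)) (x.injective.ne (by decide))
      (x.injective.ne (by decide)) (hi 0) (hi 1) (hi 2), map_one]

/-- An abelian two-point stabiliser is cyclic when the kernel is abelian. -/
theorem isCyclic_of_comm {G : Type u} {Ω : Type v} [Group G] [Finite G] [MulAction G Ω] [Fintype Ω]
    (hn : 3 ≤ Fintype.card Ω) (h3 : FixAtMostTwo G Ω) {T : Subgroup G} {p o : Ω} (hT : IsKernel T p) (ho : o ≠ p)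
    (hcomm : ∀ g ∈ stabilizer G p ⊓ stabilizer G o, ∀ h ∈ stabilizer G p ⊓ stabilizer G o, g * h = h * g) :
    IsCyclic ↥(stabilizer G p ⊓ stabilizer G o) := by
  letI : CommGroup T := { (inferInstance : Group T) with
    mul_comm := fun s t => Subtype.ext (hT.comm s s.2 t t.2) }
  have hnorm : stabilizer G p ⊓ stabilizer G o ≤ Subgroup.normalizer (T : Set G) := by
    intro h hh
    refine Subgroup.mem_normalizer_iff.mpr fun t => ⟨hT.conj_mem h (Subgroup.mem_inf.mp hh).1 t, fun ht => ?_⟩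
    have := hT.conj_mem h⁻¹ (inv_mem (Subgroup.mem_inf.mp hh).1) _ ht
    rwa [show h⁻¹ * (h * t * h⁻¹) * h⁻¹⁻¹ = t by group] at this
  letI := Frobenius.FPF.conjAction (stabilizer G p ⊓ stabilizer G o) T hnorm
  have hf : Frobenius.FPF.IsFPF ↥(stabilizer G p ⊓ stabilizer G o) T := fun h h1 t ht =>
    Subtype.ext (KernelAction.eq_one_of_conj_eq h3 hT ho h.2 (fun e => h1 (Subtype.ext e)) t.2
      (congrArg Subtype.val ht))
  have : Nontrivial T := Finite.one_lt_card_iff_nontrivial.mp (by have := hT.card_add_one ho; omega)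
  exact Frobenius.FPF.isCyclic_of_commute hf fun g h => Subtype.ext (hcomm g g.2 h h.2)

end Cfsg.Agent.Lib.Perm.SharplySimple
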