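import Mathlib

/-! Projective linear groups over isomorphic rings. -/

set_option autoImplicit false

namespace Cfsg.Agent.Lib.Perm.ProjCongr

theorem map_center_mulEquiv {A B : Type*} [Group A] [Group B] (e : A ≃* B) :
    (Subgroup.center A).map e.toMonoidHom = Subgroup.center B := by
  ext b
  simp only [Subgroup.mem_map, MulEquiv.coe_toMonoidHom, Subgroup.mem_center_iff]
  constructor
  · rintro ⟨a, ha, rfl⟩ g
    obtain ⟨g', rfl⟩ := e.surjective g
    rw [← map_mul, ha, map_mul]
  · intro hb
    exact ⟨e.symm b, fun g => e.injective (by simp [hb]), e.apply_symm_apply b⟩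

variable {R S : Type*} [CommRing R] [CommRing S] (n : Type*) [Fintype n] [DecidableEq n]

/-- `PGL` over isomorphic rings. -/
theorem nonempty_pgl (e : R ≃+* S) :
    Nonempty (Matrix.ProjGenLinGroup n R ≃* Matrix.ProjGenLinGroup n S) :=
  let E : Matrix.GeneralLinearGroup n R ≃* Matrix.GeneralLinearGroup n S :=
    Units.mapEquiv e.mapMatrix.toMulEquiv
  ⟨QuotientGroup.congr _ _ E (map_center_mulEquiv E)⟩

/-- `PSL` over isomorphic rings. -/
theorem nonempty_psl (e : R ≃+* S) :
    Nonempty (Matrix.ProjectiveSpecialLinearGroup n R ≃* Matrix.ProjectiveSpecialLinearGroup n S) :=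
  let E : Matrix.SpecialLinearGroup n R ≃* Matrix.SpecialLinearGroup n S :=
    { toFun := Matrix.SpecialLinearGroup.map e.toRingHom
      invFun := Matrix.SpecialLinearGroup.map e.symm.toRingHom
      left_inv := fun A => by ext i j; simp
      right_inv := fun A => by ext i j; simp
      map_mul' := map_mul _ }
  ⟨QuotientGroup.congr _ _ E (map_center_mulEquiv E)⟩

end Cfsg.Agent.Lib.Perm.ProjCongr
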