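import Mathlib

/-!
# A four-group acting on a group of odd order

If two commuting involutions `a`, `b` normalise a finite group `K` of odd order, then
`|K| |C(a,b)|² = |C(a)| |C(b)| |C(ab)|`, all centralisers being taken in `K`.
-/

set_option autoImplicit false
set_option linter.unusedSectionVars false

namespace Cfsg.Agent.Lib.Perm.KleinOdd

universe u

variable {Γ : Type u} [Group Γ] {K : Subgroup Γ}

/-- The centraliser of an element in a subgroup. -/
def cent (K : Subgroup Γ) (a : Γ) : Subgroup Γ := K ⊓ Subgroup.centralizer {a}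

theorem mem_cent {a x : Γ} : x ∈ cent K a ↔ x ∈ K ∧ a * x = x * a := by
  simp [cent, Subgroup.mem_centralizer_iff]

/-- The square root in a group of odd order. -/
noncomputable def sqrtOdd (K : Subgroup Γ) (t : Γ) : Γ := t ^ ((Nat.card K + 1) / 2)

variable [Finite K]

theorem sqrtOdd_mem {t : Γ} (ht : t ∈ K) : sqrtOdd K t ∈ K := pow_mem ht _

theorem pow_card_succ (hodd : Odd (Nat.card K)) {t : Γ} (ht : t ∈ K) :
    t ^ ((Nat.card K + 1) / 2 + (Nat.card K + 1) / 2) = t := by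
  obtain ⟨r, hr⟩ := hodd
  rw [hr, show (2 * r + 1 + 1) / 2 + (2 * r + 1 + 1) / 2 = (2 * r + 1) + 1 by omega, pow_succ, ← hr]
  have h : (⟨t, ht⟩ : K) ^ Nat.card K = 1 := pow_card_eq_one'
  have h' : t ^ Nat.card K = 1 := congrArg Subtype.val h
  rw [h', one_mul]

theorem sqrtOdd_sq (hodd : Odd (Nat.card K)) {t : Γ} (ht : t ∈ K) :
    sqrtOdd K t * sqrtOdd K t = t := by
  rw [sqrtOdd, ← pow_add, pow_card_succ hodd ht]

theorem eq_of_sq_eq (hodd : Odd (Nat.card K)) {s t : Γ} (hs : s ∈ K) (ht : t ∈ K)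
    (h : s * s = t * t) : s = t := by
  rw [← pow_card_succ hodd hs, ← pow_card_succ hodd ht, ← two_mul, pow_mul, pow_mul, pow_two,
    pow_two, h]

theorem conj_mul {a : Γ} (ha : a * a = 1) (x y : Γ) : a * (x * y) * a = (a * x * a) * (a * y * a) := by
  rw [show (a * x * a) * (a * y * a) = a * x * (a * a) * y * a by group, ha]; group

theorem conj_pow {a : Γ} (ha : a * a = 1) (x : Γ) : ∀ m : ℕ, a * x ^ m * a = (a * x * a) ^ m
  | 0 => by simp [ha]
  | m + 1 => by rw [pow_succ, pow_succ, conj_mul ha, conj_pow ha x m]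

theorem conj_sqrtOdd {a : Γ} (ha : a * a = 1) {t : Γ} :
    a * sqrtOdd K t * a = sqrtOdd K (a * t * a) := conj_pow ha t _

theorem sqrtOdd_inv {t : Γ} : sqrtOdd K t⁻¹ = (sqrtOdd K t)⁻¹ := inv_pow _ _

theorem conj_inv {a : Γ} (ha : a * a = 1) (x : Γ) : a * x⁻¹ * a = (a * x * a)⁻¹ := by
  have : a⁻¹ = a := inv_eq_of_mul_eq_one_right ha
  rw [mul_inv_rev, mul_inv_rev, this, mul_assoc]

theorem conj_conj {a : Γ} (ha : a * a = 1) (x : Γ) : a * (a * x * a) * a = x := by
  rw [show a * (a * x * a) * a = (a * a) * x * (a * a) by group, ha]; group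

theorem comm_iff {a : Γ} (ha : a * a = 1) (x : Γ) : a * x = x * a ↔ a * x * a = x := by
  constructor
  · intro h; rw [h, mul_assoc, ha, mul_one]
  · intro h; conv_rhs => rw [← h]
    rw [mul_assoc _ a a, ha, mul_one]

/-- The elements of `K` inverted by `a`. -/
def inverted (K : Subgroup Γ) (a : Γ) : Set Γ := {x | x ∈ K ∧ a * x * a = x⁻¹}

/-- The first decomposition: fixed points times inverted elements. -/
theorem card_eq_cent_mul (hodd : Odd (Nat.card K)) {a : Γ} (ha : a * a = 1)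
    (hn : ∀ x ∈ K, a * x * a ∈ K) :
    Nat.card K = Nat.card (cent K a) * Nat.card (inverted K a) := by
  rw [← Nat.card_prod]
  refine (Nat.card_eq_of_bijective (fun p : cent K a × inverted K a => (⟨p.1.1 * p.2.1,
    mul_mem (mem_cent.mp p.1.2).1 p.2.2.1⟩ : K)) ⟨?_, ?_⟩).symm
  · rintro ⟨⟨c, hc⟩, ⟨i, hi, hi'⟩⟩ ⟨⟨c', hc'⟩, ⟨i', hj, hj'⟩⟩ h
    have h0 : c * i = c' * i' := congrArg Subtype.val h
    have key : ∀ c i : Γ, c ∈ cent K a → a * i * a = i⁻¹ → (a * (c * i) * a)⁻¹ * (c * i) = i * i := by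
      intro c i hc hi
      rw [conj_mul ha, (comm_iff ha c).mp (mem_cent.mp hc).2, hi]; group
    have h1 := key c i hc hi'
    rw [h0, key c' i' hc' hj'] at h1
    have h2 : i = i' := eq_of_sq_eq hodd hi hj h1.symm
    subst h2
    have h3 : c = c' := mul_right_cancel h0
    subst h3; rfl
  · rintro ⟨k, hk⟩
    set t := (a * k * a)⁻¹ * k with ht
    have htK : t ∈ K := mul_mem (inv_mem (hn k hk)) hk
    have hta : a * t * a = t⁻¹ := by
      rw [ht, conj_mul ha, conj_inv ha, conj_conj ha]; group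
    set i := sqrtOdd K t with hi
    have hia : a * i * a = i⁻¹ := by rw [hi, conj_sqrtOdd ha, hta, sqrtOdd_inv]
    have hii : i * i = t := sqrtOdd_sq hodd htK
    have hc : k * i⁻¹ ∈ cent K a := by
      refine mem_cent.mpr ⟨mul_mem hk (inv_mem (sqrtOdd_mem htK)), (comm_iff ha _).mpr ?_⟩
      rw [conj_mul ha, conj_inv ha, hia, inv_inv, show a * k * a = k * t⁻¹ by rw [ht]; group,
        show t⁻¹ = i⁻¹ * i⁻¹ by rw [← hii]; group]
      group
    exact ⟨(⟨_, hc⟩, ⟨i, sqrtOdd_mem htK, hia⟩), Subtype.ext (inv_mul_cancel_right k i)⟩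

/-- The second decomposition of the elements inverted by `a`. -/
theorem card_inverted (hodd : Odd (Nat.card K)) {a b : Γ} (ha : a * a = 1) (hb : b * b = 1)
    (hab : a * b = b * a) (hnb : ∀ x ∈ K, b * x * b ∈ K) :
    Nat.card (inverted K a) =
      Nat.card {x : Γ // x ∈ inverted K a ∧ b * x * b = x} *
        Nat.card {x : Γ // x ∈ inverted K a ∧ b * x * b = x⁻¹} := by
  have hswap : ∀ x, a * (b * x * b) * a = b * (a * x * a) * b := fun x => by
    rw [show a * (b * x * b) * a = (a * b) * x * (b * a) by group, hab, ← hab]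
    rw [show b * (a * x * a) * b = (b * a) * x * (a * b) by group, ← hab]
  rw [← Nat.card_prod]
  refine (Nat.card_eq_of_bijective (fun p : {x : Γ // x ∈ inverted K a ∧ b * x * b = x} ×
      {x : Γ // x ∈ inverted K a ∧ b * x * b = x⁻¹} => (⟨p.1.1 * p.2.1 * p.1.1,
    mul_mem (mul_mem p.1.2.1.1 p.2.2.1.1) p.1.2.1.1, by
      rw [conj_mul ha, conj_mul ha, p.1.2.1.2, p.2.2.1.2]; group⟩ : inverted K a)) ⟨?_, ?_⟩).symm
  · rintro ⟨⟨s, ⟨hs, hsa⟩, hsb⟩, ⟨m, ⟨hm, hma⟩, hmb⟩⟩ ⟨⟨s', ⟨hs', hsa'⟩, hsb'⟩, ⟨m', ⟨hm', hma'⟩, hmb'⟩⟩ h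
    have h0 : s * m * s = s' * m' * s' := congrArg Subtype.val h
    have key : ∀ s m : Γ, b * s * b = s → b * m * b = m⁻¹ →
        ((s * m * s)⁻¹ * (s * s)) * ((s * m * s)⁻¹ * (s * s)) =
          (s * m * s)⁻¹ * (b * (s * m * s) * b) := by
      intro s m hs hm
      rw [conj_mul hb, conj_mul hb, hs, hm]; group
    have h1 := key s m hsb hmb
    rw [h0] at h1
    rw [← key s' m' hsb' hmb'] at h1
    have hK : ∀ {s m : Γ}, s ∈ K → m ∈ K → (s * m * s)⁻¹ ∈ K := fun h₁ h₂ =>
      inv_mem (mul_mem (mul_mem h₁ h₂) h₁)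
    have h2 := eq_of_sq_eq hodd (mul_mem (hK hs' hm') (mul_mem hs hs))
      (mul_mem (hK hs' hm') (mul_mem hs' hs')) h1
    have h3 : s = s' := eq_of_sq_eq hodd hs hs' (mul_left_cancel h2)
    subst h3
    have h4 : m = m' := mul_left_cancel (mul_right_cancel h0)
    subst h4; rfl
  · rintro ⟨x, hx, hxa⟩
    set y := b * x * b with hy
    have hyK : y ∈ K := hnb x hx
    have hya : a * y * a = y⁻¹ := by rw [hy, hswap, hxa, conj_inv hb]
    set r := sqrtOdd K (x⁻¹ * y) with hr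
    have hrK : x⁻¹ * y ∈ K := mul_mem (inv_mem hx) hyK
    have hrr : r * r = x⁻¹ * y := sqrtOdd_sq hodd hrK
    have hrmem : r ∈ K := sqrtOdd_mem hrK
    set S := x * r with hS
    have hSK : S ∈ K := mul_mem hx hrmem
    have hSa : a * S * a = S⁻¹ := by
      apply mul_left_cancel (a := x)
      have h1 : x * (a * S * a) = a * r * a := by
        rw [hS, conj_mul ha, hxa]; group
      rw [h1]
      refine eq_of_sq_eq hodd ?_ (mul_mem hx (inv_mem hSK)) ?_
      · rw [hr, conj_sqrtOdd ha]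
        exact sqrtOdd_mem (by rw [conj_mul ha, conj_inv ha, hxa, hya]; exact mul_mem (inv_mem (inv_mem hx)) (inv_mem hyK))
      · rw [← conj_mul ha, hrr, conj_mul ha, conj_inv ha, hxa, hya, hS,
          show x * (x * r)⁻¹ * (x * (x * r)⁻¹) = x * (r * r)⁻¹ * x⁻¹ by group, hrr]
        group
    have hSb : b * S * b = S := by
      have h1 : b * r * b = r⁻¹ := by
        rw [hr, conj_sqrtOdd hb, ← sqrtOdd_inv]
        congr 1
        rw [conj_mul hb, conj_inv hb, ← hy, hy, conj_conj hb]; group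
      rw [hS, conj_mul hb, ← hy, h1, show y = x * (r * r) by rw [hrr]; group]
      group
    set s := sqrtOdd K S with hs
    have hsK : s ∈ K := sqrtOdd_mem hSK
    have hsa : a * s * a = s⁻¹ := by rw [hs, conj_sqrtOdd ha, hSa, sqrtOdd_inv]
    have hsb : b * s * b = s := by rw [hs, conj_sqrtOdd hb, hSb]
    have hss : s * s = S := sqrtOdd_sq hodd hSK
    have hkey : y = S * x⁻¹ * S := by
      rw [hS, show x * r * x⁻¹ * (x * r) = x * (r * r) by group, hrr]; group
    refine ⟨(⟨s, ⟨hsK, hsa⟩, hsb⟩, ⟨s⁻¹ * x * s⁻¹, ⟨mul_mem (mul_mem (inv_mem hsK) hx) (inv_mem hsK), ?_⟩, ?_⟩),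
      Subtype.ext ?_⟩
    · rw [conj_mul ha, conj_mul ha, conj_inv ha, hsa, hxa]; group
    · rw [conj_mul hb, conj_mul hb, conj_inv hb, hsb, ← hy, hkey, ← hss]; group
    · show s * (s⁻¹ * x * s⁻¹) * s = x
      group

/-- The order formula. -/
theorem card_formula (hodd : Odd (Nat.card K)) {a b : Γ} (ha : a * a = 1) (hb : b * b = 1)
    (hab : a * b = b * a) (hna : ∀ x ∈ K, a * x * a ∈ K) (hnb : ∀ x ∈ K, b * x * b ∈ K) :
    Nat.card K * Nat.card ↥(cent (cent K a) b) ^ 2 =
      Nat.card (cent K a) * Nat.card (cent K b) * Nat.card (cent K (a * b)) := by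
  have hc : ∀ c : Γ, c * c = 1 → a * c = c * a → ∀ x ∈ cent K c, a * x * a ∈ cent K c := by
    intro c hc hac x hx
    refine mem_cent.mpr ⟨hna x (mem_cent.mp hx).1, ?_⟩
    rw [show c * (a * x * a) = (c * a) * x * a by group, ← hac, show a * c * x * a = a * (c * x) * a by group,
      (mem_cent.mp hx).2, show a * (x * c) * a = a * x * (c * a) by group, ← hac]
    group
  have hsub : ∀ c : Γ, c * c = 1 → a * c = c * a → Nat.card (cent K c) =
      Nat.card (cent (cent K c) a) * Nat.card (inverted (cent K c) a) := by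
    intro c h1 h2
    have hle : cent K c ≤ K := inf_le_left
    have : Finite (cent K c) := Finite.of_injective _ (Subgroup.inclusion_injective hle)
    exact card_eq_cent_mul (hodd.of_dvd_nat (Subgroup.card_dvd_of_le hle)) ha (hc c h1 h2)
  have hab2 : a * b * (a * b) = 1 := by
    rw [show a * b * (a * b) = a * (b * a) * b by group, ← hab, show a * (a * b) * b = (a * a) * (b * b) by group, ha, hb, mul_one]
  have hacab : a * (a * b) = a * b * a := by rw [mul_assoc a b a, ← hab]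
  have e1 := card_eq_cent_mul hodd ha hna
  have e2 := card_inverted hodd ha hb hab hnb
  have e3 := hsub b hb hab
  have e4 := hsub (a * b) hab2 hacab
  have f1 : cent (cent K b) a = cent (cent K a) b := by
    ext x; simp only [mem_cent]; tauto
  have f2 : cent (cent K (a * b)) a = cent (cent K a) b := by
    ext x
    simp only [mem_cent]
    constructor
    · rintro ⟨⟨hx, h1⟩, h2⟩
      refine ⟨⟨hx, h2⟩, mul_left_cancel (a := a) ?_⟩
      rw [← mul_assoc, h1, ← mul_assoc x a b, ← h2, mul_assoc]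
    · rintro ⟨⟨hx, h1⟩, h2⟩
      refine ⟨⟨hx, ?_⟩, h1⟩
      rw [mul_assoc, h2, ← mul_assoc, h1, mul_assoc]
  have f3 : inverted (cent K b) a = {x : Γ | x ∈ inverted K a ∧ b * x * b = x} := by
    ext x
    simp only [inverted, mem_cent, Set.mem_ofPred_eq, comm_iff hb]
    tauto
  have f4 : inverted (cent K (a * b)) a = {x : Γ | x ∈ inverted K a ∧ b * x * b = x⁻¹} := by
    ext x
    simp only [inverted, mem_cent, Set.mem_ofPred_eq, comm_iff hab2]
    have e : a * b * x * (a * b) = a * (b * x * b) * a := by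
      rw [show a * b * x * (a * b) = a * b * x * (a * b) from rfl]
      conv_lhs => arg 2; rw [hab]
      group
    rw [e]
    constructor
    · rintro ⟨⟨hx, h1⟩, h2⟩
      refine ⟨⟨hx, h2⟩, ?_⟩
      rw [← conj_conj ha (b * x * b), h1, h2]
    · rintro ⟨⟨hx, h2⟩, h1⟩
      refine ⟨⟨hx, ?_⟩, h2⟩
      rw [h1, conj_inv ha, h2, inv_inv]
  rw [f1, f3] at e3
  rw [f2, f4] at e4
  rw [e1, e2, e3, e4]
  simp only [Set.coe_ofPred]
  ring

end Cfsg.Agent.Lib.Perm.KleinOdd
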