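import Mathlib.LinearAlgebra.Dimension.Constructions
import Mathlib.LinearAlgebra.FiniteDimensional.Lemmas
import Mathlib.LinearAlgebra.FiniteDimensional.Basic
import Mathlib.GroupTheory.GroupAction.Quotient
import Mathlib.GroupTheory.Perm.Cycle.Type
import Mathlib.Data.ZMod.QuotientGroup

/-!
The inequality of Ree and Scott: if `x * y * z = 1` and the group generated by `x` and `y` has at
most `k` orbits on `n` points, then the numbers of cycles of the three sum to at most `n + 2 k`.
-/

set_option autoImplicit false

namespace Cfsg.Agent.Lib.ScottCycles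

open Module

variable {α : Type*} [Fintype α] [DecidableEq α]

/-- `1 - σ` on functions. -/
def dlin (σ : Equiv.Perm α) : (α → ℚ) →ₗ[ℚ] (α → ℚ) :=
  LinearMap.id - LinearMap.funLeft ℚ ℚ σ.symm

omit [Fintype α] [DecidableEq α] in
theorem dlin_apply (σ : Equiv.Perm α) (f : α → ℚ) (a : α) : dlin σ f a = f a - f (σ.symm a) := rfl

/-- The number of cycles, fixed points included. -/
noncomputable def cyc (σ : Equiv.Perm α) : ℕ := finrank ℚ (LinearMap.ker (dlin σ))

omit [DecidableEq α] in
theorem finrank_range_add (σ : Equiv.Perm α) :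
    finrank ℚ (LinearMap.range (dlin σ)) + cyc σ = Fintype.card α := by
  rw [cyc, LinearMap.finrank_range_add_finrank_ker, finrank_fintype_fun_eq_card]

omit [DecidableEq α] in
theorem one_le_cyc [Nonempty α] (σ : Equiv.Perm α) : 1 ≤ cyc σ := by
  refine Submodule.one_le_finrank_iff.2 ((Submodule.ne_bot_iff _).2 ⟨fun _ => 1, ?_, ?_⟩)
  · exact LinearMap.mem_ker.2 (funext fun a => by simp [dlin_apply])
  · exact fun h => one_ne_zero (congrFun h (Classical.arbitrary α))

/-- Scott's inequality for permutations. -/
theorem scott {x y z : Equiv.Perm α} (hxyz : x * y * z = 1) (S : Finset α)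
    (hS : ∀ a, ∃ s ∈ S, ∃ g ∈ Subgroup.closure ({x, y} : Set (Equiv.Perm α)), g s = a) :
    cyc x + cyc y + cyc z ≤ Fintype.card α + 2 * S.card := by
  classical
  let Tx : (α → ℚ) →ₗ[ℚ] (α → ℚ) := LinearMap.funLeft ℚ ℚ x.symm
  let Ty : (α → ℚ) →ₗ[ℚ] (α → ℚ) := LinearMap.funLeft ℚ ℚ y.symm
  let R : Submodule ℚ (α → ℚ) := LinearMap.range (dlin x) ⊔ LinearMap.range (dlin y)
  let C := LinearMap.range (dlin x) × LinearMap.range (dlin y) × LinearMap.range (dlin z)
  let δ : C →ₗ[ℚ] (α → ℚ) :=
    LinearMap.coprod (Submodule.subtype _)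
      (LinearMap.coprod (Tx.comp (Submodule.subtype _)) ((Tx.comp Ty).comp (Submodule.subtype _)))
  let β : (α → ℚ) →ₗ[ℚ] C :=
    (dlin x).rangeRestrict.prod ((dlin y).rangeRestrict.prod (dlin z).rangeRestrict)
  have hδβ : δ.comp β = 0 := by
    refine LinearMap.ext fun f => funext fun a => ?_
    have hz : z.symm (y.symm (x.symm a)) = a := by
      have : z⁻¹ * y⁻¹ * x⁻¹ = (1 : Equiv.Perm α) := by
        rw [← mul_inv_rev, ← mul_inv_rev, ← mul_assoc, hxyz, inv_one]
      exact Equiv.ext_iff.1 this a
    show dlin x f a + (dlin y f (x.symm a) + dlin z f (y.symm (x.symm a))) = 0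
    rw [dlin_apply, dlin_apply, dlin_apply, hz]
    ring
  -- fixed functions of both generators are determined on `S`
  have hconst : ∀ f ∈ LinearMap.ker (dlin x) ⊓ LinearMap.ker (dlin y),
      ∀ g ∈ Subgroup.closure ({x, y} : Set (Equiv.Perm α)), ∀ a, f (g a) = f a := by
    intro f hf g hg
    induction hg using Subgroup.closure_induction with
    | mem w hw =>
      intro a
      rcases hw with rfl | rfl
      · have := congrFun (LinearMap.mem_ker.1 hf.1) (w a)
        rw [dlin_apply, Equiv.symm_apply_apply, Pi.zero_apply, sub_eq_zero] at this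
        exact this
      · have := congrFun (LinearMap.mem_ker.1 hf.2) (w a)
        rw [dlin_apply, Equiv.symm_apply_apply, Pi.zero_apply, sub_eq_zero] at this
        exact this
    | one => simp
    | mul u v _ _ hu hv => intro a; rw [Equiv.Perm.mul_apply, hu, hv]
    | inv u _ hu => intro a; simpa using (hu (u⁻¹ a)).symm
  have hker : finrank ℚ (LinearMap.ker β) ≤ S.card := by
    let res : LinearMap.ker β →ₗ[ℚ] (S → ℚ) :=
      (LinearMap.funLeft ℚ ℚ (Subtype.val : S → α)).comp (Submodule.subtype _)
    have hres : Function.Injective res := by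
      intro f g hfg
      refine Subtype.ext (funext fun a => ?_)
      obtain ⟨s, hs, w, hw, rfl⟩ := hS a
      have mem : ∀ f : LinearMap.ker β,
          (f : α → ℚ) ∈ LinearMap.ker (dlin x) ⊓ LinearMap.ker (dlin y) := by
        intro f
        have h0 := LinearMap.mem_ker.1 f.2
        exact ⟨LinearMap.mem_ker.2 (congrArg Subtype.val (congrArg Prod.fst h0)),
          LinearMap.mem_ker.2 (congrArg Subtype.val (congrArg (fun q : C => q.2.1) h0))⟩
      rw [hconst _ (mem f) w hw, hconst _ (mem g) w hw]
      exact congrFun hfg ⟨s, hs⟩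
    have := LinearMap.finrank_le_finrank_of_injective hres
    simpa [finrank_fintype_fun_eq_card] using this
  -- the image of `δ` has codimension at most `S.card`
  have hsingle : ∀ g ∈ Subgroup.closure ({x, y} : Set (Equiv.Perm α)), ∀ a,
      Pi.single a (1 : ℚ) - Pi.single (g a) 1 ∈ R := by
    intro g hg
    induction hg using Subgroup.closure_induction with
    | mem w hw =>
      intro a
      have e : Pi.single a (1 : ℚ) - Pi.single (w a) 1 = dlin w (Pi.single a 1) := by
        funext b
        rw [Pi.sub_apply, dlin_apply, Pi.single_apply, Pi.single_apply, Pi.single_apply]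
        simp only [Equiv.symm_apply_eq]
      rw [e]
      rcases hw with rfl | rfl
      · exact Submodule.mem_sup_left (LinearMap.mem_range_self _ _)
      · exact Submodule.mem_sup_right (LinearMap.mem_range_self _ _)
    | one => intro a; simp
    | mul u v _ _ hu hv =>
      intro a
      have := Submodule.add_mem _ (hv a) (hu (v a))
      simpa using this
    | inv u _ hu =>
      intro a
      have := Submodule.neg_mem _ (hu (u⁻¹ a))
      simpa using this
  let σS : (S → ℚ) →ₗ[ℚ] (α → ℚ) := Fintype.linearCombination ℚ fun s : S => Pi.single s.1 (1 : ℚ)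
  have htop : R ⊔ LinearMap.range σS = ⊤ := by
    refine eq_top_iff.2 fun f _ => ?_
    rw [pi_eq_sum_univ' f]
    refine Submodule.sum_mem _ fun a _ => Submodule.smul_mem _ _ ?_
    obtain ⟨s, hs, g, hg, rfl⟩ := hS a
    have h2 : Pi.single s (1 : ℚ) ∈ LinearMap.range σS :=
      ⟨Pi.single ⟨s, hs⟩ 1, by simp [σS, Fintype.linearCombination_apply_single]⟩
    have := Submodule.sub_mem _ (Submodule.mem_sup_right (S := R) h2)
      (Submodule.mem_sup_left (T := LinearMap.range σS) (hsingle g hg s))
    simpa using this
  have hR : Fintype.card α ≤ finrank ℚ R + S.card := by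
    have h1 := Submodule.finrank_add_le_finrank_add_finrank R (LinearMap.range σS)
    rw [htop, finrank_top, finrank_fintype_fun_eq_card] at h1
    have h2 := LinearMap.finrank_range_le σS
    rw [finrank_fintype_fun_eq_card, Fintype.card_coe] at h2
    omega
  have hRδ : R ≤ LinearMap.range δ := by
    have hA : ∀ f, dlin x f ∈ LinearMap.range δ := fun f =>
      ⟨((dlin x).rangeRestrict f, 0, 0), by
        show dlin x f + (Tx 0 + Tx (Ty 0)) = dlin x f
        simp⟩
    refine sup_le ?_ ?_
    · rintro _ ⟨f, rfl⟩; exact hA f
    · rintro _ ⟨f, rfl⟩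
      have h2 : Tx (dlin y f) ∈ LinearMap.range δ :=
        ⟨(0, (dlin y).rangeRestrict f, 0), by
          show (0 : α → ℚ) + (Tx (dlin y f) + Tx (Ty 0)) = Tx (dlin y f)
          simp⟩
      have h3 := Submodule.add_mem _ (hA (dlin y f)) h2
      rwa [show dlin x (dlin y f) + Tx (dlin y f) = dlin y f by
        funext a; simp [dlin_apply, Tx, LinearMap.funLeft_apply]] at h3
  have h1 := LinearMap.finrank_range_add_finrank_ker β
  have h2 := LinearMap.finrank_range_add_finrank_ker δ
  have h3 : finrank ℚ (LinearMap.range β) ≤ finrank ℚ (LinearMap.ker δ) :=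
    Submodule.finrank_mono (LinearMap.range_le_ker_iff.2 hδβ)
  have h4 := Submodule.finrank_mono hRδ
  have hC : finrank ℚ C = finrank ℚ (LinearMap.range (dlin x))
      + (finrank ℚ (LinearMap.range (dlin y)) + finrank ℚ (LinearMap.range (dlin z))) := by
    simp only [C, Module.finrank_prod]
  rw [finrank_fintype_fun_eq_card] at h1
  have := finrank_range_add x
  have := finrank_range_add y
  have := finrank_range_add z
  omega

/-- A permutation of prime order has at least the expected number of cycles. -/
theorem mul_cyc_ge {σ : Equiv.Perm α} {p : ℕ} (hp : p.Prime) (hσ : orderOf σ = p) :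
    Fintype.card α + (p - 1) * (Finset.univ.filter fun a => σ a = a).card ≤ p * cyc σ := by
  classical
  let S := MulAction.orbitRel.Quotient (Subgroup.zpowers σ) α
  have hinv : ∀ a, Quotient.mk'' (σ.symm a) = (Quotient.mk'' a : S) := fun a =>
    Quotient.sound' ⟨⟨σ⁻¹, inv_mem (Subgroup.mem_zpowers σ)⟩, rfl⟩
  -- indicator functions of the orbits are fixed
  let ι : (S → ℚ) →ₗ[ℚ] LinearMap.ker (dlin σ) :=
    (LinearMap.funLeft ℚ ℚ (Quotient.mk'' : α → S)).codRestrict _ fun h =>
      LinearMap.mem_ker.2 (funext fun a => by simp [dlin_apply, LinearMap.funLeft_apply, hinv])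
  have hι : Function.Injective ι := fun f g hfg => funext fun q => by
    induction q using Quotient.inductionOn' with
    | h a => exact congrFun (congrArg Subtype.val hfg) a
  have h1 := LinearMap.finrank_le_finrank_of_injective hι
  rw [finrank_fintype_fun_eq_card] at h1
  let fib : S → Finset α := fun q => Finset.univ.filter fun a => Quotient.mk'' a = q
  have hsum : Fintype.card α = ∑ q : S, (fib q).card :=
    Finset.card_eq_sum_card_fiberwise fun a _ => Finset.mem_univ _
  have hfixsum : (Finset.univ.filter fun a => σ a = a).card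
      = ∑ q : S, ((fib q).filter fun a => σ a = a).card := by
    rw [Finset.card_eq_sum_card_fiberwise (f := (Quotient.mk'' : α → S)) (t := Finset.univ)
      fun a _ => Finset.mem_univ _]
    refine Finset.sum_congr rfl fun q _ => ?_
    simp only [fib, Finset.filter_filter, and_comm]
  have hq : ∀ q : S, (fib q).card + (p - 1) * ((fib q).filter fun a => σ a = a).card ≤ p := by
    intro q
    induction q using Quotient.inductionOn' with
    | h a =>
      rcases ((fib (Quotient.mk'' a)).filter fun b => σ b = b).eq_empty_or_nonempty with e | ⟨b, hb⟩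
      · rw [e, Finset.card_empty, mul_zero, add_zero]
        have hsub : ((fib (Quotient.mk'' a) : Finset α) : Set α) ⊆
            (fun g : Subgroup.zpowers σ => g • a) '' Set.univ := by
          intro b hb
          obtain ⟨g, hg⟩ := Quotient.exact' (Finset.mem_filter.1 hb).2
          exact ⟨g, Set.mem_univ _, hg⟩
        have h2 := Set.ncard_le_ncard hsub (Set.toFinite _)
        have h3 := Set.ncard_image_le (f := fun g : Subgroup.zpowers σ => g • a) (s := Set.univ)
          (Set.toFinite _)
        rw [Set.ncard_coe_finset] at h2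
        rw [Set.ncard_univ, Nat.card_zpowers, hσ] at h3
        omega
      · obtain ⟨hb1, hb2⟩ := Finset.mem_filter.1 hb
        have hfix : ∀ g : Subgroup.zpowers σ, g • b = b := by
          rintro ⟨g, hg⟩
          exact MulAction.mem_stabilizer_iff.1 ((Subgroup.zpowers_le.2
            (show σ ∈ MulAction.stabilizer (Equiv.Perm α) b from hb2)) hg)
        have hone : fib (Quotient.mk'' a) ⊆ {b} := by
          intro c hc
          have e : (Quotient.mk'' c : S) = Quotient.mk'' b :=
            (Finset.mem_filter.1 hc).2.trans (Finset.mem_filter.1 hb1).2.symm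
          obtain ⟨g, hg⟩ := Quotient.exact' e
          rw [Finset.mem_singleton, ← hg]
          exact hfix g
        have h2 := Finset.card_le_card hone
        have h3 := Finset.card_filter_le (fib (Quotient.mk'' a)) fun c => σ c = c
        rw [Finset.card_singleton] at h2
        have h4 := hp.two_le
        have h5 : (p - 1) * ((fib (Quotient.mk'' a)).filter fun c => σ c = c).card ≤ (p - 1) * 1 :=
          Nat.mul_le_mul_left _ (by omega)
        omega
  calc Fintype.card α + (p - 1) * (Finset.univ.filter fun a => σ a = a).card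
      = ∑ q : S, ((fib q).card + (p - 1) * ((fib q).filter fun a => σ a = a).card) := by
        rw [Finset.sum_add_distrib, ← Finset.mul_sum, ← hsum, ← hfixsum]
    _ ≤ ∑ _q : S, p := Finset.sum_le_sum fun q _ => hq q
    _ = p * Fintype.card S := by rw [Finset.sum_const, Finset.card_univ, smul_eq_mul, mul_comm]
    _ ≤ p * cyc σ := Nat.mul_le_mul_left _ h1

/-- The number of fixed points of an element of prime order, modulo the prime. -/
theorem fixed_mod {σ : Equiv.Perm α} {p : ℕ} (hp : p.Prime) (hσ : orderOf σ = p) :
    (Finset.univ.filter fun a => σ a = a).card % p = Fintype.card α % p := by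
  haveI : Fact p.Prime := ⟨hp⟩
  have hs : σ.supportᶜ = Finset.univ.filter fun a => σ a = a := by ext a; simp
  rw [← hs]
  exact Equiv.Perm.card_compl_support_modEq (n := 1) (by rw [pow_one, ← hσ, pow_orderOf_eq_one])

end Cfsg.Agent.Lib.ScottCycles
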