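import Mathlib
import Cfsg.Agent.S0743
import Cfsg.Agent.Lib.Transfer.Criteria

/-!
# A multiply transitive group induces the alternating group on some subset

Let `G` be `k`-transitive on more than `k ≥ 4` points. By passing to the fixed points of a largest
`p`-subgroup fixing more than `k` points, one may assume that only the identity fixes more than
`k` points; then commuting involutions give all transpositions on some `(k+1)`-set, unless `G` is
the alternating group of degree `k+2`.
-/

set_option autoImplicit false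

namespace Cfsg.Agent.Lib.Perm.AltOnSubset

open Equiv Equiv.Perm

universe u

variable {α : Type u}

/-- The pointwise fixer of a finite set in a permutation group. -/
def fixer (G : Subgroup (Perm α)) (A : Finset α) : Subgroup (Perm α) where
  carrier := {g | g ∈ G ∧ ∀ x ∈ A, g x = x}
  one_mem' := ⟨one_mem G, fun _ _ => rfl⟩
  mul_mem' := fun {g h} hg hh => ⟨mul_mem hg.1 hh.1, fun x hx => by
    rw [mul_apply, hh.2 x hx, hg.2 x hx]⟩
  inv_mem' := fun {g} hg => ⟨inv_mem hg.1, fun x hx => by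
    rw [inv_eq_iff_eq]; exact (hg.2 x hx).symm⟩

theorem mem_fixer {G : Subgroup (Perm α)} {A : Finset α} {g : Perm α} :
    g ∈ fixer G A ↔ g ∈ G ∧ ∀ x ∈ A, g x = x := Iff.rfl

/-- Every injective map on a `k`-set is induced by the group. -/
def KTrans (G : Subgroup (Perm α)) (k : ℕ) : Prop :=
  ∀ A : Finset α, A.card = k → ∀ f : α → α, Set.InjOn f A → ∃ g ∈ G, ∀ x ∈ A, g x = f x

theorem kTrans_of_pretransitive {G : Subgroup (Perm α)} {k : ℕ}
    (h : MulAction.IsMultiplyPretransitive G α k) : KTrans G k := by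
  intro A hA f hf
  let e := (Finset.equivFinOfCardEq hA).symm
  let x : Fin k ↪ α := e.toEmbedding.trans (Function.Embedding.subtype _)
  let y : Fin k ↪ α := ⟨fun i => f (e i), fun i j hij => e.injective (Subtype.ext (hf (e i).2 (e j).2 hij))⟩
  obtain ⟨g, hg⟩ := (MulAction.isMultiplyPretransitive_iff.mp h) (x := x) (y := y)
  refine ⟨g, g.2, fun z hz => ?_⟩
  have := DFunLike.congr_fun hg (e.symm ⟨z, hz⟩)
  change (g : Perm α) (e (e.symm ⟨z, hz⟩) : α) = f (e (e.symm ⟨z, hz⟩) : α) at this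
  rwa [e.apply_symm_apply] at this

/-- The conclusion. -/
def Good [DecidableEq α] (G : Subgroup (Perm α)) (k : ℕ) : Prop :=
  ∃ Δ : Finset α, Δ.card = k + 1 ∧ ∀ σ : Perm ↥Δ, ∀ [Fintype ↥Δ], σ.sign = 1 →
    ∃ g ∈ G, ∀ x : ↥Δ, g (x : α) = σ x

theorem good_of_swaps [DecidableEq α] {G : Subgroup (Perm α)} {k : ℕ} (Δ : Finset α) (hΔ : Δ.card = k + 1)
    (h : ∀ a ∈ Δ, ∀ b ∈ Δ, a ≠ b → ∃ g ∈ G, g a = b ∧ g b = a ∧ ∀ x ∈ Δ, x ≠ a → x ≠ b → g x = x) :
    Good G k := by
  classical
  refine ⟨Δ, hΔ, fun σ => ?_⟩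
  intro _ hσ
  clear hσ
  induction σ using Perm.swap_induction_on with
  | one => exact ⟨1, one_mem G, fun x => rfl⟩
  | swap_mul f x y hxy ih =>
    obtain ⟨g, hg, hgf⟩ := ih
    obtain ⟨t, ht, ht1, ht2, ht3⟩ := h x x.2 y y.2 (fun e => hxy (Subtype.ext e))
    refine ⟨t * g, mul_mem ht hg, fun z => ?_⟩
    rw [mul_apply, hgf]
    show t (f z : α) = ((Equiv.swap x y) (f z) : α)
    rcases eq_or_ne (f z) x with e | e1
    · rw [e, swap_apply_left, ht1]
    rcases eq_or_ne (f z) y with e | e2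
    · rw [e, swap_apply_right, ht2]
    rw [swap_apply_of_ne_of_ne e1 e2]
    exact ht3 _ (f z).2 (fun e => e1 (Subtype.ext e)) (fun e => e2 (Subtype.ext e))

theorem involutive_fixed_mod_two {β : Type*} [Fintype β] [DecidableEq β] {f : β → β}
    (hf : Function.Involutive f) :
    (Finset.univ.filter fun x => f x = x).card % 2 = Fintype.card β % 2 := by
  have : Fact (Nat.Prime 2) := ⟨Nat.prime_two⟩
  have h := card_compl_support_modEq (p := 2) (n := 1) (σ := hf.toPerm f)
    (Equiv.ext fun x => by rw [pow_one, pow_two, mul_apply]; exact hf x)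
  rw [show (hf.toPerm f).supportᶜ = Finset.univ.filter (fun x => f x = x) by
    ext x; simp [Function.Involutive.toPerm]] at h
  exact h

/-- The fixed points of a permutation, as a finite set. -/
def fixSet [Fintype α] [DecidableEq α] (g : Perm α) : Finset α := Finset.univ.filter fun x => g x = x

theorem mem_fixSet [Fintype α] [DecidableEq α] {g : Perm α} {x : α} : x ∈ fixSet g ↔ g x = x := by
  simp [fixSet]

theorem exists_commuting_involution [Fintype α] [DecidableEq α] {G : Subgroup (Perm α)} {A : Finset α}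
    {g : Perm α} (hg : g ∈ G) (hg2 : g * g = 1) (hgA : ∀ x ∈ A, g x ∈ A) {τ : α → α}
    (hτA : ∀ x ∈ A, τ x ∈ A) (hττ : ∀ x ∈ A, τ (τ x) = x) (hgτ : ∀ x ∈ A, g (τ x) = τ (g x))
    (hodd : Odd (Nat.card (fixer G A))) (hex : ∃ h ∈ G, ∀ x ∈ A, h x = τ x) :
    ∃ h ∈ G, h * h = 1 ∧ h * g = g * h ∧ ∀ x ∈ A, h x = τ x := by
  classical
  obtain ⟨h₀, hh₀, hh₀τ⟩ := hex
  let L := {h : Perm α // h ∈ G ∧ ∀ x ∈ A, h x = τ x}
  have hL : Fintype.card L % 2 = 1 := by
    have e : fixer G A ≃ L :=
      { toFun := fun z => ⟨h₀ * z, mul_mem hh₀ z.2.1, fun x hx => by rw [mul_apply, z.2.2 x hx, hh₀τ x hx]⟩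
        invFun := fun h => ⟨h₀⁻¹ * h, mul_mem (inv_mem hh₀) h.2.1, fun x hx => by
          rw [mul_apply, h.2.2 x hx, inv_eq_iff_eq, hh₀τ x hx]⟩
        left_inv := fun z => Subtype.ext (inv_mul_cancel_left _ _)
        right_inv := fun h => Subtype.ext (mul_inv_cancel_left _ _) }
    rw [← Nat.card_eq_fintype_card, ← Nat.card_congr e]
    exact Nat.odd_iff.mp hodd
  let inv : L → L := fun h => ⟨h.1⁻¹, inv_mem h.2.1, fun x hx => by
    rw [inv_eq_iff_eq, h.2.2 _ (hτA x hx), hττ x hx]⟩
  have hinv : Function.Involutive inv := fun h => Subtype.ext (inv_inv _)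
  let I := {h : L // inv h = h}
  have hI : Fintype.card I % 2 = 1 := by
    rw [Fintype.card_subtype, involutive_fixed_mod_two hinv, hL]
  have hginv : g⁻¹ = g := inv_eq_of_mul_eq_one_right hg2
  have hgg : ∀ x, g (g x) = x := fun x => by rw [← mul_apply, hg2, one_apply]
  let c : I → I := fun h => ⟨⟨g * h.1.1 * g, mul_mem (mul_mem hg h.1.2.1) hg, fun x hx => by
      rw [mul_apply, mul_apply, h.1.2.2 _ (hgA x hx), hgτ _ (hgA x hx), hgg]⟩, Subtype.ext (by
      have h1 : h.1.1⁻¹ = h.1.1 := congrArg Subtype.val h.2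
      show (g * h.1.1 * g)⁻¹ = g * h.1.1 * g
      rw [mul_inv_rev, mul_inv_rev, hginv, h1, mul_assoc])⟩
  have hc : Function.Involutive c := fun h => Subtype.ext (Subtype.ext (by
    show g * (g * h.1.1 * g) * g = h.1.1
    rw [show g * (g * h.1.1 * g) * g = (g * g) * h.1.1 * (g * g) by group, hg2, one_mul, mul_one]))
  obtain ⟨h, hh⟩ : ∃ h, c h = h := by
    have := involutive_fixed_mod_two hc
    obtain ⟨h, hh⟩ := Finset.card_pos.mp (by omega : 0 < (Finset.univ.filter fun h => c h = h).card)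
    exact ⟨h, (Finset.mem_filter.mp hh).2⟩
  have h1 : h.1.1⁻¹ = h.1.1 := congrArg Subtype.val h.2
  have h2 : g * h.1.1 * g = h.1.1 := congrArg (fun t : I => t.1.1) hh
  refine ⟨h.1.1, h.1.2.1, ?_, ?_, h.1.2.2⟩
  · conv_lhs => arg 1; rw [← h1]
    exact inv_mul_cancel _
  · conv_lhs => rw [← h2]
    rw [mul_assoc _ g g, hg2, mul_one]

theorem exists_commuting_fixing [Fintype α] [DecidableEq α] {G : Subgroup (Perm α)} {A : Finset α}
    {g : Perm α} (hg : g ∈ G) (hg2 : g * g = 1) (hgA : ∀ x ∈ A, g x ∈ A)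
    (heven : Even (Nat.card (fixer G A))) :
    ∃ v ∈ G, v ≠ 1 ∧ v * v = 1 ∧ v * g = g * v ∧ ∀ x ∈ A, v x = x := by
  classical
  have : Fact (Nat.Prime 2) := ⟨Nat.prime_two⟩
  have hgg : ∀ x, g (g x) = x := fun x => by rw [← mul_apply, hg2, one_apply]
  have hginv : g⁻¹ = g := inv_eq_of_mul_eq_one_right hg2
  let I := {v : fixer G A // v⁻¹ = v}
  have hI : Fintype.card I % 2 = 0 := by
    rw [Fintype.card_subtype, involutive_fixed_mod_two (f := fun v : fixer G A => v⁻¹) inv_inv,
      ← Nat.card_eq_fintype_card]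
    exact Nat.even_iff.mp heven
  let c : I → I := fun v => ⟨⟨g * v.1.1 * g, mul_mem (mul_mem hg v.1.2.1) hg, fun x hx => by
      rw [mul_apply, mul_apply, v.1.2.2 _ (hgA x hx), hgg]⟩, Subtype.ext (by
      have h1 : v.1.1⁻¹ = v.1.1 := congrArg Subtype.val v.2
      show (g * v.1.1 * g)⁻¹ = g * v.1.1 * g
      rw [mul_inv_rev, mul_inv_rev, hginv, h1, mul_assoc])⟩
  have hc : Function.Involutive c := fun v => Subtype.ext (Subtype.ext (by
    show g * (g * v.1.1 * g) * g = v.1.1
    rw [show g * (g * v.1.1 * g) * g = (g * g) * v.1.1 * (g * g) by group, hg2, one_mul, mul_one]))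
  have hfix1 : c ⟨1, inv_one⟩ = ⟨1, inv_one⟩ := Subtype.ext (Subtype.ext (by
    show g * 1 * g = 1
    rw [mul_one, hg2]))
  obtain ⟨v, hv, hv1⟩ := exists_fixed_point_of_prime' (p := 2) (n := 1) (Nat.dvd_of_mod_eq_zero hI)
    (σ := hc.toPerm c) (Equiv.ext fun x => by rw [pow_one, pow_two, mul_apply]; exact hc x)
    (a := ⟨1, inv_one⟩) hfix1
  have h1 : v.1.1⁻¹ = v.1.1 := congrArg Subtype.val v.2
  have h2 : g * v.1.1 * g = v.1.1 := congrArg (fun t : I => t.1.1) hv
  refine ⟨v.1.1, v.1.2.1, fun e => hv1 (Subtype.ext (Subtype.ext e)), ?_, ?_, v.1.2.2⟩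
  · conv_lhs => arg 1; rw [← h1]
    exact inv_mul_cancel _
  · conv_lhs => rw [← h2]
    rw [mul_assoc _ g g, hg2, mul_one]

section Base

variable [Fintype α] [DecidableEq α] {G : Subgroup (Perm α)} {k : ℕ}

/-- An involution that moves a member of a pair and fixes the rest of an invariant set swaps the pair. -/
theorem apply_eq_of_pair {h : Perm α} {B : Finset α} {a b : α} (hB : ∀ x ∈ B, h x ∈ B) (ha : a ∈ B)
    (hrest : ∀ x ∈ B, x ≠ a → x ≠ b → h x = x) (hne : h a ≠ a) : h a = b := by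
  by_contra hb
  exact hne (h.injective (hrest (h a) (hB a ha) hne hb))

/-- Commuting permutations preserve fixed points. -/
theorem fixSet_invariant {g h : Perm α} (hc : h * g = g * h) : ∀ x ∈ fixSet g, h x ∈ fixSet g := by
  intro x hx
  rw [mem_fixSet] at hx ⊢
  rw [← mul_apply, ← hc, mul_apply, hx]

/-- Some involution fixes exactly `k` points: all transpositions appear on a `(k+1)`-set. -/
theorem good_of_involution (hk : 4 ≤ k) (hT : KTrans G k) (hkn : k < Fintype.card α)
    (hfree : ∀ g ∈ G, g ≠ 1 → (fixSet g).card ≤ k) {u₀ : Perm α} (hu₀ : u₀ ∈ G) (hu₀1 : u₀ ≠ 1)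
    (hu₀2 : u₀ * u₀ = 1) (hu₀f : (fixSet u₀).card = k) : Good G k := by
  have heven : ∀ A : Finset α, A.card = k → Even (Nat.card (fixer G A)) := by
    intro A hA
    obtain ⟨e⟩ : Nonempty (↥A ≃ ↥(fixSet u₀)) := ⟨Finset.equivOfCardEq (hA.trans hu₀f.symm)⟩
    obtain ⟨g, hg, hgf⟩ := hT A hA (fun x => if hx : x ∈ A then (e ⟨x, hx⟩ : α) else x) (fun x hx y hy h => by
      simp only [Finset.mem_coe] at hx hy
      simp only [hx, hy, dif_pos] at h
      exact congrArg Subtype.val (e.injective (Subtype.ext h)))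
    have hv : g⁻¹ * u₀ * g ∈ fixer G A := ⟨mul_mem (mul_mem (inv_mem hg) hu₀) hg, fun x hx => by
      rw [mul_apply, mul_apply, hgf x hx, dif_pos hx, mem_fixSet.mp (e ⟨x, hx⟩).2, inv_eq_iff_eq, hgf x hx,
        dif_pos hx]⟩
    rw [even_iff_two_dvd]
    have ho : orderOf (⟨_, hv⟩ : fixer G A) = 2 := by
      rw [← Subgroup.orderOf_coe]
      refine orderOf_eq_prime ?_ ?_
      · rw [pow_two, show g⁻¹ * u₀ * g * (g⁻¹ * u₀ * g) = g⁻¹ * (u₀ * u₀) * g by group, hu₀2]; group
      · intro h
        have h' : g⁻¹ * u₀ * g = 1 := h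
        exact hu₀1 (by rw [show u₀ = g * (g⁻¹ * u₀ * g) * g⁻¹ by group, h']; group)
    exact ho ▸ orderOf_dvd_natCard _
  have claim : ∀ u ∈ G, u * u = 1 → (fixSet u).card = k → ∀ x, u x ≠ x → ∀ c ∈ fixSet u, ∀ d ∈ fixSet u, c ≠ d →
      ∃ v ∈ G, v * v = 1 ∧ v c = d ∧ fixSet v = ((fixSet u).erase c).erase d ∪ {x, u x} := by
    intro u hu hu2 huf x hx c hc d hd hcd
    have huu : u (u x) = x := by rw [← mul_apply, hu2, one_apply]
    set A' := ((fixSet u).erase c).erase d ∪ {x, u x} with hA'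
    have hA'c : A'.card = k := by
      rw [hA', Finset.card_union_of_disjoint, Finset.card_pair hx.symm,
        Finset.card_erase_of_mem (Finset.mem_erase.mpr ⟨hcd.symm, hd⟩), Finset.card_erase_of_mem hc, huf]
      · omega
      · rw [Finset.disjoint_right]
        intro z hz h'
        have hzf := mem_fixSet.mp (Finset.mem_of_mem_erase (Finset.mem_of_mem_erase h'))
        simp only [Finset.mem_insert, Finset.mem_singleton] at hz
        rcases hz with rfl | rfl
        · exact hx hzf
        · exact hx (u.injective hzf)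
    obtain ⟨v, hv, hv1, hv2, hvc, hvA⟩ := exists_commuting_fixing (A := A') hu hu2 (fun z hz => by
      rw [hA', Finset.mem_union] at hz ⊢
      rcases hz with hz | hz
      · left; rwa [mem_fixSet.mp (Finset.mem_of_mem_erase (Finset.mem_of_mem_erase hz))]
      · right
        simp only [Finset.mem_insert, Finset.mem_singleton] at hz ⊢
        rcases hz with rfl | rfl
        · exact Or.inr rfl
        · exact Or.inl huu) (heven A' hA'c)
    have hsub : A' ⊆ fixSet v := fun z hz => mem_fixSet.mpr (hvA z hz)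
    have heq : fixSet v = A' := (Finset.eq_of_subset_of_card_le hsub ((hfree v hv hv1).trans_eq hA'c.symm)).symm
    refine ⟨v, hv, hv2, apply_eq_of_pair (fixSet_invariant hvc) hc (fun z hz h1 h2 => hvA z ?_) (fun h => ?_), heq⟩
    · exact Finset.mem_union_left _ (Finset.mem_erase.mpr ⟨h2, Finset.mem_erase.mpr ⟨h1, hz⟩⟩)
    · have h' := mem_fixSet.mpr h
      rw [heq, hA', Finset.mem_union] at h'
      rcases h' with h' | h'
      · exact (Finset.mem_erase.mp (Finset.mem_of_mem_erase h')).1 rfl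
      · simp only [Finset.mem_insert, Finset.mem_singleton] at h'
        rcases h' with rfl | rfl
        · exact hx (mem_fixSet.mp hc)
        · exact hx (u.injective (mem_fixSet.mp hc))
  obtain ⟨x, hx⟩ : ∃ x, u₀ x ≠ x := by
    by_contra h
    push Not at h
    exact hu₀1 (Equiv.ext h)
  have hxA : x ∉ fixSet u₀ := fun h => hx (mem_fixSet.mp h)
  have hinv : ∀ {v : Perm α}, v * v = 1 → ∀ {a b : α}, v a = b → v b = a := fun h a b e => by
    rw [← e, ← mul_apply, h, one_apply]
  have hmix : ∀ c ∈ fixSet u₀, ∃ g ∈ G, g c = x ∧ g x = c ∧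
      ∀ z ∈ insert x (fixSet u₀), z ≠ c → z ≠ x → g z = z := by
    intro c hc
    obtain ⟨c', hc', d', hd', hcd⟩ := Finset.one_lt_card.mp (show 1 < ((fixSet u₀).erase c).card by
      rw [Finset.card_erase_of_mem hc]; omega)
    obtain ⟨v, hv, hv2, hvcd, hvf⟩ := claim u₀ hu₀ hu₀2 hu₀f x hx c' (Finset.mem_of_mem_erase hc')
      d' (Finset.mem_of_mem_erase hd') hcd
    have hxv : x ∈ fixSet v := by rw [hvf]; simp
    have hcv : c ∈ fixSet v := by
      rw [hvf]
      exact Finset.mem_union_left _ (Finset.mem_erase.mpr ⟨(Finset.ne_of_mem_erase hd').symm,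
        Finset.mem_erase.mpr ⟨(Finset.ne_of_mem_erase hc').symm, hc⟩⟩)
    have hc'v : v c' ≠ c' := by rw [hvcd]; exact hcd.symm
    have hvcard : (fixSet v).card = k := by
      rw [hvf, Finset.card_union_of_disjoint, Finset.card_pair hx.symm,
        Finset.card_erase_of_mem (Finset.mem_erase.mpr ⟨hcd.symm, Finset.mem_of_mem_erase hd'⟩),
        Finset.card_erase_of_mem (Finset.mem_of_mem_erase hc'), hu₀f]
      · omega
      · rw [Finset.disjoint_right]
        intro z hz h'
        have hzf := mem_fixSet.mp (Finset.mem_of_mem_erase (Finset.mem_of_mem_erase h'))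
        simp only [Finset.mem_insert, Finset.mem_singleton] at hz
        rcases hz with rfl | rfl
        · exact hx hzf
        · exact hx (u₀.injective hzf)
    obtain ⟨w, hw, hw2, hwc, hwf⟩ := claim v hv hv2 hvcard c' hc'v c hcv x hxv (fun e => hxA (e ▸ hc))
    refine ⟨w, hw, hwc, hinv hw2 hwc, fun z hz hzc hzx => mem_fixSet.mp ?_⟩
    have hz' := (Finset.mem_insert.mp hz).resolve_left hzx
    rw [hwf, hvcd]
    rcases eq_or_ne z c' with rfl | h1
    · simp
    rcases eq_or_ne z d' with rfl | h2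
    · simp
    refine Finset.mem_union_left _ (Finset.mem_erase.mpr ⟨hzx, Finset.mem_erase.mpr ⟨hzc, ?_⟩⟩)
    rw [hvf]
    exact Finset.mem_union_left _ (Finset.mem_erase.mpr ⟨h2, Finset.mem_erase.mpr ⟨h1, hz'⟩⟩)
  refine good_of_swaps (insert x (fixSet u₀)) (by rw [Finset.card_insert_of_notMem hxA, hu₀f]) fun a ha b hb hab => ?_
  rcases Finset.mem_insert.mp ha with rfl | ha' <;> rcases Finset.mem_insert.mp hb with rfl | hb'
  · exact absurd rfl hab
  · obtain ⟨g, hg, h1, h2, h3⟩ := hmix b hb'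
    exact ⟨g, hg, h2, h1, fun z hz h4 h5 => h3 z hz h5 h4⟩
  · exact hmix a ha'
  · obtain ⟨v, hv, hv2, hvab, hvf⟩ := claim u₀ hu₀ hu₀2 hu₀f x hx a ha' b hb' hab
    refine ⟨v, hv, hvab, hinv hv2 hvab, fun z hz h1 h2 => mem_fixSet.mp ?_⟩
    rw [hvf]
    rcases Finset.mem_insert.mp hz with rfl | hz'
    · simp
    · exact Finset.mem_union_left _ (Finset.mem_erase.mpr ⟨h2, Finset.mem_erase.mpr ⟨h1, hz'⟩⟩)

theorem card_erase_union {B : Finset α} {a b x y : α} (ha : a ∈ B) (hb : b ∈ B) (hab : a ≠ b)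
    (hx : x ∉ B) (hy : y ∉ B) (hxy : x ≠ y) : ((B.erase a).erase b ∪ {x, y}).card = B.card := by
  have h2 : 2 ≤ B.card := Finset.one_lt_card.mpr ⟨a, ha, b, hb, hab⟩
  rw [Finset.card_union_of_disjoint, Finset.card_pair hxy,
    Finset.card_erase_of_mem (Finset.mem_erase.mpr ⟨hab.symm, hb⟩), Finset.card_erase_of_mem ha]
  · omega
  · rw [Finset.disjoint_right]
    intro z hz h'
    have hzB := Finset.mem_of_mem_erase (Finset.mem_of_mem_erase h')
    simp only [Finset.mem_insert, Finset.mem_singleton] at hz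
    rcases hz with rfl | rfl
    · exact hx hzB
    · exact hy hzB

theorem injOn_swap (A : Finset α) (a b : α) : Set.InjOn (Equiv.swap a b) (A : Set α) :=
  (Equiv.swap a b).injective.injOn

theorem swap_mem {A : Finset α} {a b : α} (ha : a ∈ A) (hb : b ∈ A) : ∀ x ∈ A, Equiv.swap a b x ∈ A := by
  intro x hx
  rw [Equiv.swap_apply_def]
  split_ifs <;> assumption

/-- Involutions fix exactly `k - 1` points: all transpositions appear on a `(k+1)`-set. -/
theorem good_of_odd (hk : 4 ≤ k) (hT : KTrans G k)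
    (hodd : ∀ A : Finset α, A.card = k → Odd (Nat.card (fixer G A)))
    (hle : ∀ g ∈ G, g * g = 1 → g ≠ 1 → (fixSet g).card + 1 ≤ k)
    (hex : ∃ g ∈ G, g * g = 1 ∧ g ≠ 1 ∧ (fixSet g).card + 1 = k) : Good G k := by
  obtain ⟨g₀, hg₀, hg₀2, hg₀1, hg₀f⟩ := hex
  have claim : ∀ g ∈ G, g * g = 1 → (fixSet g).card + 1 = k → ∀ x, g x ≠ x → ∀ a ∈ fixSet g, ∀ b ∈ fixSet g,
      a ≠ b → ∃ h ∈ G, h * h = 1 ∧ h a = b ∧ h b = a ∧ fixSet h = ((fixSet g).erase a).erase b ∪ {x, g x} := by
    intro g hg hg2 hgf x hx a ha b hb hab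
    set y := g x with hy
    have hyx : g y = x := by rw [hy, ← mul_apply, hg2, one_apply]
    have hxB : x ∉ fixSet g := fun h => hx (mem_fixSet.mp h)
    have hyB : y ∉ fixSet g := fun h => hx ((mem_fixSet.mp h).symm.trans hyx)
    obtain ⟨e, he⟩ : (((fixSet g).erase a).erase b).Nonempty := by
      rw [← Finset.card_pos, Finset.card_erase_of_mem (Finset.mem_erase.mpr ⟨hab.symm, hb⟩),
        Finset.card_erase_of_mem ha]
      omega
    obtain ⟨heb, hea, heB⟩ : e ≠ b ∧ e ≠ a ∧ e ∈ fixSet g :=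
      ⟨Finset.ne_of_mem_erase he, Finset.ne_of_mem_erase (Finset.mem_of_mem_erase he),
        Finset.mem_of_mem_erase (Finset.mem_of_mem_erase he)⟩
    set A := (fixSet g).erase e ∪ {x, y} with hA
    have hAc : A.card = k := by
      rw [hA, Finset.card_union_of_disjoint, Finset.card_pair hx.symm, Finset.card_erase_of_mem heB]
      · omega
      · rw [Finset.disjoint_right]
        intro z hz h'
        simp only [Finset.mem_insert, Finset.mem_singleton] at hz
        rcases hz with rfl | rfl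
        · exact hxB (Finset.mem_of_mem_erase h')
        · exact hyB (Finset.mem_of_mem_erase h')
    have haA : a ∈ A := Finset.mem_union_left _ (Finset.mem_erase.mpr ⟨hea.symm, ha⟩)
    have hbA : b ∈ A := Finset.mem_union_left _ (Finset.mem_erase.mpr ⟨heb.symm, hb⟩)
    have hxyA : x ∈ A ∧ y ∈ A := by simp [hA]
    have hax : a ≠ x := fun h => hxB (h ▸ ha)
    have hay : a ≠ y := fun h => hyB (h ▸ ha)
    have hbx : b ≠ x := fun h => hxB (h ▸ hb)
    have hby : b ≠ y := fun h => hyB (h ▸ hb)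
    obtain ⟨h₁, hh₁⟩ := hT A hAc (Equiv.swap a b) (injOn_swap A a b)
    obtain ⟨h, hh, hh2, hhg, hhA⟩ := exists_commuting_involution hg hg2 (A := A)
      (fun z hz => by
        rw [hA, Finset.mem_union] at hz ⊢
        rcases hz with hz | hz
        · left; rwa [mem_fixSet.mp (Finset.mem_of_mem_erase hz)]
        · right
          simp only [Finset.mem_insert, Finset.mem_singleton] at hz ⊢
          rcases hz with rfl | rfl
          · exact Or.inr hy.symm
          · exact Or.inl hyx)
      (τ := Equiv.swap a b) (swap_mem haA hbA) (fun z _ => Equiv.swap_apply_self a b z)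
      (fun z _ => by
        rcases eq_or_ne z a with rfl | h1
        · rw [Equiv.swap_apply_left, mem_fixSet.mp ha, mem_fixSet.mp hb, Equiv.swap_apply_left]
        rcases eq_or_ne z b with rfl | h2
        · rw [Equiv.swap_apply_right, mem_fixSet.mp ha, mem_fixSet.mp hb, Equiv.swap_apply_right]
        rw [Equiv.swap_apply_of_ne_of_ne h1 h2, Equiv.swap_apply_of_ne_of_ne
          (fun h => h1 (g.injective (h.trans (mem_fixSet.mp ha).symm)))
          (fun h => h2 (g.injective (h.trans (mem_fixSet.mp hb).symm)))])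
      (hodd A hAc) ⟨h₁, hh₁.1, hh₁.2⟩
    have hha : h a = b := by rw [hhA a haA, Equiv.swap_apply_left]
    have hhb : h b = a := by rw [hhA b hbA, Equiv.swap_apply_right]
    have hfix : ∀ z ∈ fixSet g, z ≠ a → z ≠ b → z ≠ e → h z = z := fun z hz h1 h2 h3 => by
      rw [hhA z (Finset.mem_union_left _ (Finset.mem_erase.mpr ⟨h3, hz⟩)), Equiv.swap_apply_of_ne_of_ne h1 h2]
    have hhe : h e = e := by
      by_contra hne
      rcases eq_or_ne (h e) a with h1 | h1
      · exact heb (h.injective (h1.trans hhb.symm))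
      rcases eq_or_ne (h e) b with h2 | h2
      · exact hea (h.injective (h2.trans hha.symm))
      exact hne (h.injective (hfix (h e) (fixSet_invariant hhg e heB) h1 h2 hne))
    have hsub : ((fixSet g).erase a).erase b ∪ {x, y} ⊆ fixSet h := by
      intro z hz
      rw [mem_fixSet]
      rw [Finset.mem_union] at hz
      rcases hz with hz | hz
      · rcases eq_or_ne z e with rfl | h3
        · exact hhe
        · exact hfix z (Finset.mem_of_mem_erase (Finset.mem_of_mem_erase hz))
            (Finset.ne_of_mem_erase (Finset.mem_of_mem_erase hz)) (Finset.ne_of_mem_erase hz) h3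
      · simp only [Finset.mem_insert, Finset.mem_singleton] at hz
        rcases hz with rfl | rfl
        · rw [hhA _ hxyA.1, Equiv.swap_apply_of_ne_of_ne hax.symm hbx.symm]
        · rw [hhA _ hxyA.2, Equiv.swap_apply_of_ne_of_ne hay.symm hby.symm]
    refine ⟨h, hh, hh2, hha, hhb, (Finset.eq_of_subset_of_card_le hsub ?_).symm⟩
    have h1 : h ≠ 1 := fun e' => hab (by rw [e', one_apply] at hha; exact hha)
    have := hle h hh hh2 h1
    rw [card_erase_union ha hb hab hxB hyB hx.symm]
    omega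
  obtain ⟨x, hx⟩ : ∃ x, g₀ x ≠ x := by
    by_contra h
    push Not at h
    exact hg₀1 (Equiv.ext h)
  set y := g₀ x with hy
  have hyx : g₀ y = x := by rw [hy, ← mul_apply, hg₀2, one_apply]
  set B := fixSet g₀ with hB
  have hxB : x ∉ B := fun h => hx (mem_fixSet.mp h)
  have hyB : y ∉ B := fun h => hx ((mem_fixSet.mp h).symm.trans hyx)
  have hmix : ∀ a ∈ B, ∀ z, (z = x ∨ z = y) → ∃ g ∈ G, g a = z ∧ g z = a ∧
      ∀ w ∈ B ∪ {x, y}, w ≠ a → w ≠ z → g w = w := by
    intro a ha z hz
    obtain ⟨c, hc, d, hd, hcd⟩ := Finset.one_lt_card.mp (show 1 < (B.erase a).card by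
      rw [Finset.card_erase_of_mem ha]; omega)
    obtain ⟨h, hh, hh2, hcd', -, hf⟩ := claim g₀ hg₀ hg₀2 hg₀f x hx c (Finset.mem_of_mem_erase hc) d
      (Finset.mem_of_mem_erase hd) hcd
    have hzh : z ∈ fixSet h := by rw [hf, ← hy]; rcases hz with rfl | rfl <;> simp
    have hah : a ∈ fixSet h := by
      rw [hf]
      exact Finset.mem_union_left _ (Finset.mem_erase.mpr ⟨(Finset.ne_of_mem_erase hd).symm,
        Finset.mem_erase.mpr ⟨(Finset.ne_of_mem_erase hc).symm, ha⟩⟩)
    have haz : a ≠ z := by rcases hz with rfl | rfl; exacts [fun e => hxB (e ▸ ha), fun e => hyB (e ▸ ha)]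
    have hcard : (fixSet h).card + 1 = k := by
      rw [hf, card_erase_union (Finset.mem_of_mem_erase hc) (Finset.mem_of_mem_erase hd) hcd hxB hyB hx.symm, hg₀f]
    obtain ⟨w, hw, -, hwa, hwz, hwf⟩ := claim h hh hh2 hcard c (by rw [hcd']; exact hcd.symm) a hah z hzh haz
    refine ⟨w, hw, hwa, hwz, fun v hv h1 h2 => mem_fixSet.mp ?_⟩
    rw [hwf, hcd']
    rcases eq_or_ne v c with rfl | h3
    · simp
    rcases eq_or_ne v d with rfl | h4
    · simp
    refine Finset.mem_union_left _ (Finset.mem_erase.mpr ⟨h2, Finset.mem_erase.mpr ⟨h1, ?_⟩⟩)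
    rw [hf, ← hy]
    rw [Finset.mem_union] at hv ⊢
    rcases hv with hv | hv
    · exact Or.inl (Finset.mem_erase.mpr ⟨h4, Finset.mem_erase.mpr ⟨h3, hv⟩⟩)
    · exact Or.inr hv
  have hcardΔ : (B ∪ {x, y}).card = k + 1 := by
    rw [Finset.card_union_of_disjoint, Finset.card_pair hx.symm]
    · omega
    · simp [hxB, hyB]
  refine good_of_swaps (B ∪ {x, y}) hcardΔ fun a ha b hb hab => ?_
  have hcase : ∀ z, z ∈ B ∪ {x, y} → z ∈ B ∨ (z = x ∨ z = y) := fun z hz =>
    (Finset.mem_union.mp hz).imp_right (by simp)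
  rcases hcase a ha with ha' | ha' <;> rcases hcase b hb with hb' | hb'
  · obtain ⟨h, hh, -, h1, h2, hf⟩ := claim g₀ hg₀ hg₀2 hg₀f x hx a ha' b hb' hab
    refine ⟨h, hh, h1, h2, fun z hz h3 h4 => mem_fixSet.mp ?_⟩
    rw [hf, ← hy, Finset.mem_union]
    rcases hcase z hz with hz' | hz'
    · exact Or.inl (Finset.mem_erase.mpr ⟨h4, Finset.mem_erase.mpr ⟨h3, hz'⟩⟩)
    · right; simpa using hz'
  · exact hmix a ha' b hb'
  · obtain ⟨g, hg, h1, h2, h3⟩ := hmix b hb' a ha'
    exact ⟨g, hg, h2, h1, fun z hz h4 h5 => h3 z hz h5 h4⟩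
  · refine ⟨g₀, hg₀, ?_, ?_, fun z hz h1 h2 => ?_⟩
    · rcases ha' with rfl | rfl <;> rcases hb' with rfl | rfl <;> first | exact absurd rfl hab | exact hy.symm | exact hyx
    · rcases ha' with rfl | rfl <;> rcases hb' with rfl | rfl <;> first | exact absurd rfl hab | exact hy.symm | exact hyx
    · rcases hcase z hz with hz' | hz'
      · exact mem_fixSet.mp hz'
      · exfalso
        rcases ha' with rfl | rfl <;> rcases hb' with rfl | rfl <;> rcases hz' with rfl | rfl <;>
          first | exact hab rfl | exact h1 rfl | exact h2 rfl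

theorem card_dvd_compl (K : Subgroup (Perm α)) (A : Finset α) (hA : ∀ z ∈ K, ∀ x ∈ A, z x = x)
    (hfree : ∀ z ∈ K, z ≠ 1 → ∀ w ∉ A, z w ≠ w) : Nat.card K ∣ Aᶜ.card := by
  classical
  let X := {w : α // w ∈ Aᶜ}
  have hmove : ∀ (z : K) (w : X), (z : Perm α) w ∈ Aᶜ := fun z w => Finset.mem_compl.mpr fun h => by
    have h1 := hA _ z.2 _ h
    exact (Finset.mem_compl.mp w.2) ((z : Perm α).injective h1 ▸ h)
  let : MulAction K X :=
    { smul := fun z w => ⟨(z : Perm α) w, hmove z w⟩
      one_smul := fun _ => Subtype.ext rfl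
      mul_smul := fun _ _ _ => Subtype.ext rfl }
  have hstab : ∀ w : X, MulAction.stabilizer K w = ⊥ := by
    intro w
    rw [Subgroup.eq_bot_iff_forall]
    intro z hz
    by_contra h
    exact hfree _ z.2 (fun e => h (Subtype.ext e)) w (Finset.mem_compl.mp w.2) (congrArg Subtype.val hz)
  have e := Nat.card_congr (MulAction.selfEquivSigmaOrbitsQuotientStabilizer K X)
  rw [Nat.card_sigma] at e
  rw [show Aᶜ.card = Nat.card X from (Nat.card_eq_finsetCard _).symm, e]
  refine Finset.dvd_sum fun ω _ => ?_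
  rw [← Subgroup.index_eq_card, hstab, Subgroup.index_bot]

/-- Involutions fix exactly `k - 2` points: the group is alternating of degree `k + 2`. -/
theorem good_of_even (hk : 4 ≤ k) (hT : KTrans G k) (hkn : k < Fintype.card α)
    (hfree : ∀ g ∈ G, g ≠ 1 → (fixSet g).card ≤ k)
    (hodd : ∀ A : Finset α, A.card = k → Odd (Nat.card (fixer G A)))
    (hinvol : ∀ g ∈ G, g * g = 1 → g ≠ 1 → (fixSet g).card + 2 ≤ k)
    (hpar : Fintype.card α % 2 = k % 2) (hPre : MulAction.IsMultiplyPretransitive G α k) : Good G k := by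
  classical
  have hsemi : ∀ A : Finset α, A.card = k → ∀ z ∈ fixer G A, z ≠ 1 → ∀ w ∉ A, z w ≠ w := by
    intro A hA z hz hz1 w hw h
    have h1 := Finset.card_le_card (show insert w A ⊆ fixSet z from Finset.insert_subset_iff.mpr
      ⟨mem_fixSet.mpr h, fun x hx => mem_fixSet.mpr (hz.2 x hx)⟩)
    rw [Finset.card_insert_of_notMem hw] at h1
    have := hfree z hz.1 hz1
    omega
  -- the main claim
  have claim : ∀ (A : Finset α), A.card = k → ∀ x ∈ A, ∀ y ∈ A, ∀ a ∈ A, ∀ b ∈ A, x ≠ y → a ≠ b → a ≠ x → a ≠ y →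
      b ≠ x → b ≠ y → ∀ g ∈ G, g * g = 1 → g x = y → g y = x → (∀ z ∈ A, z ≠ x → z ≠ y → g z = z) →
      Aᶜ.card ≤ 2 * Nat.card (fixer G A) ∧ (∀ z ∈ fixer G A, z * g = g * z) ∧
      ∃ h ∈ G, h * h = 1 ∧ h x = y ∧ h y = x ∧ h a = b ∧ h b = a ∧
        (∀ z ∈ A, z ≠ x → z ≠ y → z ≠ a → z ≠ b → h z = z) ∧ ∀ z ∈ fixer G A, h * z * h = z⁻¹ := by
    intro A hA x hx y hy a ha b hb hxy hab hax hay hbx hby g hg hg2 hgx hgy hgA
    have hg1 : g ≠ 1 := fun e => hxy (by rw [e, one_apply] at hgx; exact hgx)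
    have hsubg : (A.erase x).erase y ⊆ fixSet g := fun z hz =>
      mem_fixSet.mpr (hgA z (Finset.mem_of_mem_erase (Finset.mem_of_mem_erase hz))
        (Finset.ne_of_mem_erase (Finset.mem_of_mem_erase hz)) (Finset.ne_of_mem_erase hz))
    have hfg : fixSet g = (A.erase x).erase y := by
      refine (Finset.eq_of_subset_of_card_le hsubg ?_).symm
      have := hinvol g hg hg2 hg1
      rw [Finset.card_erase_of_mem (Finset.mem_erase.mpr ⟨hxy.symm, hy⟩), Finset.card_erase_of_mem hx, hA]
      omega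
    have hgA' : ∀ z ∈ A, g z ∈ A := by
      intro z hz
      rcases eq_or_ne z x with rfl | h1
      · rwa [hgx]
      rcases eq_or_ne z y with rfl | h2
      · rwa [hgy]
      rwa [hgA z hz h1 h2]
    have hgg : ∀ z, g (g z) = z := fun z => by rw [← mul_apply, hg2, one_apply]
    have hout : ∀ w ∉ A, g w ∉ A := fun w hw h => hw (hgg w ▸ hgA' _ h)
    have houtne : ∀ w ∉ A, g w ≠ w := fun w hw h => hw (by
      have := mem_fixSet.mpr h
      rw [hfg] at this
      exact Finset.mem_of_mem_erase (Finset.mem_of_mem_erase this))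
    have hwex : ∀ w ∉ A, ∃ h ∈ G, h * h = 1 ∧ h * g = g * h ∧ h x = y ∧ h y = x ∧ h a = b ∧ h b = a ∧
        (∀ z ∈ A, z ≠ x → z ≠ y → z ≠ a → z ≠ b → h z = z) ∧
        fixSet h = (((A.erase x).erase y).erase a).erase b ∪ {w, g w} := by
      intro w hw
      set B := (A.erase x).erase y with hBdef
      have hBc : B.card + 2 = k := by
        rw [hBdef, Finset.card_erase_of_mem (Finset.mem_erase.mpr ⟨hxy.symm, hy⟩), Finset.card_erase_of_mem hx, hA]
        omega
      have haB : a ∈ B := Finset.mem_erase.mpr ⟨hay, Finset.mem_erase.mpr ⟨hax, ha⟩⟩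
      have hbB : b ∈ B := Finset.mem_erase.mpr ⟨hby, Finset.mem_erase.mpr ⟨hbx, hb⟩⟩
      set A' := (A.erase a).erase b ∪ {w, g w} with hA'
      have hA'c : A'.card = k := by
        rw [hA', card_erase_union ha hb hab hw (hout w hw) (houtne w hw).symm, hA]
      have hxA' : x ∈ A' := Finset.mem_union_left _ (Finset.mem_erase.mpr ⟨hbx.symm, Finset.mem_erase.mpr ⟨hax.symm, hx⟩⟩)
      have hyA' : y ∈ A' := Finset.mem_union_left _ (Finset.mem_erase.mpr ⟨hby.symm, Finset.mem_erase.mpr ⟨hay.symm, hy⟩⟩)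
      obtain ⟨h₁, hh₁⟩ := hT A' hA'c (Equiv.swap x y) (injOn_swap A' x y)
      have hgzA' : ∀ z ∈ A', g z ∈ A' := by
        intro z hz
        rw [hA', Finset.mem_union] at hz
        rcases hz with hz | hz
        · have hzA := Finset.mem_of_mem_erase (Finset.mem_of_mem_erase hz)
          rcases eq_or_ne z x with rfl | h1
          · rwa [hgx]
          rcases eq_or_ne z y with rfl | h2
          · rwa [hgy]
          rw [hgA z hzA h1 h2]
          exact Finset.mem_union_left _ hz
        · refine Finset.mem_union_right _ ?_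
          simp only [Finset.mem_insert, Finset.mem_singleton] at hz ⊢
          rcases hz with rfl | rfl
          · exact Or.inr rfl
          · exact Or.inl (hgg w)
      have hcomm : ∀ z, g (Equiv.swap x y z) = Equiv.swap x y (g z) := fun z => by
        rcases eq_or_ne z x with rfl | h1
        · rw [Equiv.swap_apply_left, hgy, hgx, Equiv.swap_apply_right]
        rcases eq_or_ne z y with rfl | h2
        · rw [Equiv.swap_apply_right, hgx, hgy, Equiv.swap_apply_left]
        rw [Equiv.swap_apply_of_ne_of_ne h1 h2, Equiv.swap_apply_of_ne_of_ne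
          (fun h => h2 (g.injective (h.trans hgy.symm))) (fun h => h1 (g.injective (h.trans hgx.symm)))]
      obtain ⟨h, hh, hh2, hhg, hhA⟩ := exists_commuting_involution hg hg2 (A := A') hgzA'
        (τ := Equiv.swap x y) (swap_mem hxA' hyA') (fun z _ => Equiv.swap_apply_self x y z)
        (fun z _ => hcomm z) (hodd A' hA'c) ⟨h₁, hh₁.1, hh₁.2⟩
      have hhx : h x = y := by rw [hhA x hxA', Equiv.swap_apply_left]
      have hhy : h y = x := by rw [hhA y hyA', Equiv.swap_apply_right]
      have hfixB : ∀ z ∈ B, z ≠ a → z ≠ b → h z = z := fun z hz h1 h2 => by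
        rw [hhA z (Finset.mem_union_left _ (Finset.mem_erase.mpr ⟨h2, Finset.mem_erase.mpr
          ⟨h1, Finset.mem_of_mem_erase (Finset.mem_of_mem_erase hz)⟩⟩)),
          Equiv.swap_apply_of_ne_of_ne (Finset.ne_of_mem_erase (Finset.mem_of_mem_erase hz)) (Finset.ne_of_mem_erase hz)]
      have hwx : ∀ z ∈ ({w, g w} : Finset α), z ∉ A := by
        intro z hz
        simp only [Finset.mem_insert, Finset.mem_singleton] at hz
        rcases hz with rfl | rfl
        exacts [hw, hout w hw]
      have hsub : (B.erase a).erase b ∪ {w, g w} ⊆ fixSet h := by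
        intro z hz
        rw [mem_fixSet]
        rcases Finset.mem_union.mp hz with hz | hz
        · exact hfixB z (Finset.mem_of_mem_erase (Finset.mem_of_mem_erase hz))
            (Finset.ne_of_mem_erase (Finset.mem_of_mem_erase hz)) (Finset.ne_of_mem_erase hz)
        · rw [hhA z (Finset.mem_union_right _ hz), Equiv.swap_apply_of_ne_of_ne
            (fun e => hwx z hz (by rw [e]; exact hx)) (fun e => hwx z hz (by rw [e]; exact hy))]
      have hh1 : h ≠ 1 := fun e => hxy (by rw [e, one_apply] at hhx; exact hhx)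
      have hfix : fixSet h = (B.erase a).erase b ∪ {w, g w} := by
        refine (Finset.eq_of_subset_of_card_le hsub ?_).symm
        have := hinvol h hh hh2 hh1
        rw [card_erase_union haB hbB hab (fun e => hw (Finset.mem_of_mem_erase (Finset.mem_of_mem_erase e)))
          (fun e => hout w hw (Finset.mem_of_mem_erase (Finset.mem_of_mem_erase e))) (houtne w hw).symm]
        omega
      have hha : h a = b := apply_eq_of_pair (B := B) (fun z hz => by
        rw [← hfg] at hz ⊢; exact fixSet_invariant hhg z hz) haB hfixB (fun e => by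
          have h' := mem_fixSet.mpr e
          rw [hfix, Finset.mem_union] at h'
          rcases h' with h' | h'
          · exact Finset.ne_of_mem_erase (Finset.mem_of_mem_erase h') rfl
          · exact hwx a h' ha)
      exact ⟨h, hh, hh2, hhg, hhx, hhy, hha, by rw [← hha, ← mul_apply, hh2, one_apply],
        fun z hz h1 h2 h3 h4 => hfixB z (Finset.mem_erase.mpr ⟨h2, Finset.mem_erase.mpr ⟨h1, hz⟩⟩) h3 h4, hfix⟩
    choose hw hwG hw2 hwg hwx hwy hwa hwb hwrest hwfix using hwex
    obtain ⟨w₀, hw₀⟩ : ∃ w, w ∉ A := by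
      obtain ⟨w, -, hw⟩ := Finset.exists_mem_notMem_of_card_lt_card (s := A) (t := Finset.univ)
        (by rw [Finset.card_univ, hA]; exact hkn)
      exact ⟨w, hw⟩
    set h0 := hw w₀ hw₀ with hh0
    have hsame : ∀ w (hwA : w ∉ A), ∀ z ∈ A, hw w hwA z = h0 z := by
      intro w hwA z hz
      rcases eq_or_ne z x with rfl | h1
      · rw [hwx, hwx]
      rcases eq_or_ne z y with rfl | h2
      · rw [hwy, hwy]
      rcases eq_or_ne z a with rfl | h3
      · rw [hwa, hwa]
      rcases eq_or_ne z b with rfl | h4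
      · rw [hwb, hwb]
      rw [hwrest w hwA z hz h1 h2 h3 h4, hwrest w₀ hw₀ z hz h1 h2 h3 h4]
    have hz0 : ∀ w (hwA : w ∉ A), h0 * hw w hwA ∈ fixer G A := fun w hwA =>
      ⟨mul_mem (hwG w₀ hw₀) (hwG w hwA), fun z hz => by
        rw [mul_apply, hsame w hwA z hz, ← mul_apply, hw2, one_apply]⟩
    let K := fixer G A
    let S : Finset (Perm α) := (Finset.univ.filter fun z => z ∈ K).filter fun z => z * g = g * z
    let φ : {w : α // w ∈ Aᶜ} → Perm α := fun w => h0 * hw w (Finset.mem_compl.mp w.2)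
    have hφS : ∀ w, φ w ∈ S := fun w => Finset.mem_filter.mpr ⟨Finset.mem_filter.mpr ⟨Finset.mem_univ _, hz0 _ _⟩, by
      show h0 * hw _ _ * g = g * (h0 * hw _ _)
      rw [mul_assoc, hwg, ← mul_assoc, hwg, mul_assoc]⟩
    have himg : Aᶜ.card ≤ 2 * (Finset.univ.image φ).card := by
      rw [← Fintype.card_coe Aᶜ, ← Finset.card_univ (α := {w : α // w ∈ Aᶜ})]
      refine Finset.card_le_mul_card_image _ 2 fun z hz => ?_
      obtain ⟨w₁, -, rfl⟩ := Finset.mem_image.mp hz
      refine (Finset.card_le_card_of_injOn (t := ({(w₁ : α), g w₁} : Finset α)) Subtype.val (fun w hw' => ?_)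
        Subtype.val_injective.injOn).trans Finset.card_le_two
      have e : hw w (Finset.mem_compl.mp w.2) = hw w₁ (Finset.mem_compl.mp w₁.2) :=
        mul_left_cancel (Finset.mem_filter.mp hw').2
      have h' := congrArg fixSet e
      rw [hwfix, hwfix] at h'
      have h'' : (w : α) ∈ _ := h' ▸ Finset.mem_union_right _ (Finset.mem_insert_self _ _)
      rcases Finset.mem_union.mp h'' with h3 | h3
      · exact absurd (Finset.mem_of_mem_erase (Finset.mem_of_mem_erase (Finset.mem_of_mem_erase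
          (Finset.mem_of_mem_erase h3)))) (Finset.mem_compl.mp w.2)
      · exact Finset.mem_coe.mpr h3
    have hsubK : Finset.univ.image φ ⊆ Finset.univ.filter (fun z => z ∈ K) := fun z hz => by
      obtain ⟨w, -, rfl⟩ := Finset.mem_image.mp hz
      exact (Finset.mem_filter.mp (hφS w)).1
    have hKcard : (Finset.univ.filter fun z => z ∈ K).card = Nat.card K := by
      rw [Nat.card_eq_fintype_card, Fintype.card_subtype]
    have hdvd : Nat.card K ∣ Aᶜ.card := card_dvd_compl K A (fun z hz => hz.2) (hsemi A hA)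
    have hOeven : 2 ∣ Aᶜ.card := by rw [Finset.card_compl, hA]; omega
    obtain ⟨e', he'⟩ := hOeven
    have hKle : Nat.card K ≤ e' := by
      refine Nat.le_of_dvd ?_ (((Nat.coprime_two_right.mpr (hodd A hA)).dvd_of_dvd_mul_left) (he' ▸ hdvd))
      have : 0 < Aᶜ.card := by rw [Finset.card_compl, hA]; omega
      omega
    have heq : Finset.univ.image φ = Finset.univ.filter (fun z => z ∈ K) :=
      Finset.eq_of_subset_of_card_le hsubK (by omega)
    have hall : ∀ z ∈ K, ∃ w, φ w = z := fun z hz => by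
      have hz' : z ∈ Finset.univ.filter (fun z => z ∈ K) := by simpa using hz
      rw [← heq] at hz'
      obtain ⟨w, -, hw'⟩ := Finset.mem_image.mp hz'
      exact ⟨w, hw'⟩
    refine ⟨?_, fun z hz => ?_, h0, hwG w₀ hw₀, hw2 w₀ hw₀, hwx w₀ hw₀, hwy w₀ hw₀, hwa w₀ hw₀, hwb w₀ hw₀,
      hwrest w₀ hw₀, fun z hz => ?_⟩
    · show _ ≤ 2 * Nat.card K
      have := Finset.card_le_card hsubK
      rw [hKcard] at this
      omega
    · obtain ⟨w, rfl⟩ := hall z hz
      exact (Finset.mem_filter.mp (hφS w)).2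
    · obtain ⟨w, rfl⟩ := hall z hz
      show h0 * (h0 * hw _ _) * h0 = (h0 * hw _ _)⁻¹
      rw [← mul_assoc, hw2, one_mul, mul_inv_rev, inv_eq_of_mul_eq_one_right (hw2 w₀ hw₀),
        inv_eq_of_mul_eq_one_right (hw2 _ _)]
  -- apply the claim twice
  obtain ⟨A, hA⟩ := Finset.exists_subset_card_eq (s := (Finset.univ : Finset α)) (n := k) (by rw [Finset.card_univ]; omega)
  obtain ⟨x, hx, y, hy, hxy⟩ := Finset.one_lt_card.mp (show 1 < A.card by omega)
  obtain ⟨a, ha, b, hb, hab⟩ := Finset.one_lt_card.mp (show 1 < ((A.erase x).erase y).card by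
    rw [Finset.card_erase_of_mem (Finset.mem_erase.mpr ⟨hxy.symm, hy⟩), Finset.card_erase_of_mem hx]; omega)
  obtain ⟨hay, hax, haA⟩ : a ≠ y ∧ a ≠ x ∧ a ∈ A :=
    ⟨Finset.ne_of_mem_erase ha, Finset.ne_of_mem_erase (Finset.mem_of_mem_erase ha),
      Finset.mem_of_mem_erase (Finset.mem_of_mem_erase ha)⟩
  obtain ⟨hby, hbx, hbA⟩ : b ≠ y ∧ b ≠ x ∧ b ∈ A :=
    ⟨Finset.ne_of_mem_erase hb, Finset.ne_of_mem_erase (Finset.mem_of_mem_erase hb),
      Finset.mem_of_mem_erase (Finset.mem_of_mem_erase hb)⟩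
  have hinv : ∀ p ∈ A, ∀ q ∈ A, ∃ g ∈ G, g * g = 1 ∧ ∀ z ∈ A, g z = Equiv.swap p q z := by
    intro p hp q hq
    obtain ⟨h, hh, hh2, -, hhA⟩ := exists_commuting_involution (one_mem G) (one_mul 1) (A := A)
      (fun z hz => hz) (τ := Equiv.swap p q) (swap_mem hp hq) (fun z _ => Equiv.swap_apply_self p q z)
      (fun z _ => rfl) (hodd A hA.2) (by
        obtain ⟨g, hg⟩ := hT A hA.2 (Equiv.swap p q) (injOn_swap A p q)
        exact ⟨g, hg.1, hg.2⟩)
    exact ⟨h, hh, hh2, hhA⟩
  obtain ⟨g, hg, hg2, hgA⟩ := hinv x hx y hy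
  obtain ⟨g', hg', hg'2, hg'A⟩ := hinv a haA b hbA
  obtain ⟨hO, hcg, h0, hh0, hh02, h0x, h0y, h0a, h0b, h0rest, hinvert⟩ := claim A hA.2 x hx y hy a haA b hbA hxy hab
    hax hay hbx hby g hg hg2 (by rw [hgA x hx, Equiv.swap_apply_left]) (by rw [hgA y hy, Equiv.swap_apply_right])
    (fun z hz h1 h2 => by rw [hgA z hz, Equiv.swap_apply_of_ne_of_ne h1 h2])
  obtain ⟨-, hcg', -⟩ := claim A hA.2 a haA b hbA x hx y hy hab hxy hax.symm hbx.symm hay.symm hby.symm g' hg' hg'2
    (by rw [hg'A a haA, Equiv.swap_apply_left]) (by rw [hg'A b hbA, Equiv.swap_apply_right])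
    (fun z hz h1 h2 => by rw [hg'A z hz, Equiv.swap_apply_of_ne_of_ne h1 h2])
  have hagree : ∀ z ∈ A, (g * g') z = h0 z := by
    intro z hz
    rw [mul_apply, hg'A z hz, hgA _ (swap_mem haA hbA z hz)]
    rcases eq_or_ne z x with rfl | h1
    · rw [Equiv.swap_apply_of_ne_of_ne hax.symm hbx.symm, Equiv.swap_apply_left, h0x]
    rcases eq_or_ne z y with rfl | h2
    · rw [Equiv.swap_apply_of_ne_of_ne hay.symm hby.symm, Equiv.swap_apply_right, h0y]
    rcases eq_or_ne z a with rfl | h3
    · rw [Equiv.swap_apply_left, Equiv.swap_apply_of_ne_of_ne hbx hby, h0a]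
    rcases eq_or_ne z b with rfl | h4
    · rw [Equiv.swap_apply_right, Equiv.swap_apply_of_ne_of_ne hax hay, h0b]
    rw [Equiv.swap_apply_of_ne_of_ne h3 h4, Equiv.swap_apply_of_ne_of_ne h1 h2, h0rest z hz h1 h2 h3 h4]
  have hz2 : h0 * (g * g') ∈ fixer G A := ⟨mul_mem hh0 (mul_mem hg hg'), fun z hz => by
    rw [mul_apply, hagree z hz, ← mul_apply, hh02, one_apply]⟩
  have hh0i : h0⁻¹ = h0 := inv_eq_of_mul_eq_one_right hh02
  have hKcomm : ∀ z ∈ fixer G A, ∀ z' ∈ fixer G A, z * z' = z' * z := by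
    intro z hz z' hz'
    have h1 := hinvert _ (mul_mem hz hz')
    rw [show h0 * (z * z') * h0 = (h0 * z * h0) * (h0⁻¹ * h0⁻¹) * (h0 * z' * h0) by group, hinvert z hz,
      hinvert z' hz', hh0i, hh02, mul_one, mul_inv_rev] at h1
    have h2 := congrArg (·⁻¹) h1
    simp only [mul_inv_rev, inv_inv] at h2
    exact h2.symm
  have hK1 : ∀ z ∈ fixer G A, z = 1 := by
    intro z hz
    have hc : Commute z (h0 * (g * g')) := hKcomm z hz _ hz2
    have hc' : Commute z (g * g') := Commute.mul_right (hcg z hz) (hcg' z hz)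
    have hc0 : Commute z h0 := by
      have := hc.mul_right hc'.inv_right
      rwa [mul_assoc, mul_inv_cancel, mul_one] at this
    have h1 := hinvert z hz
    rw [← hc0.eq, mul_assoc, hh02, mul_one] at h1
    have h2 : z * z = 1 := by
      conv_lhs => arg 2; rw [h1]
      exact mul_inv_cancel z
    have ho : orderOf (⟨z, hz⟩ : fixer G A) ∣ 2 := orderOf_dvd_of_pow_eq_one (Subtype.ext (by simpa [pow_two] using h2))
    have h3 : orderOf (⟨z, hz⟩ : fixer G A) ∣ Nat.card (fixer G A) := orderOf_dvd_natCard _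
    have h4 := Nat.dvd_gcd h3 ho
    rw [Nat.Coprime.gcd_eq_one (Nat.coprime_two_right.mpr (hodd A hA.2)), Nat.dvd_one, orderOf_eq_one_iff] at h4
    exact congrArg Subtype.val h4
  have hn : Fintype.card α = k + 2 := by
    have h1 : Nat.card (fixer G A) = 1 := by
      rw [Subgroup.card_eq_one, Subgroup.eq_bot_iff_forall]; exact hK1
    rw [h1, Finset.card_compl, hA.2] at hO
    omega
  -- the group is alternating
  have hidx : G.index = 2 := by
    obtain e : Fin k ≃ ↥A := (Finset.equivFinOfCardEq hA.2).symm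
    let x₀ : Fin k ↪ α := e.toEmbedding.trans (Function.Embedding.subtype _)
    have hb : Function.Bijective fun g : G => g • x₀ := by
      refine ⟨fun p q h => ?_, fun q => (MulAction.isMultiplyPretransitive_iff.mp hPre) (x := x₀) (y := q)⟩
      have := hK1 ((q : Perm α)⁻¹ * (p : Perm α)) ⟨mul_mem (inv_mem q.2) p.2, fun z hz => by
        have h' := DFunLike.congr_fun h (e.symm ⟨z, hz⟩)
        simp only [Function.Embedding.smul_apply, x₀, Function.Embedding.trans_apply, Equiv.coe_toEmbedding,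
          Equiv.apply_symm_apply, Function.Embedding.coe_subtype, Subgroup.smul_def, Perm.smul_def] at h'
        rw [mul_apply, h', ← mul_apply, inv_mul_cancel, one_apply]⟩
      exact (Subtype.ext (inv_mul_eq_one.mp this)).symm
    have hcard := Nat.card_congr (Equiv.ofBijective _ hb)
    rw [Nat.card_eq_fintype_card (α := Fin k ↪ α), Fintype.card_embedding_eq, Fintype.card_fin, hn] at hcard
    have h2 := G.card_mul_index
    rw [Nat.card_perm, Nat.card_eq_fintype_card (α := α), hn, hcard,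
      ← Nat.factorial_mul_descFactorial (show k ≤ k + 2 by omega), show k + 2 - k = 2 by omega, Nat.factorial_two,
      mul_comm 2] at h2
    exact Nat.eq_of_mul_eq_mul_left (Nat.descFactorial_pos.mpr (by omega)) h2
  rw [eq_alternatingGroup_of_index_eq_two hidx]
  obtain ⟨Δ, hΔ⟩ := Finset.exists_subset_card_eq (s := (Finset.univ : Finset α)) (n := k + 1) (by rw [Finset.card_univ]; omega)
  refine ⟨Δ, hΔ.2, fun σ => ?_⟩
  intro _ hσ
  refine ⟨Equiv.Perm.ofSubtype σ, ?_, fun z => ofSubtype_apply_coe σ z⟩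
  rw [mem_alternatingGroup, sign_ofSubtype]
  convert hσ using 3

end Base

/-- The theorem. -/
theorem main (n : ℕ) : ∀ {α : Type u} [Fintype α] [DecidableEq α], Fintype.card α = n → ∀ (G : Subgroup (Perm α))
    {k : ℕ}, 4 ≤ k → k < Fintype.card α → MulAction.IsMultiplyPretransitive G α k → Good G k := by
  induction n using Nat.strong_induction_on with
  | _ n ih =>
    intro α _ _ hn G k hk hkn hG
    classical
    have hT := kTrans_of_pretransitive hG
    by_cases hfree : ∀ g ∈ G, g ≠ 1 → (fixSet g).card ≤ k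
    · by_cases hA : ∃ u ∈ G, u * u = 1 ∧ u ≠ 1 ∧ k ≤ (fixSet u).card
      · obtain ⟨u, hu, hu2, hu1, hle⟩ := hA
        exact good_of_involution hk hT hkn hfree hu hu1 hu2 (le_antisymm (hfree u hu hu1) hle)
      push Not at hA
      have hodd : ∀ A : Finset α, A.card = k → Odd (Nat.card (fixer G A)) := by
        intro A hAc
        by_contra heven
        rw [Nat.not_odd_iff_even, even_iff_two_dvd] at heven
        have : Fact (Nat.Prime 2) := ⟨Nat.prime_two⟩
        obtain ⟨v, hv⟩ := exists_prime_orderOf_dvd_card' 2 heven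
        rw [← Subgroup.orderOf_coe] at hv
        have h1 := hA v v.2.1 (by rw [← pow_two, ← hv, pow_orderOf_eq_one]) (fun e => by simp [e] at hv)
        have h2 := Finset.card_le_card (show A ⊆ fixSet (v : Perm α) from fun x hx => mem_fixSet.mpr (v.2.2 x hx))
        omega
      have hle : ∀ g ∈ G, g * g = 1 → g ≠ 1 → (fixSet g).card + 1 ≤ k := fun g hg h2 h1 => hA g hg h2 h1
      have hmod : ∀ g : Perm α, g * g = 1 → (fixSet g).card % 2 = Fintype.card α % 2 := fun g hg =>
        involutive_fixed_mod_two fun x => by rw [← mul_apply, hg, one_apply]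
      rcases eq_or_ne (Fintype.card α % 2) (k % 2) with hpar | hpar
      · refine good_of_even hk hT hkn hfree hodd (fun g hg h2 h1 => ?_) hpar hG
        have := hle g hg h2 h1
        have := hmod g h2
        omega
      · refine good_of_odd hk hT hodd hle ?_
        obtain ⟨A, hAc⟩ := Finset.exists_subset_card_eq (s := (Finset.univ : Finset α)) (n := k) (by rw [Finset.card_univ]; omega)
        obtain ⟨a, ha, b, hb, hab⟩ := Finset.one_lt_card.mp (show 1 < A.card by omega)
        obtain ⟨g₁, hg₁⟩ := hT A hAc.2 (Equiv.swap a b) (injOn_swap A a b)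
        obtain ⟨g, hg, hg2, -, hgA⟩ := exists_commuting_involution (one_mem G) (one_mul 1) (A := A)
          (fun z hz => hz) (τ := Equiv.swap a b) (swap_mem ha hb) (fun z _ => Equiv.swap_apply_self a b z)
          (fun z _ => rfl) (hodd A hAc.2) ⟨g₁, hg₁.1, hg₁.2⟩
        have h1 : g ≠ 1 := fun e => hab (by
          have := hgA a ha
          rwa [e, one_apply, Equiv.swap_apply_left] at this)
        refine ⟨g, hg, hg2, h1, ?_⟩
        have h3 := Finset.card_le_card (show (A.erase a).erase b ⊆ fixSet g from fun z hz => mem_fixSet.mpr (by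
          rw [hgA z (Finset.mem_of_mem_erase (Finset.mem_of_mem_erase hz)), Equiv.swap_apply_of_ne_of_ne
            (Finset.ne_of_mem_erase (Finset.mem_of_mem_erase hz)) (Finset.ne_of_mem_erase hz)]))
        rw [Finset.card_erase_of_mem (Finset.mem_erase.mpr ⟨hab.symm, hb⟩), Finset.card_erase_of_mem ha, hAc.2] at h3
        have := hle g hg hg2 h1
        have := hmod g hg2
        omega
    -- reduction to the fixed points of a `p`-subgroup
    push Not at hfree
    obtain ⟨g₀, hg₀, hg₀1, hg₀f⟩ := hfree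
    obtain ⟨p, hp, hpd⟩ := Nat.exists_prime_and_dvd (show orderOf g₀ ≠ 1 from fun e => hg₀1 (orderOf_eq_one_iff.mp e))
    have := Fact.mk hp
    let fx : Subgroup (Perm α) → Finset α := fun Q => Finset.univ.filter fun x => ∀ q ∈ Q, q x = x
    have hfx : ∀ Q x, x ∈ fx Q ↔ ∀ q ∈ Q, q x = x := fun Q x => by simp [fx]
    let 𝒬 := {Q : Subgroup (Perm α) // Q ≤ G ∧ IsPGroup p Q ∧ k < (fx Q).card}
    let z := g₀ ^ (orderOf g₀ / p)
    have hzo : orderOf z = p := orderOf_pow_orderOf_div (orderOf_pos g₀).ne' hpd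
    have hzQ : (Subgroup.zpowers z) ≤ G ∧ IsPGroup p (Subgroup.zpowers z) ∧ k < (fx (Subgroup.zpowers z)).card := by
      refine ⟨Subgroup.zpowers_le.mpr (pow_mem hg₀ _), IsPGroup.of_card (n := 1) (by rw [Nat.card_zpowers, hzo, pow_one]),
        lt_of_lt_of_le hg₀f (Finset.card_le_card fun x hx => (hfx _ x).mpr ?_)⟩
      intro q hq
      have hle : Subgroup.zpowers z ≤ MulAction.stabilizer (Perm α) x :=
        Subgroup.zpowers_le.mpr (pow_mem (MulAction.mem_stabilizer_iff.mpr (mem_fixSet.mp hx)) _)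
      exact hle hq
    have : Nonempty 𝒬 := ⟨⟨_, hzQ⟩⟩
    obtain ⟨⟨Q, hQG, hQp, hQF⟩, hmax⟩ := Finite.exists_max (fun Q : 𝒬 => Nat.card Q.1)
    set F := fx Q with hF
    have hFlt : F.card < Fintype.card α := by
      refine lt_of_le_of_ne (Finset.card_le_univ F) fun e => ?_
      have hbot : Q = ⊥ := (Subgroup.eq_bot_iff_forall _).mpr fun q hq => Equiv.ext fun x =>
        (hfx Q x).mp (show x ∈ fx Q by rw [← hF, Finset.eq_univ_of_card F e]; exact Finset.mem_univ x) q hq
      have h1 := hmax ⟨_, hzQ⟩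
      simp only [hbot, Subgroup.card_bot, Nat.card_zpowers, hzo] at h1
      exact absurd hp.two_le (by omega)
    let N := G ⊓ Subgroup.normalizer (Q : Set (Perm α))
    have hNF : ∀ g ∈ N, ∀ x, x ∈ F → g x ∈ F := by
      intro g hg x hx
      rw [hfx] at hx ⊢
      intro q hq
      have hq' : g⁻¹ * q * g⁻¹⁻¹ ∈ Q := (Subgroup.mem_normalizer_iff.mp (inv_mem (Subgroup.mem_inf.mp hg).2) q).mp hq
      rw [inv_inv] at hq'
      have := hx _ hq'
      rwa [mul_apply, mul_apply, inv_eq_iff_eq] at this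
    let res : N →* Perm ↥F := MonoidHom.mk' (fun g => (g : Perm α).subtypePerm fun x =>
      ⟨fun hx => by
          have := hNF _ (inv_mem g.2) _ hx
          simpa using this,
        fun hx => hNF _ g.2 x hx⟩) fun g h => Equiv.ext fun x => Subtype.ext rfl
    let G' := res.range
    have hsylow : ∀ B : Finset α, B ⊆ F → ∃ P : Subgroup (Perm α), IsPGroup p P ∧ Q ≤ P ∧ P ≤ fixer G B ∧
        ∀ R : Subgroup (Perm α), IsPGroup p R → R ≤ fixer G B → Nat.card R ≤ Nat.card P := by
      intro B hB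
      have hQB : Q ≤ fixer G B := fun q hq => ⟨hQG hq, fun x hx => (hfx Q x).mp (hB hx) q hq⟩
      obtain ⟨S, hS⟩ := (hQp.of_equiv (Subgroup.subgroupOfEquivOfLe hQB).symm).exists_le_sylow
      refine ⟨(S : Subgroup (fixer G B)).map (fixer G B).subtype, S.isPGroup'.map _, ?_,
        Subgroup.map_subtype_le _, fun R hR hRB => ?_⟩
      · intro q hq
        exact ⟨⟨q, hQB hq⟩, hS hq, rfl⟩
      · rw [Subgroup.card_subtype, ← Nat.card_congr (Subgroup.subgroupOfEquivOfLe hRB).toEquiv]
        obtain ⟨S', hS'⟩ := (hR.of_equiv (Subgroup.subgroupOfEquivOfLe hRB).symm).exists_le_sylow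
        exact (Subgroup.card_le_of_le hS').trans_eq (Nat.card_congr (S'.equiv S).toEquiv)
    have hG' : MulAction.IsMultiplyPretransitive G' ↥F k := by
      by_cases hall : ∀ B : Finset α, B ⊆ F → B.card = k → ∃ P : Subgroup (Perm α), IsPGroup p P ∧ Q < P ∧ P ≤ fixer G B
      · refine Cfsg.Agent.S0743.result G' hp (by omega) (by rw [Fintype.card_coe]; exact hQF) fun B hB => ?_
        obtain ⟨P, hP, hQP, hPB⟩ := hall (B.map (Function.Embedding.subtype _))
          (fun x hx => by
            obtain ⟨y, -, rfl⟩ := Finset.mem_map.mp hx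
            exact y.2) (by rw [Finset.card_map, hB])
        set R := P ⊓ Subgroup.normalizer (Q : Set (Perm α)) with hR
        have hQR : Q < R := Cfsg.Agent.Lib.Transfer.lt_inf_normalizer hP hQP
        have hRN : R ≤ N := fun r hr => Subgroup.mem_inf.mpr ⟨(hPB (Subgroup.mem_inf.mp hr).1).1, (Subgroup.mem_inf.mp hr).2⟩
        have hRp : IsPGroup p R := hP.to_le inf_le_left
        have hRfx : (fx R).card ≤ k := by
          by_contra hgt
          push Not at hgt
          have h1 := hmax ⟨R, fun r hr => (Subgroup.mem_inf.mp (hRN hr)).1, hRp, hgt⟩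
          simp only at h1
          exact hQR.ne (Subgroup.eq_of_le_of_card_ge hQR.le h1)
        have hfxeq : B.map (Function.Embedding.subtype _) = fx R := by
          refine Finset.eq_of_subset_of_card_le (fun x hx => (hfx _ _).mpr fun r hr =>
            (hPB (Subgroup.mem_inf.mp hr).1).2 x hx) ?_
          rw [Finset.card_map, hB]; exact hRfx
        let R' : Subgroup G' := ((R.subgroupOf N).map res).subgroupOf G'
        refine ⟨R', ?_, ?_⟩
        · refine IsPGroup.of_equiv ?_ (Subgroup.subgroupOfEquivOfLe (Subgroup.map_le_range _ _)).symm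
          exact ((hRp.of_equiv (Subgroup.subgroupOfEquivOfLe hRN).symm)).map _
        · ext x
          rw [MulAction.mem_fixedPoints, Finset.mem_coe]
          constructor
          · intro h
            have hx : (x : α) ∈ fx R := (hfx _ _).mpr fun r hr => by
              have hmem : res ⟨r, hRN hr⟩ ∈ G' := ⟨_, rfl⟩
              have := h ⟨⟨_, hmem⟩, ⟨⟨r, hRN hr⟩, hr, rfl⟩⟩
              exact congrArg Subtype.val this
            rw [← hfxeq, Finset.mem_map] at hx
            obtain ⟨y, hy, e⟩ := hx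
            rwa [← Subtype.ext e]
          · rintro hx ⟨σ, hσR⟩
            obtain ⟨r, hr, e⟩ := hσR
            refine Subtype.ext ?_
            show (((σ : Perm ↥F) x : ↥F) : α) = x
            rw [show (σ : Perm ↥F) = res r from e.symm]
            exact (hfx R _).mp (hfxeq ▸ Finset.mem_map_of_mem _ hx) r hr
      · push Not at hall
        obtain ⟨B₀, hB₀F, hB₀, hB₀max⟩ := hall
        have hQsyl : ∀ B : Finset α, B ⊆ F → B.card = k → ∀ R : Subgroup (Perm α), IsPGroup p R → R ≤ fixer G B →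
            Nat.card R ≤ Nat.card Q := by
          intro B hB hBc R hR hRB
          obtain ⟨P, hP, hQP, hPB, hPmax⟩ := hsylow B₀ hB₀F
          have hPQ : P = Q := by
            by_contra h
            exact hB₀max P hP (lt_of_le_of_ne hQP (Ne.symm h)) hPB
          obtain ⟨e⟩ : Nonempty (↥B₀ ≃ ↥B) := ⟨Finset.equivOfCardEq (hB₀.trans hBc.symm)⟩
          obtain ⟨c, hc, hcf⟩ := hT B₀ hB₀ (fun x => if hx : x ∈ B₀ then (e ⟨x, hx⟩ : α) else x) (fun x hx y hy h => by
            simp only [Finset.mem_coe] at hx hy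
            simp only [hx, hy, dif_pos] at h
            exact congrArg Subtype.val (e.injective (Subtype.ext h)))
          have h1 := hPmax (R.map (MulAut.conj c⁻¹).toMonoidHom) (hR.map _) (by
            rintro _ ⟨r, hr, rfl⟩
            obtain ⟨hrG, hrB⟩ := hRB hr
            refine ⟨by simpa using mul_mem (mul_mem (inv_mem hc) hrG) hc, fun x hx => ?_⟩
            show (c⁻¹ * r * c⁻¹⁻¹) x = x
            rw [inv_inv, mul_apply, mul_apply, hcf x hx, dif_pos hx, hrB _ (e ⟨x, hx⟩).2, inv_eq_iff_eq, hcf x hx,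
              dif_pos hx])
          rw [hPQ, Subgroup.card_map_of_injective (MulAut.conj c⁻¹).injective] at h1
          exact h1
        rw [MulAction.isMultiplyPretransitive_iff]
        intro x y
        let xe : Fin k ↪ α := x.trans (Function.Embedding.subtype _)
        let ye : Fin k ↪ α := y.trans (Function.Embedding.subtype _)
        obtain ⟨g, hg⟩ := (MulAction.isMultiplyPretransitive_iff.mp hG) (x := xe) (y := ye)
        have hgi : ∀ i, (g : Perm α) (xe i) = ye i := fun i => by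
          have := DFunLike.congr_fun hg i
          simpa [Function.Embedding.smul_apply, Subgroup.smul_def] using this
        set B : Finset α := Finset.univ.map ye with hB
        have hBF : B ⊆ F := fun a ha => by
          obtain ⟨i, -, rfl⟩ := Finset.mem_map.mp ha
          exact (y i).2
        have hBc : B.card = k := by simp [hB]
        have hQB : Q ≤ fixer G B := fun q hq => ⟨hQG hq, fun a ha => (hfx Q a).mp (hBF ha) q hq⟩
        let Qg := Q.map (MulAut.conj (g : Perm α)).toMonoidHom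
        have hQgB : Qg ≤ fixer G B := by
          rintro _ ⟨q, hq, rfl⟩
          refine ⟨mul_mem (mul_mem g.2 (hQG hq)) (inv_mem g.2), fun a ha => ?_⟩
          obtain ⟨i, -, rfl⟩ := Finset.mem_map.mp ha
          show ((g : Perm α) * q * (g : Perm α)⁻¹) (ye i) = ye i
          rw [mul_apply, mul_apply, (inv_eq_iff_eq).mpr (hgi i).symm, (hfx Q _).mp (show xe i ∈ F from (x i).2) q hq, hgi]
        let Q₁ := Q.subgroupOf (fixer G B)
        let Q₂ := Qg.subgroupOf (fixer G B)
        obtain ⟨S₁, hS₁⟩ := (hQp.of_equiv (Subgroup.subgroupOfEquivOfLe hQB).symm).exists_le_sylow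
        obtain ⟨S₂, hS₂⟩ := ((hQp.map (MulAut.conj (g : Perm α)).toMonoidHom).of_equiv
          (Subgroup.subgroupOfEquivOfLe hQgB).symm).exists_le_sylow
        have e1 : Q₁ = S₁ := Subgroup.eq_of_le_of_card_ge hS₁ (by
          rw [← Subgroup.card_subtype, Nat.card_congr (Subgroup.subgroupOfEquivOfLe hQB).toEquiv]
          exact hQsyl B hBF hBc _ (S₁.isPGroup'.map _) (Subgroup.map_subtype_le _))
        have e2 : Q₂ = S₂ := Subgroup.eq_of_le_of_card_ge hS₂ (by
          rw [← Subgroup.card_subtype, Nat.card_congr (Subgroup.subgroupOfEquivOfLe hQgB).toEquiv]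
          exact (hQsyl B hBF hBc _ (S₂.isPGroup'.map _) (Subgroup.map_subtype_le _)).trans_eq
            (Subgroup.card_map_of_injective (K := Q) (MulAut.conj (g : Perm α)).injective).symm)
        obtain ⟨c, hc⟩ := MulAction.exists_smul_eq (fixer G B) S₂ S₁
        have hcn : (c : Perm α) * g ∈ N := by
          refine Subgroup.mem_inf.mpr ⟨mul_mem c.2.1 g.2, Subgroup.mem_normalizer_fintype (S := (Q : Set (Perm α))) fun q hq => ?_⟩
          have h1 : (⟨(g : Perm α) * q * (g : Perm α)⁻¹, hQgB ⟨q, hq, rfl⟩⟩ : fixer G B) ∈ Q₂ := ⟨q, hq, rfl⟩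
          rw [e2] at h1
          have h2 : c * _ * c⁻¹ ∈ (c • S₂ : Sylow p (fixer G B)) :=
            Subgroup.smul_mem_pointwise_smul _ (MulAut.conj c) (S₂ : Subgroup (fixer G B)) h1
          rw [hc] at h2
          change _ ∈ (S₁ : Subgroup (fixer G B)) at h2
          rw [← e1] at h2
          have h3 : (c : Perm α) * ((g : Perm α) * q * (g : Perm α)⁻¹) * (c : Perm α)⁻¹ ∈ Q := h2
          rw [show (c : Perm α) * g * q * ((c : Perm α) * g)⁻¹ =
            (c : Perm α) * ((g : Perm α) * q * (g : Perm α)⁻¹) * (c : Perm α)⁻¹ by group]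
          exact h3
        refine ⟨⟨res ⟨_, hcn⟩, ⟨_, rfl⟩⟩, Function.Embedding.ext fun i => Subtype.ext ?_⟩
        show ((c : Perm α) * g) (xe i) = ye i
        rw [mul_apply, hgi]
        exact c.2.2 _ (Finset.mem_map_of_mem _ (Finset.mem_univ i))
    obtain ⟨Δ, hΔ, hgood⟩ := ih F.card (hn ▸ hFlt) (α := ↥F) (Fintype.card_coe F) G' hk
      (by rw [Fintype.card_coe]; exact hQF) hG'
    refine ⟨Δ.map (Function.Embedding.subtype _), by rw [Finset.card_map, hΔ], fun σ => ?_⟩
    intro _ hσ
    let e : ↥Δ ≃ ↥(Δ.map (Function.Embedding.subtype (· ∈ F))) := Equiv.ofBijective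
      (fun d => ⟨((d : ↥F) : α), Finset.mem_map_of_mem _ d.2⟩)
      ⟨fun d d' h => Subtype.ext (Subtype.ext (Subtype.mk.inj h)), fun ⟨w, hw⟩ => by
        obtain ⟨d, hd, rfl⟩ := Finset.mem_map.mp hw
        exact ⟨⟨d, hd⟩, rfl⟩⟩
    obtain ⟨σ', hσ'G, hσ'⟩ := hgood (e.symm.permCongr σ) (by rw [Equiv.Perm.sign_permCongr]; convert hσ using 3)
    obtain ⟨r, rfl⟩ := hσ'G
    refine ⟨(r : Perm α), (Subgroup.mem_inf.mp r.2).1, fun w => ?_⟩
    obtain ⟨d, rfl⟩ := e.surjective w
    have h := congrArg Subtype.val (hσ' d)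
    rw [Equiv.permCongr_apply, Equiv.symm_symm] at h
    refine h.trans ?_
    conv_rhs => rw [← e.apply_symm_apply (σ (e d))]
    rfl

end Cfsg.Agent.Lib.Perm.AltOnSubset
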