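import Mathlib

/-!
Wielandt: a 3/2-transitive group is primitive or semiregular on ordered pairs of distinct points.
-/

namespace Cfsg.Agent.Lib.HalfTransitive

open MulAction

/-- If all orbits in an invariant set have `e` points, `e` divides its size. -/
theorem dvd_ncard_of_orbits {K Ω : Type*} [Group K] [MulAction K Ω] [Finite Ω] (T : Set Ω)
    (hT : ∀ k : K, ∀ t ∈ T, k • t ∈ T) {e : ℕ} (he : ∀ t ∈ T, (orbit K t).ncard = e) :
    e ∣ T.ncard := by
  classical
  let S : SubMulAction K Ω := ⟨T, fun k {t} ht => hT k t ht⟩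
  have hsum := Nat.card_congr (selfEquivSigmaOrbits K S)
  have : Fintype (orbitRel.Quotient K S) := Fintype.ofFinite _
  rw [Nat.card_sigma] at hsum
  rw [← Nat.card_coe_set_eq, show Nat.card T = Nat.card S from rfl, hsum]
  refine Finset.dvd_sum fun o _ => ?_
  obtain ⟨t, ht⟩ : ∃ t : S, t = Quotient.out o := ⟨_, rfl⟩
  · rw [← ht, ← he (t : Ω) t.2]
    apply dvd_of_eq
    rw [Nat.card_coe_set_eq, ← Set.ncard_image_of_injective _ Subtype.val_injective]
    congr 1
    ext x
    simp only [mem_orbit_iff, Set.mem_image]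
    refine ⟨fun ⟨k, hk⟩ => ⟨k • t, ⟨k, rfl⟩, hk⟩, ?_⟩
    rintro ⟨y, ⟨k, rfl⟩, rfl⟩
    exact ⟨k, rfl⟩

/-- Orbit–stabilizer for a point stabilizer. -/
theorem ncard_orbit_mul_card {G Ω : Type*} [Group G] [Finite G] [MulAction G Ω]
    (K : Subgroup G) (b : Ω) :
    (orbit K b).ncard * Nat.card ↥(K ⊓ stabilizer G b) = Nat.card K := by
  rw [← index_stabilizer, mul_comm]
  have h : Nat.card ↥(stabilizer K b) = Nat.card ↥(K ⊓ stabilizer G b) := by
    refine Nat.card_congr
      { toFun := fun k => ⟨(k : K), (k : K).2, k.2⟩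
        invFun := fun g => ⟨⟨g, g.2.1⟩, g.2.2⟩
        left_inv := fun k => rfl
        right_inv := fun g => rfl }
  rw [← h, Subgroup.card_mul_index]

variable {G Ω : Type*} [Group G] [Finite G] [MulAction G Ω]

/-- All two-point stabilizers of a 3/2-transitive group have the same order. -/
theorem card_twoPoint_eq
    (hhalf : ∀ a b c : Ω, b ≠ a → c ≠ a →
      Nat.card (orbit (stabilizer G a) b) = Nat.card (orbit (stabilizer G a) c))
    {a b c d : Ω} (hab : a ≠ b) (hcd : c ≠ d) :
    Nat.card ↥(stabilizer G a ⊓ stabilizer G b) = Nat.card ↥(stabilizer G c ⊓ stabilizer G d) := by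
  have h1 : ∀ a b c : Ω, b ≠ a → c ≠ a → Nat.card ↥(stabilizer G a ⊓ stabilizer G b) =
      Nat.card ↥(stabilizer G a ⊓ stabilizer G c) := by
    intro a b c hb hc
    have hb' := ncard_orbit_mul_card (stabilizer G a) b
    rw [← ncard_orbit_mul_card (stabilizer G a) c, ← Nat.card_coe_set_eq, ← Nat.card_coe_set_eq,
      hhalf a b c hb hc] at hb'
    have hpos : 0 < Nat.card (orbit (stabilizer G a) c) := by
      rw [Nat.card_coe_set_eq, ← index_stabilizer]
      exact Nat.pos_of_ne_zero Subgroup.index_ne_zero_of_finite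
    exact Nat.eq_of_mul_eq_mul_left hpos hb'
  by_cases had : a = d
  · subst had
    rw [h1 a b c hab.symm hcd, inf_comm]
  · rw [h1 a b d hab.symm (Ne.symm had), inf_comm, h1 d a c had hcd, inf_comm]

/-- Nested two-point stabilizers are equal. -/
theorem twoPoint_eq_of_le
    (hhalf : ∀ a b c : Ω, b ≠ a → c ≠ a →
      Nat.card (orbit (stabilizer G a) b) = Nat.card (orbit (stabilizer G a) c))
    {a b c d : Ω} (hab : a ≠ b) (hcd : c ≠ d)
    (h : stabilizer G a ⊓ stabilizer G b ≤ stabilizer G c ⊓ stabilizer G d) :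
    stabilizer G a ⊓ stabilizer G b = stabilizer G c ⊓ stabilizer G d :=
  Subgroup.eq_of_le_of_card_ge h (card_twoPoint_eq hhalf hcd hab).le

/-- Wielandt: a 3/2-transitive group is primitive or has trivial two-point stabilizers. -/
theorem isCoatom_stabilizer_or_semiregular [FaithfulSMul G Ω] [Finite Ω] [IsPretransitive G Ω]
    (hhalf : ∀ a b c : Ω, b ≠ a → c ≠ a →
      Nat.card (orbit (stabilizer G a) b) = Nat.card (orbit (stabilizer G a) c))
    (a : Ω) {X : Subgroup G} (haX : stabilizer G a < X) (hX : X < ⊤) :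
    ∀ b c : Ω, b ≠ c → stabilizer G b ⊓ stabilizer G c = ⊥ := by
  classical
  -- the block map
  choose g hg using fun ω : Ω => exists_smul_eq G a ω
  let f : Ω → G ⧸ X := fun ω => (g ω : G ⧸ X)
  have hf : ∀ (h : G) (ω : Ω), f (h • ω) = h • f ω := by
    intro h ω
    show ((g (h • ω) : G) : G ⧸ X) = ((h * g ω : G) : G ⧸ X)
    rw [QuotientGroup.eq]
    apply haX.le
    show ((g (h • ω))⁻¹ * (h * g ω)) • a = a
    rw [mul_smul, mul_smul, hg, inv_smul_eq_iff, hg]
  have hfib : ∀ ω : Ω, {x | f x = f ω}.ncard = {x | f x = f a}.ncard := by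
    intro ω
    rw [← Set.ncard_image_of_injective {x | f x = f a} (MulAction.injective (g ω))]
    congr 1
    ext x
    simp only [Set.mem_ofPred_eq, Set.mem_image]
    constructor
    · intro hx
      refine ⟨(g ω)⁻¹ • x, ?_, smul_inv_smul _ _⟩
      conv_rhs => rw [← inv_smul_smul (g ω) a, hg, hf, ← hx]
      rw [hf]
    · rintro ⟨y, hy, rfl⟩
      rw [hf, hy, ← hf, hg]
  set d := {x | f x = f a}.ncard with hd
  -- the size of an orbit divides `d - 1`
  have hsd : ∀ b : Ω, b ≠ a → (orbit (stabilizer G a) b).ncard ∣ d - 1 := by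
    intro b hb
    have h1 : ({x | f x = f a} \ {a}).ncard = d - 1 :=
      Set.ncard_sdiff_singleton_of_mem rfl
    rw [← h1]
    refine dvd_ncard_of_orbits (K := ↥(stabilizer G a)) _ ?_ ?_
    · rintro ⟨k, hk⟩ t ⟨ht, hta⟩
      refine ⟨?_, fun h => hta ?_⟩
      · show f (k • t) = f a
        rw [hf, ht, ← hf, mem_stabilizer_iff.mp hk]
      · show t = a
        exact smul_left_cancel k (h.trans (mem_stabilizer_iff.mp hk).symm)
    · intro t ht
      rw [← Nat.card_coe_set_eq, ← Nat.card_coe_set_eq, hhalf a t b ht.2 hb]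
  -- two-point stabilizers fix blocks pointwise
  have hblock : ∀ b c : Ω, f b ≠ f a → f c = f b →
      stabilizer G a ⊓ stabilizer G b = stabilizer G a ⊓ stabilizer G c := by
    intro b c hb hc
    set K : Subgroup G := stabilizer G a ⊓ stabilizer G (f b) with hK
    have hbK : ∀ t, f t = f b → stabilizer G a ⊓ stabilizer G t = K ⊓ stabilizer G t := by
      intro t ht
      ext k
      simp only [hK, Subgroup.mem_inf, mem_stabilizer_iff]
      refine ⟨fun ⟨h1, h2⟩ => ⟨⟨h1, ?_⟩, h2⟩, fun ⟨⟨h1, _⟩, h2⟩ => ⟨h1, h2⟩⟩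
      rw [← ht, ← hf, h2]
    have hne : ∀ t, f t = f b → a ≠ t := fun t ht h => hb (by rw [← ht, ← h])
    set e := (orbit K b).ncard
    have he : ∀ t, f t = f b → (orbit K t).ncard = e := by
      intro t ht
      have h2 := ncard_orbit_mul_card K t
      rw [← ncard_orbit_mul_card K b, ← hbK t ht, ← hbK b rfl,
        card_twoPoint_eq hhalf (hne t ht) (hne b rfl)] at h2
      exact Nat.eq_of_mul_eq_mul_right Nat.card_pos h2
    have hed : e ∣ d := by
      rw [← hfib b]
      refine dvd_ncard_of_orbits _ ?_ he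
      rintro ⟨k, hk⟩ t ht
      show f (k • t) = f b
      rw [hf, ht]
      exact hk.2
    have hes : e ∣ (orbit (stabilizer G a) b).ncard := by
      refine ⟨K.relIndex (stabilizer G a), Nat.eq_of_mul_eq_mul_right
        (Nat.card_pos (α := ↥(stabilizer G a ⊓ stabilizer G b))) ?_⟩
      have h1 := ncard_orbit_mul_card K b
      rw [← hbK b rfl] at h1
      rw [ncard_orbit_mul_card, mul_comm e, mul_assoc, h1, mul_comm,
        ← Subgroup.relIndex_bot_left, ← Subgroup.relIndex_bot_left,
        Subgroup.relIndex_mul_relIndex _ _ _ bot_le inf_le_left]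
    have hd0 : 0 < d := (Set.ncard_pos (Set.toFinite _)).mpr ⟨a, rfl⟩
    have he1 : e = 1 := by
      have h2 : e ∣ d - 1 := hes.trans (hsd b (fun h => hb (by rw [h])))
      exact Nat.eq_one_of_dvd_coprimes
        ((Nat.coprime_self_sub_left hd0).mpr (Nat.coprime_one_left d)) h2 hed
    have hfixK : ∀ t, f t = f b → K ≤ stabilizer G t := by
      intro t ht k hk
      have h1 := he t ht
      rw [he1, Set.ncard_eq_one] at h1
      obtain ⟨u, hu⟩ := h1
      have h2 : (k • t) ∈ orbit K t := mem_orbit t (⟨k, hk⟩ : K)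
      have h3 : t ∈ orbit K t := mem_orbit_self t
      rw [hu, Set.mem_singleton_iff] at h2 h3
      exact h2.trans h3.symm
    rw [hbK b rfl, hbK c hc, inf_eq_left.mpr (hfixK b rfl), inf_eq_left.mpr (hfixK c hc)]
  -- a second point in the block of `a`
  obtain ⟨x, hxX, hxa⟩ := SetLike.exists_of_lt haX
  set a' := x • a with ha'
  have hfa' : f a' = f a := by
    rw [ha', hf]
    have h1 : f a = ((1 : G) : G ⧸ X) := by
      rw [QuotientGroup.eq, mul_one]
      exact X.inv_mem (haX.le (hg a))
    rw [h1]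
    show ((x * 1 : G) : G ⧸ X) = _
    rw [QuotientGroup.eq, mul_one, mul_one]
    exact X.inv_mem hxX
  have haa' : a ≠ a' := fun h => hxa h.symm
  have hout : ∀ c, f c ≠ f a → stabilizer G a ⊓ stabilizer G c = stabilizer G a ⊓ stabilizer G a' := by
    intro c hc
    have hca : a ≠ c := fun h => hc (by rw [h])
    refine twoPoint_eq_of_le hhalf hca haa' (le_inf inf_le_left ?_)
    -- transport `hblock` to the base point `c`
    intro k hk
    obtain ⟨hka, hkc⟩ := hk
    have hcb : f ((g c)⁻¹ • a) ≠ f a := by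
      rw [hf, ← inv_smul_smul (g c) (f a), ne_eq, smul_left_cancel_iff, inv_smul_smul, ← hf, hg]
      exact fun h => hc h.symm
    have h := hblock ((g c)⁻¹ • a) ((g c)⁻¹ • a') hcb (by rw [hf, hfa', ← hf])
    have hk' : (g c)⁻¹ * k * g c ∈ stabilizer G a ⊓ stabilizer G ((g c)⁻¹ • a) := by
      constructor
      · show ((g c)⁻¹ * k * g c) • a = a
        rw [mul_smul, mul_smul, hg, mem_stabilizer_iff.mp hkc, inv_smul_eq_iff, hg]
      · show ((g c)⁻¹ * k * g c) • (g c)⁻¹ • a = _
        rw [mul_smul, smul_inv_smul, mul_smul, mem_stabilizer_iff.mp hka]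
    rw [h] at hk'
    have h2 := mem_stabilizer_iff.mp hk'.2
    rw [mul_smul, smul_inv_smul, mul_smul, smul_left_cancel_iff] at h2
    exact h2
  obtain ⟨c, hc⟩ : ∃ c, f c ≠ f a := by
    obtain ⟨y, -, hy⟩ := SetLike.exists_of_lt hX
    refine ⟨y • a, fun h => hy ?_⟩
    rw [hf] at h
    have h' : ((y * g a : G) : G ⧸ X) = ((g a : G) : G ⧸ X) := h
    rw [QuotientGroup.eq] at h'
    have hga : g a ∈ X := haX.le (hg a)
    have h'' := X.inv_mem (X.mul_mem hga (X.mul_mem h' (X.inv_mem hga)))
    simpa [mul_assoc] using h''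
  have hall : ∀ b, b ≠ a → stabilizer G a ⊓ stabilizer G b = stabilizer G a ⊓ stabilizer G a' := by
    intro b hb
    by_cases hfb : f b = f a
    · -- `a'` was an arbitrary point of the block
      have hcb : ∀ t, f t = f a → t ≠ a →
          stabilizer G a ⊓ stabilizer G c ≤ stabilizer G t := by
        intro t ht hta
        have hca : a ≠ c := fun h => hc (by rw [h])
        intro k hk
        obtain ⟨hka, hkc⟩ := hk
        have hcb' : f ((g c)⁻¹ • a) ≠ f a := by
          rw [hf, ← inv_smul_smul (g c) (f a), ne_eq, smul_left_cancel_iff, inv_smul_smul, ← hf, hg]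
          exact fun h => hc h.symm
        have h := hblock ((g c)⁻¹ • a) ((g c)⁻¹ • t) hcb' (by rw [hf, hf, ht])
        have hk' : (g c)⁻¹ * k * g c ∈ stabilizer G a ⊓ stabilizer G ((g c)⁻¹ • a) := by
          constructor
          · show ((g c)⁻¹ * k * g c) • a = a
            rw [mul_smul, mul_smul, hg, mem_stabilizer_iff.mp hkc, inv_smul_eq_iff, hg]
          · show ((g c)⁻¹ * k * g c) • (g c)⁻¹ • a = _
            rw [mul_smul, smul_inv_smul, mul_smul, mem_stabilizer_iff.mp hka]
        rw [h] at hk'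
        have h2 := mem_stabilizer_iff.mp hk'.2
        rw [mul_smul, smul_inv_smul, mul_smul, smul_left_cancel_iff] at h2
        exact h2
      rw [← hout c hc]
      exact (twoPoint_eq_of_le hhalf (fun h => hc (by rw [h])) hb.symm
        (le_inf inf_le_left (hcb b hfb hb))).symm
    · exact hout b hfb
  have hbot : stabilizer G a ⊓ stabilizer G a' = ⊥ := by
    rw [eq_bot_iff]
    intro k hk
    rw [Subgroup.mem_bot]
    refine eq_of_smul_eq_smul fun b : Ω => ?_
    rw [one_smul]
    by_cases hb : b = a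
    · rw [hb]; exact hk.1
    · have h : k ∈ stabilizer G a ⊓ stabilizer G b := (hall b hb) ▸ hk
      exact h.2
  intro b c hbc
  rw [← Subgroup.card_eq_one, card_twoPoint_eq hhalf hbc haa', hbot, Subgroup.card_bot]

/-- Point stabilizers of a 3/2-transitive group that is not semiregular on pairs are maximal. -/
theorem eq_top_of_stabilizer_lt [FaithfulSMul G Ω] [Finite Ω] [IsPretransitive G Ω]
    (hhalf : ∀ a b c : Ω, b ≠ a → c ≠ a →
      Nat.card (orbit (stabilizer G a) b) = Nat.card (orbit (stabilizer G a) c))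
    (hnotF : ∃ a b : Ω, a ≠ b ∧ stabilizer G a ⊓ stabilizer G b ≠ ⊥)
    (a : Ω) {X : Subgroup G} (haX : stabilizer G a < X) : X = ⊤ := by
  by_contra h
  obtain ⟨b, c, hbc, hne⟩ := hnotF
  exact hne (isCoatom_stabilizer_or_semiregular hhalf a haX (lt_top_iff_ne_top.mpr h) b c hbc)

end Cfsg.Agent.Lib.HalfTransitive
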