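import Mathlib
import Cfsg.Agent.Lib.Perm.AltOnSubset

/-!
# Colourings of tuples by a homogeneous group

For an `m`-homogeneous group with reference tuple `r`, a set `D` of permutations of the positions,
invariant under the permutations induced on `r`, gives a colour class of `m`-tuples. Double counting
relates the number of one-point and two-point extensions to the size of `D`.
-/

set_option autoImplicit false
set_option linter.unusedSectionVars false

namespace Cfsg.Agent.Lib.Perm.HomogeneousColour

open Equiv Equiv.Perm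
open Cfsg.Agent.Lib.Perm.AltOnSubset

universe u

variable {α : Type u} [Fintype α] [DecidableEq α] {G : Subgroup (Perm α)} {m : ℕ}

theorem inv_app (g : Perm α) (x : α) : g⁻¹ (g x) = x := g.symm_apply_apply x

/-- The permutations of the positions induced by the group on a tuple. -/
def induced (G : Subgroup (Perm α)) (r : Fin m → α) : Subgroup (Perm (Fin m)) where
  carrier := {π | ∃ g ∈ G, ∀ i, g (r i) = r (π i)}
  one_mem' := ⟨1, one_mem G, fun _ => rfl⟩
  mul_mem' := by
    rintro π ρ ⟨g, hg, h1⟩ ⟨h, hh, h2⟩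
    exact ⟨g * h, mul_mem hg hh, fun i => by rw [mul_apply, h2, h1, mul_apply]⟩
  inv_mem' := by
    rintro π ⟨g, hg, h1⟩
    refine ⟨g⁻¹, inv_mem hg, fun i => ?_⟩
    rw [inv_eq_iff_eq, h1]
    exact congrArg r (π.apply_symm_apply i).symm

theorem mem_induced {r : Fin m → α} {π : Perm (Fin m)} :
    π ∈ induced G r ↔ ∃ g ∈ G, ∀ i, g (r i) = r (π i) := Iff.rfl

/-- The colour class of tuples attached to a set of position permutations. -/
def Col (G : Subgroup (Perm α)) (r : Fin m → α) (D : Perm (Fin m) → Prop) (x : Fin m → α) : Prop :=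
  ∃ g ∈ G, ∃ σ, D σ ∧ ∀ i, g (r (σ i)) = x i

/-- A property of tuples invariant under the group. -/
def Invariant (G : Subgroup (Perm α)) (P : (Fin m → α) → Prop) : Prop :=
  ∀ g ∈ G, ∀ x, P x → P (fun i => g (x i))

theorem col_invariant (r : Fin m → α) (D : Perm (Fin m) → Prop) : Invariant G (Col G r D) := by
  rintro g hg x ⟨h, hh, σ, hσ, hx⟩
  exact ⟨g * h, mul_mem hg hh, σ, hσ, fun i => by rw [mul_apply, hx]⟩

theorem col_injective {r : Fin m → α} (hr : Function.Injective r) {D : Perm (Fin m) → Prop}
    {x : Fin m → α} (hx : Col G r D x) : Function.Injective x := by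
  obtain ⟨g, -, σ, -, hσ⟩ := hx
  intro i j h
  rw [← hσ, ← hσ] at h
  exact σ.injective (hr (g.injective h))

theorem Invariant.iff {P : (Fin m → α) → Prop} (hP : Invariant G P) {g : Perm α} (hg : g ∈ G)
    (x : Fin m → α) : P (fun i => g (x i)) ↔ P x := by
  refine ⟨fun h => ?_, hP g hg x⟩
  have h1 := hP g⁻¹ (inv_mem hg) _ h
  simpa using h1

theorem exists_type (hh : MulAction.IsPretransitive G (Set.powersetCard α m)) {r x : Fin m → α}
    (hr : Function.Injective r) (hx : Function.Injective x) :
    ∃ g ∈ G, ∃ τ : Perm (Fin m), ∀ i, g (r (τ i)) = x i := by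
  classical
  have hrc : (Finset.univ.image r).card = m := by
    rw [Finset.card_image_of_injective _ hr, Finset.card_univ, Fintype.card_fin]
  have hxc : (Finset.univ.image x).card = m := by
    rw [Finset.card_image_of_injective _ hx, Finset.card_univ, Fintype.card_fin]
  obtain ⟨⟨g, hg⟩, hgs⟩ := hh.exists_smul_eq ⟨_, hrc⟩ ⟨_, hxc⟩
  have hgs' : (Finset.univ.image r).image g = Finset.univ.image x := congrArg Subtype.val hgs
  have hmem : ∀ i, ∃ k, g (r k) = x i := fun i => by
    have h : x i ∈ (Finset.univ.image r).image g :=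
      hgs' ▸ Finset.mem_image_of_mem x (Finset.mem_univ i)
    simpa using h
  choose f hf using hmem
  have hfi : Function.Injective f := fun i k h => hx (by rw [← hf, ← hf, h])
  exact ⟨g, hg, Equiv.ofBijective f ((Fintype.bijective_iff_injective_and_card f).mpr ⟨hfi, rfl⟩),
    fun i => by simpa using hf i⟩

theorem col_comp_iff {r x : Fin m → α} (hr : Function.Injective r) {D : Perm (Fin m) → Prop}
    (hD : ∀ l ∈ induced G r, ∀ σ, D σ → D (l * σ)) {g : Perm α} (hg : g ∈ G) {τ : Perm (Fin m)}
    (hτ : ∀ i, g (r (τ i)) = x i) (π : Perm (Fin m)) : Col G r D (x ∘ π) ↔ D (τ * π) := by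
  constructor
  · rintro ⟨h, hh, σ, hσ, hx⟩
    have hl : τ * π * σ⁻¹ ∈ induced G r := by
      refine ⟨g⁻¹ * h, mul_mem (inv_mem hg) hh, fun i => ?_⟩
      have h1 := hx (σ⁻¹ i)
      rw [show σ (σ⁻¹ i) = i from σ.apply_symm_apply i] at h1
      rw [mul_apply, h1, Function.comp_apply, ← hτ, inv_app]
      rfl
    simpa using hD _ hl σ hσ
  · intro h
    exact ⟨g, hg, _, h, fun i => hτ (π i)⟩

theorem col_ref_iff {r : Fin m → α} (hr : Function.Injective r) {D : Perm (Fin m) → Prop}
    (hD : ∀ l ∈ induced G r, ∀ σ, D σ → D (l * σ)) (π : Perm (Fin m)) :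
    Col G r D (r ∘ π) ↔ D π := by
  simpa using col_comp_iff hr hD (one_mem G) (τ := 1) (fun _ => rfl) π

/-- Double counting over the `m`-sets. -/
theorem card_count (hh : MulAction.IsPretransitive G (Set.powersetCard α m)) {r : Fin m → α}
    (hr : Function.Injective r) {Φ : (Fin m → α) → Prop} (hΦ : Invariant G Φ)
    (hinj : ∀ x, Φ x → Function.Injective x) :
    Nat.card {x // Φ x} * m.factorial =
      Nat.card {σ : Perm (Fin m) // Φ (r ∘ σ)} * (Fintype.card α).descFactorial m := by
  classical
  have hrc : (Finset.univ.image r).card = m := by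
    rw [Finset.card_image_of_injective _ hr, Finset.card_univ, Fintype.card_fin]
  have hgS : ∀ S : {S : Finset α // S.card = m},
      ∃ g ∈ G, (Finset.univ.image r).image g = S.1 := by
    intro S
    obtain ⟨g, hg⟩ := hh.exists_smul_eq ⟨_, hrc⟩ ⟨S.1, S.2⟩
    exact ⟨g, g.2, congrArg Subtype.val hg⟩
  choose g hg hgi using hgS
  let f : {S : Finset α // S.card = m} × {σ : Perm (Fin m) // Φ (r ∘ σ)} → {x // Φ x} := fun p =>
    ⟨fun i => g p.1 (r (p.2.1 i)), hΦ _ (hg p.1) _ p.2.2⟩
  have himg : ∀ p, Finset.univ.image (f p).1 = p.1.1 := by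
    intro p
    rw [← hgi p.1]
    ext z
    simp only [Finset.mem_image, Finset.mem_univ, true_and, f]
    constructor
    · rintro ⟨i, rfl⟩; exact ⟨_, ⟨_, rfl⟩, rfl⟩
    · rintro ⟨_, ⟨i, rfl⟩, rfl⟩; exact ⟨p.2.1.symm i, by simp⟩
  have hf : Function.Bijective f := by
    constructor
    · rintro ⟨S, σ⟩ ⟨S', σ'⟩ h
      have h1 : S = S' := Subtype.ext (by rw [← himg ⟨S, σ⟩, h, himg])
      subst h1
      refine Prod.ext rfl (Subtype.ext (Equiv.ext fun i => ?_))
      exact hr ((g S).injective (congrFun (congrArg Subtype.val h) i))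
    · rintro ⟨x, hx⟩
      let S : {S : Finset α // S.card = m} := ⟨Finset.univ.image x, by
        rw [Finset.card_image_of_injective _ (hinj x hx), Finset.card_univ, Fintype.card_fin]⟩
      have hmem : ∀ i, ∃ k, g S (r k) = x i := fun i => by
        have h : x i ∈ (Finset.univ.image r).image (g S) :=
          (hgi S).symm ▸ Finset.mem_image_of_mem x (Finset.mem_univ i)
        simpa using h
      choose k hk using hmem
      have hki : Function.Injective k := fun i j h => hinj x hx (by rw [← hk, ← hk, h])
      let σ : Perm (Fin m) :=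
        Equiv.ofBijective k ((Fintype.bijective_iff_injective_and_card k).mpr ⟨hki, rfl⟩)
      have hσ : (fun i => g S (r (σ i))) = x := funext fun i => by simpa [σ] using hk i
      refine ⟨⟨S, σ, (hΦ.iff (hg S) _).mp ?_⟩, Subtype.ext hσ⟩
      show Φ (fun i => g S ((r ∘ σ) i))
      simpa only [Function.comp_apply, hσ] using hx
  rw [← Nat.card_eq_of_bijective f hf, Nat.card_prod, Nat.descFactorial_eq_factorial_mul_choose]
  rw [show Nat.card {S : Finset α // S.card = m} = (Fintype.card α).choose m by
    rw [Nat.card_eq_fintype_card, Fintype.card_finset_len]]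
  ring

theorem card_injective (m : ℕ) :
    Nat.card {x : Fin m → α // Function.Injective x} = (Fintype.card α).descFactorial m := by
  classical
  rw [Nat.card_congr (Equiv.subtypeInjectiveEquivEmbedding (Fin m) α), Nat.card_eq_fintype_card,
    Fintype.card_embedding_eq, Fintype.card_fin]

theorem exists_map (ht : MulAction.IsMultiplyPretransitive G α m) {x y : Fin m → α}
    (hx : Function.Injective x) (hy : Function.Injective y) : ∃ g ∈ G, ∀ i, g (x i) = y i := by
  obtain ⟨g, hg⟩ := (MulAction.isMultiplyPretransitive_iff.mp ht) (x := ⟨x, hx⟩) (y := ⟨y, hy⟩)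
  exact ⟨g, g.2, fun i => DFunLike.congr_fun hg i⟩

theorem pretransitive_of_induced (hh : MulAction.IsPretransitive G (Set.powersetCard α m))
    {r : Fin m → α} (hr : Function.Injective r) (hall : ∀ π, π ∈ induced G r) :
    MulAction.IsMultiplyPretransitive G α m := by
  rw [MulAction.isMultiplyPretransitive_iff]
  intro x y
  obtain ⟨g, hg, τ, hτ⟩ := exists_type hh hr x.injective
  obtain ⟨g', hg', τ', hτ'⟩ := exists_type hh hr y.injective
  obtain ⟨f, hf, hfπ⟩ := mem_induced.mp (hall (τ' * τ⁻¹))
  refine ⟨⟨g' * f * g⁻¹, mul_mem (mul_mem hg' hf) (inv_mem hg)⟩, Function.Embedding.ext fun i => ?_⟩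
  show (g' * f * g⁻¹) (x i) = y i
  rw [mul_apply, mul_apply, ← hτ i, inv_app, hfπ, mul_apply,
    show τ⁻¹ (τ i) = i from τ.symm_apply_apply i, hτ']

/-- The extensions of a tuple in a colour class. -/
noncomputable def ext1 (P : (Fin (m + 1) → α) → Prop) (x : Fin m → α) : Finset α := by
  classical exact Finset.univ.filter fun d => P (Fin.snoc x d)

theorem mem_ext1 {P : (Fin (m + 1) → α) → Prop} {x : Fin m → α} {d : α} :
    d ∈ ext1 P x ↔ P (Fin.snoc x d) := by
  classical
  simp [ext1]

theorem snoc_comp (g : Perm α) (x : Fin m → α) (d : α) :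
    (fun i => g ((Fin.snoc x d : Fin (m + 1) → α) i)) = Fin.snoc (fun i => g (x i)) (g d) := by
  funext i
  induction i using Fin.lastCases with
  | last => simp
  | cast i => simp

theorem ext1_image {P : (Fin (m + 1) → α) → Prop} (hP : Invariant G P) {g : Perm α} (hg : g ∈ G)
    (x : Fin m → α) : ext1 P (fun i => g (x i)) = (ext1 P x).image g := by
  classical
  ext d
  rw [Finset.mem_image, mem_ext1]
  constructor
  · intro h
    refine ⟨g⁻¹ d, mem_ext1.mpr ((hP.iff hg _).mp ?_), g.apply_symm_apply d⟩
    rw [snoc_comp, show g (g⁻¹ d) = d from g.apply_symm_apply d]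
    exact h
  · rintro ⟨d, hd, rfl⟩
    rw [← snoc_comp]
    exact hP g hg _ (mem_ext1.mp hd)

theorem card_ext1_eq (ht : MulAction.IsMultiplyPretransitive G α m) {P : (Fin (m + 1) → α) → Prop}
    (hP : Invariant G P) {x y : Fin m → α} (hx : Function.Injective x) (hy : Function.Injective y) :
    (ext1 P y).card = (ext1 P x).card := by
  obtain ⟨g, hg, hgxy⟩ := exists_map ht hx hy
  rw [show y = fun i => g (x i) from funext fun i => (hgxy i).symm, ext1_image hP hg,
    Finset.card_image_of_injective _ g.injective]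

theorem card_extensions {P : (Fin (m + 1) → α) → Prop} (hinj : ∀ x, P x → Function.Injective x) {e : ℕ}
    (he : ∀ x : Fin m → α, Function.Injective x → (ext1 P x).card = e) :
    Nat.card {x // P x} = (Fintype.card α).descFactorial m * e := by
  classical
  let f : {x : Fin (m + 1) → α // P x} → (x : {x : Fin m → α // Function.Injective x}) × ↥(ext1 P x.1) :=
    fun p => ⟨⟨Fin.init p.1, (hinj p.1 p.2).comp (Fin.castSucc_injective m)⟩,
      ⟨p.1 (Fin.last m), mem_ext1.mpr (by rw [Fin.snoc_init_self]; exact p.2)⟩⟩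
  have hf : Function.Bijective f := by
    constructor
    · intro p q h
      have h1 : Fin.init p.1 = Fin.init q.1 := congrArg (fun s => s.1.1) h
      have h2 : p.1 (Fin.last m) = q.1 (Fin.last m) := congrArg (fun s => s.2.1) h
      refine Subtype.ext ?_
      rw [← Fin.snoc_init_self p.1, h1, h2, Fin.snoc_init_self]
    · rintro ⟨⟨x, hx⟩, ⟨d, hd⟩⟩
      refine ⟨⟨Fin.snoc x d, mem_ext1.mp hd⟩, ?_⟩
      exact Sigma.subtype_ext (Subtype.ext (by simp [f])) (by simp [f])
  rw [Nat.card_eq_of_bijective f hf, Nat.card_sigma]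
  simp only [Nat.card_eq_finsetCard]
  rw [Finset.sum_congr rfl (fun x _ => he x.1 x.2), Finset.sum_const, Finset.card_univ, smul_eq_mul,
    ← Nat.card_eq_fintype_card, card_injective]

/-- Two extensions of one tuple in a colour class. -/
def Double (P : (Fin (m + 1) → α) → Prop) (x : Fin (m + 2) → α) : Prop :=
  P (x ∘ Fin.castSucc) ∧ P (x ∘ (Fin.last m).castSucc.succAbove) ∧
    x (Fin.last m).castSucc ≠ x (Fin.last (m + 1))

theorem double_invariant {P : (Fin (m + 1) → α) → Prop} (hP : Invariant G P) :
    Invariant G (Double P) := by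
  rintro g hg x ⟨h1, h2, h3⟩
  exact ⟨hP g hg _ h1, hP g hg _ h2, fun e => h3 (g.injective e)⟩

theorem comp_snoc_snoc (x : Fin m → α) (d d' : α) :
    ((Fin.snoc (Fin.snoc x d : Fin (m + 1) → α) d' : Fin (m + 2) → α) ∘ Fin.castSucc = Fin.snoc x d) ∧
      ((Fin.snoc (Fin.snoc x d : Fin (m + 1) → α) d' : Fin (m + 2) → α) ∘
        (Fin.last m).castSucc.succAbove = Fin.snoc x d') := by
  constructor
  · funext i; simp
  · funext i
    induction i using Fin.lastCases with
    | last =>
      simp only [Function.comp_apply, Fin.snoc_last]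
      rw [Fin.succAbove_of_le_castSucc _ _ le_rfl, Fin.succ_last, Fin.snoc_last]
    | cast i =>
      simp only [Function.comp_apply, Fin.snoc_castSucc]
      rw [Fin.succAbove_of_castSucc_lt _ _ (by simp only [Fin.castSucc_lt_castSucc_iff]; exact Fin.castSucc_lt_last i)]
      simp

theorem card_double {P : (Fin (m + 1) → α) → Prop} (hinj : ∀ x, P x → Function.Injective x) {e : ℕ}
    (he : ∀ x : Fin m → α, Function.Injective x → (ext1 P x).card = e) :
    Nat.card {x // Double P x} = (Fintype.card α).descFactorial m * (e * (e - 1)) := by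
  classical
  have hcol := card_extensions hinj he
  let f : {x : Fin (m + 2) → α // Double P x} →
      (x : {x : Fin (m + 1) → α // P x}) × ↥((ext1 P (Fin.init x.1)).erase (x.1 (Fin.last m))) :=
    fun p => ⟨⟨p.1 ∘ Fin.castSucc, p.2.1⟩, ⟨p.1 (Fin.last (m + 1)), by
      refine Finset.mem_erase.mpr ⟨fun e => p.2.2.2 e.symm, mem_ext1.mpr ?_⟩
      have h := p.2.2.1
      conv at h => rw [← Fin.snoc_init_self p.1, ← Fin.snoc_init_self (Fin.init p.1),
        (comp_snoc_snoc _ _ _).2]
      exact h⟩⟩
  have hf : Function.Bijective f := by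
    constructor
    · intro p q h
      have h1 : p.1 ∘ Fin.castSucc = q.1 ∘ Fin.castSucc := congrArg (fun s => s.1.1) h
      have h2 : p.1 (Fin.last (m + 1)) = q.1 (Fin.last (m + 1)) := congrArg (fun s => s.2.1) h
      refine Subtype.ext (funext fun i => ?_)
      induction i using Fin.lastCases with
      | last => exact h2
      | cast i => exact congrFun h1 i
    · rintro ⟨⟨y, hy⟩, ⟨d', hd'⟩⟩
      obtain ⟨hne, hd''⟩ := Finset.mem_erase.mp hd'
      have e1 : (Fin.snoc y d' : Fin (m + 2) → α) ∘ Fin.castSucc = y := funext fun i => by simp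
      refine ⟨⟨Fin.snoc y d', ?_, ?_, ?_⟩, ?_⟩
      · rw [e1]; exact hy
      · rw [← Fin.snoc_init_self y, (comp_snoc_snoc _ _ _).2]
        exact mem_ext1.mp hd''
      · simpa using hne.symm
      · exact Sigma.subtype_ext (Subtype.ext e1) (by simp [f])
  rw [Nat.card_eq_of_bijective f hf, Nat.card_sigma]
  simp only [Nat.card_eq_finsetCard]
  rw [Finset.sum_congr rfl (fun x _ => show _ = e - 1 by
    rw [Finset.card_erase_of_mem (mem_ext1.mpr (by rw [Fin.snoc_init_self]; exact x.2)),
      he (Fin.init x.1) ((hinj x.1 x.2).comp (Fin.castSucc_injective m))]), Finset.sum_const,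
    Finset.card_univ, smul_eq_mul, ← Nat.card_eq_fintype_card, hcol]
  ring

theorem double_injective {P : (Fin (m + 1) → α) → Prop} (hinj : ∀ x, P x → Function.Injective x)
    {x : Fin (m + 2) → α} (hx : Double P x) : Function.Injective x := by
  obtain ⟨h1, h2, h3⟩ := hx
  have i1 := hinj _ h1
  have i2 := hinj _ h2
  have key : ∀ i : Fin (m + 1), x i.castSucc ≠ x (Fin.last (m + 1)) := by
    intro i
    induction i using Fin.lastCases with
    | last => exact h3
    | cast i =>
      intro h
      have h' := @i2 i.castSucc (Fin.last m) (by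
        simp only [Function.comp_apply]
        rw [Fin.succAbove_of_le_castSucc _ _ le_rfl, Fin.succAbove_of_castSucc_lt _ _
          (by simp only [Fin.castSucc_lt_castSucc_iff]; exact Fin.castSucc_lt_last i), Fin.succ_last]
        exact h)
      exact absurd h' (Fin.castSucc_lt_last i).ne
  intro i k h
  induction i using Fin.lastCases with
  | last =>
    induction k using Fin.lastCases with
    | last => rfl
    | cast k => exact absurd h.symm (key k)
  | cast i =>
    induction k using Fin.lastCases with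
    | last => exact absurd h (key i)
    | cast k => exact congrArg Fin.castSucc (i1 h)

/-- The two counting identities for a colour class. -/
theorem colour_equations (ht : MulAction.IsMultiplyPretransitive G α m)
    (hh1 : MulAction.IsPretransitive G (Set.powersetCard α (m + 1)))
    (hh2 : MulAction.IsPretransitive G (Set.powersetCard α (m + 2)))
    {r : Fin (m + 1) → α} (hr : Function.Injective r) {D : Perm (Fin (m + 1)) → Prop}
    (hD : ∀ l ∈ induced G r, ∀ σ, D σ → D (l * σ)) {s : Fin (m + 2) → α} (hs : Function.Injective s) :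
    ∃ e, (∀ x : Fin m → α, Function.Injective x → (ext1 (Col G r D) x).card = e) ∧
      e * (m + 1).factorial = Nat.card {σ // D σ} * (Fintype.card α - m) ∧
      e * (e - 1) * (m + 2).factorial =
        Nat.card {σ : Perm (Fin (m + 2)) // Double (Col G r D) (s ∘ σ)} *
          ((Fintype.card α - (m + 1)) * (Fintype.card α - m)) := by
  classical
  have hP : Invariant G (Col G r D) := col_invariant r D
  have hinj : ∀ x, Col G r D x → Function.Injective x := fun x => col_injective hr
  let x₀ : Fin m → α := r ∘ Fin.castSucc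
  have hx₀ : Function.Injective x₀ := hr.comp (Fin.castSucc_injective m)
  set e := (ext1 (Col G r D) x₀).card with he
  have hall : ∀ x : Fin m → α, Function.Injective x → (ext1 (Col G r D) x).card = e :=
    fun x hx => card_ext1_eq ht hP hx₀ hx
  refine ⟨e, hall, ?_, ?_⟩
  · have h1 := card_count hh1 hr hP hinj
    rw [card_extensions hinj hall, Nat.descFactorial_succ] at h1
    have h2 : Nat.card {σ : Perm (Fin (m + 1)) // Col G r D (r ∘ σ)} = Nat.card {σ // D σ} :=
      Nat.card_congr (Equiv.subtypeEquivRight fun σ => col_ref_iff hr hD σ)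
    rw [h2] at h1
    have hm : m ≤ Fintype.card α := by
      simpa using Fintype.card_le_of_injective x₀ hx₀
    apply Nat.eq_of_mul_eq_mul_left (Nat.descFactorial_pos.mpr hm)
    linarith
  · have h1 := card_count hh2 hs (double_invariant hP) (fun x => double_injective hinj)
    rw [card_double hinj hall, Nat.descFactorial_succ, Nat.descFactorial_succ] at h1
    have hm : m ≤ Fintype.card α := by
      simpa using Fintype.card_le_of_injective x₀ hx₀
    apply Nat.eq_of_mul_eq_mul_left (Nat.descFactorial_pos.mpr hm)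
    linarith

theorem card_orbit_mul (r : Fin m → α) :
    Nat.card G = Nat.card {x : Fin m → α // ∃ g ∈ G, ∀ i, g (r i) = x i} *
      Nat.card (fixer G (Finset.univ.image r)) := by
  classical
  let f : G → {x : Fin m → α // ∃ g ∈ G, ∀ i, g (r i) = x i} := fun g =>
    ⟨fun i => (g : Perm α) (r i), g, g.2, fun _ => rfl⟩
  have hfib : ∀ x, Nat.card {g // f g = x} = Nat.card (fixer G (Finset.univ.image r)) := by
    rintro ⟨x, g₀, hg₀, hx⟩
    refine Nat.card_congr
      { toFun := fun g => ⟨g₀⁻¹ * g.1, mul_mem (inv_mem hg₀) g.1.2, ?_⟩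
        invFun := fun k => ⟨⟨g₀ * k, mul_mem hg₀ k.2.1⟩, ?_⟩
        left_inv := fun g => Subtype.ext (Subtype.ext (mul_inv_cancel_left _ _))
        right_inv := fun k => Subtype.ext (inv_mul_cancel_left _ _) }
    · intro t ht
      obtain ⟨i, -, rfl⟩ := Finset.mem_image.mp ht
      have h : (g.1 : Perm α) (r i) = x i := congrFun (congrArg Subtype.val g.2) i
      rw [mul_apply, h, ← hx, inv_app]
    · refine Subtype.ext (funext fun i => ?_)
      show (g₀ * (k : Perm α)) (r i) = x i
      rw [mul_apply, k.2.2 _ (Finset.mem_image_of_mem r (Finset.mem_univ i)), hx]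
  rw [← Nat.card_congr (Equiv.sigmaFiberEquiv f), Nat.card_sigma, Finset.sum_congr rfl (fun x _ => hfib x),
    Finset.sum_const, Finset.card_univ, smul_eq_mul]
  simp only [Nat.card_eq_fintype_card]

/-- The order of a homogeneous group. -/
theorem card_group_homog (hh : MulAction.IsPretransitive G (Set.powersetCard α m)) {r : Fin m → α}
    (hr : Function.Injective r) :
    Nat.card G * m.factorial = Nat.card (induced G r) * (Fintype.card α).descFactorial m *
      Nat.card (fixer G (Finset.univ.image r)) := by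
  have h1 := card_count hh hr (Φ := fun x => ∃ g ∈ G, ∀ i, g (r i) = x i)
    (by
      rintro g hg x ⟨h, hh', hx⟩
      exact ⟨g * h, mul_mem hg hh', fun i => by rw [mul_apply, hx]⟩)
    (by
      rintro x ⟨g, -, hx⟩ i k h
      rw [← hx, ← hx] at h
      exact hr (g.injective h))
  have h2 : Nat.card {σ : Perm (Fin m) // ∃ g ∈ G, ∀ i, g (r i) = (r ∘ σ) i} = Nat.card (induced G r) :=
    rfl
  rw [h2] at h1
  rw [card_orbit_mul (G := G) r, mul_right_comm, h1]

/-- The order of a multiply transitive group. -/
theorem card_group_transitive (ht : MulAction.IsMultiplyPretransitive G α m) {r : Fin m → α}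
    (hr : Function.Injective r) :
    Nat.card G = (Fintype.card α).descFactorial m * Nat.card (fixer G (Finset.univ.image r)) := by
  rw [card_orbit_mul (G := G) r]
  congr 1
  rw [← card_injective]
  refine Nat.card_congr (Equiv.subtypeEquivRight fun x => ⟨?_, fun hx => exists_map ht hr hx⟩)
  rintro ⟨g, -, hx⟩ i k h
  rw [← hx, ← hx] at h
  exact hr (g.injective h)

/-- Relabelling conjugates the induced group. -/
theorem mem_induced_comp {r x : Fin m → α} (hr : Function.Injective r) {g : Perm α} (hg : g ∈ G)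
    {τ : Perm (Fin m)} (hτ : ∀ i, g (r (τ i)) = x i) (π : Perm (Fin m)) :
    π ∈ induced G x ↔ τ * π * τ⁻¹ ∈ induced G r := by
  constructor
  · rintro ⟨h, hh, hx⟩
    refine ⟨g⁻¹ * h * g, mul_mem (mul_mem (inv_mem hg) hh) hg, fun i => ?_⟩
    have h1 : g (r i) = x (τ⁻¹ i) := by
      rw [← hτ, show τ (τ⁻¹ i) = i from τ.apply_symm_apply i]
    rw [mul_apply, mul_apply, h1, hx, ← hτ, inv_app]
    rfl
  · rintro ⟨h, hh, hx⟩
    refine ⟨g * h * g⁻¹, mul_mem (mul_mem hg hh) (inv_mem hg), fun i => ?_⟩
    rw [mul_apply, mul_apply, ← hτ i, inv_app, hx, mul_apply, mul_apply,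
      show τ⁻¹ (τ i) = i from τ.symm_apply_apply i, hτ]

theorem card_induced_eq (hh : MulAction.IsPretransitive G (Set.powersetCard α m)) {r x : Fin m → α}
    (hr : Function.Injective r) (hx : Function.Injective x) :
    Nat.card (induced G x) = Nat.card (induced G r) := by
  obtain ⟨g, hg, τ, hτ⟩ := exists_type hh hr hx
  exact Nat.card_congr
    { toFun := fun π => ⟨τ * π.1 * τ⁻¹, (mem_induced_comp hr hg hτ _).mp π.2⟩
      invFun := fun π => ⟨τ⁻¹ * π.1 * τ, (mem_induced_comp hr hg hτ _).mpr (by
        rw [show τ * (τ⁻¹ * π.1 * τ) * τ⁻¹ = π.1 by group]; exact π.2)⟩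
      left_inv := fun π => Subtype.ext (by
        show τ⁻¹ * (τ * π.1 * τ⁻¹) * τ = π.1
        group)
      right_inv := fun π => Subtype.ext (by
        show τ * (τ⁻¹ * π.1 * τ) * τ⁻¹ = π.1
        group) }

theorem card_fixer_eq (hh : MulAction.IsPretransitive G (Set.powersetCard α m)) {A B : Finset α}
    (hA : A.card = m) (hB : B.card = m) : Nat.card (fixer G A) = Nat.card (fixer G B) := by
  classical
  obtain ⟨⟨g, hg⟩, hgs⟩ := hh.exists_smul_eq ⟨A, hA⟩ ⟨B, hB⟩
  have hgs' : A.image g = B := congrArg Subtype.val hgs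
  exact Nat.card_congr
    { toFun := fun k => ⟨g * k.1 * g⁻¹, mul_mem (mul_mem hg k.2.1) (inv_mem hg), fun t ht => by
        rw [← hgs', Finset.mem_image] at ht
        obtain ⟨s, hs, rfl⟩ := ht
        rw [mul_apply, mul_apply, inv_app, k.2.2 s hs]⟩
      invFun := fun k => ⟨g⁻¹ * k.1 * g, mul_mem (mul_mem (inv_mem hg) k.2.1) hg, fun t ht => by
        rw [mul_apply, mul_apply, k.2.2 (g t) (hgs' ▸ Finset.mem_image_of_mem g ht), inv_app]⟩
      left_inv := fun k => Subtype.ext (by
        show g⁻¹ * (g * k.1 * g⁻¹) * g = k.1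
        group)
      right_inv := fun k => Subtype.ext (by
        show g * (g⁻¹ * k.1 * g) * g⁻¹ = k.1
        group) }

end Cfsg.Agent.Lib.Perm.HomogeneousColour
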