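import Mathlib

/-!
# Finite configurations of four and five points

The finite checks used for homogeneous groups of small transitivity degree.
-/

set_option autoImplicit false
set_option synthInstance.maxSize 4000

namespace Cfsg.Agent.Lib.Perm.HomogeneousConfig

/-- Parity of a triple of distinct numbers. -/
def even3 (a b c : ℕ) : Bool :=
  ((if b < a then 1 else 0) + (if c < a then 1 else 0) + (if c < b then 1 else 0)) % 2 == 0

/-- Parity of a quadruple of distinct numbers. -/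
def even4 (a b c d : ℕ) : Bool :=
  ((if b < a then 1 else 0) + (if c < a then 1 else 0) + (if d < a then 1 else 0) +
    (if c < b then 1 else 0) + (if d < b then 1 else 0) + (if d < c then 1 else 0)) % 2 == 0

/-- Which of the three pairings of a quadruple the ordered quadruple `(a,b,c,d)` stands for: the rank,
among the other points, of the partner of the least point. -/
def pairing (a b c d : ℕ) : ℕ :=
  let m := min (min a b) (min c d)
  let p := if a = m then b else if b = m then a else if c = m then d else c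
  ((if a < p then 1 else 0) + (if b < p then 1 else 0) + (if c < p then 1 else 0) +
    (if d < p then 1 else 0)) - 1

/-- All orderings of five points. -/
def orders5 : List (ℕ × ℕ × ℕ × ℕ × ℕ) :=
  [(0,1,2,3,4), (0,1,2,4,3), (0,1,3,2,4), (0,1,3,4,2), (0,1,4,2,3), (0,1,4,3,2),
   (0,2,1,3,4), (0,2,1,4,3), (0,2,3,1,4), (0,2,3,4,1), (0,2,4,1,3), (0,2,4,3,1),
   (0,3,1,2,4), (0,3,1,4,2), (0,3,2,1,4), (0,3,2,4,1), (0,3,4,1,2), (0,3,4,2,1),
   (0,4,1,2,3), (0,4,1,3,2), (0,4,2,1,3), (0,4,2,3,1), (0,4,3,1,2), (0,4,3,2,1),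
   (1,0,2,3,4), (1,0,2,4,3), (1,0,3,2,4), (1,0,3,4,2), (1,0,4,2,3), (1,0,4,3,2),
   (1,2,0,3,4), (1,2,0,4,3), (1,2,3,0,4), (1,2,3,4,0), (1,2,4,0,3), (1,2,4,3,0),
   (1,3,0,2,4), (1,3,0,4,2), (1,3,2,0,4), (1,3,2,4,0), (1,3,4,0,2), (1,3,4,2,0),
   (1,4,0,2,3), (1,4,0,3,2), (1,4,2,0,3), (1,4,2,3,0), (1,4,3,0,2), (1,4,3,2,0),
   (2,0,1,3,4), (2,0,1,4,3), (2,0,3,1,4), (2,0,3,4,1), (2,0,4,1,3), (2,0,4,3,1),
   (2,1,0,3,4), (2,1,0,4,3), (2,1,3,0,4), (2,1,3,4,0), (2,1,4,0,3), (2,1,4,3,0),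
   (2,3,0,1,4), (2,3,0,4,1), (2,3,1,0,4), (2,3,1,4,0), (2,3,4,0,1), (2,3,4,1,0),
   (2,4,0,1,3), (2,4,0,3,1), (2,4,1,0,3), (2,4,1,3,0), (2,4,3,0,1), (2,4,3,1,0),
   (3,0,1,2,4), (3,0,1,4,2), (3,0,2,1,4), (3,0,2,4,1), (3,0,4,1,2), (3,0,4,2,1),
   (3,1,0,2,4), (3,1,0,4,2), (3,1,2,0,4), (3,1,2,4,0), (3,1,4,0,2), (3,1,4,2,0),
   (3,2,0,1,4), (3,2,0,4,1), (3,2,1,0,4), (3,2,1,4,0), (3,2,4,0,1), (3,2,4,1,0),
   (3,4,0,1,2), (3,4,0,2,1), (3,4,1,0,2), (3,4,1,2,0), (3,4,2,0,1), (3,4,2,1,0),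
   (4,0,1,2,3), (4,0,1,3,2), (4,0,2,1,3), (4,0,2,3,1), (4,0,3,1,2), (4,0,3,2,1),
   (4,1,0,2,3), (4,1,0,3,2), (4,1,2,0,3), (4,1,2,3,0), (4,1,3,0,2), (4,1,3,2,0),
   (4,2,0,1,3), (4,2,0,3,1), (4,2,1,0,3), (4,2,1,3,0), (4,2,3,0,1), (4,2,3,1,0),
   (4,3,0,1,2), (4,3,0,2,1), (4,3,1,0,2), (4,3,1,2,0), (4,3,2,0,1), (4,3,2,1,0)]

/-- All orderings of four points. -/
def orders4 : List (ℕ × ℕ × ℕ × ℕ) :=
  [(0,1,2,3), (0,1,3,2), (0,2,1,3), (0,2,3,1), (0,3,1,2), (0,3,2,1),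
   (1,0,2,3), (1,0,3,2), (1,2,0,3), (1,2,3,0), (1,3,0,2), (1,3,2,0),
   (2,0,1,3), (2,0,3,1), (2,1,0,3), (2,1,3,0), (2,3,0,1), (2,3,1,0),
   (3,0,1,2), (3,0,2,1), (3,1,0,2), (3,1,2,0), (3,2,0,1), (3,2,1,0)]

/-- The orientation model on five points. -/
def orient5 (t a b c d : ℕ) : Bool := (t / 2 ^ (10 - (a + b + c + d)) % 2 == 1) == even4 a b c d

/-- The orientation model on four points. -/
def orient4 (t a b c : ℕ) : Bool := (t / 2 ^ (6 - (a + b + c)) % 2 == 1) == even3 a b c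

/-- The pairing model on five points. -/
def paired5 (t a b c d : ℕ) : Bool := t / 3 ^ (10 - (a + b + c + d)) % 3 == pairing a b c d

/-- Two extensions of the first three points in one class. -/
def both5 (P : ℕ → ℕ → ℕ → ℕ → Bool) : ℕ × ℕ × ℕ × ℕ × ℕ → Bool
  | (a, b, c, d, e) => P a b c d && P a b c e

/-- Two extensions of the first two points in one class. -/
def both4 (P : ℕ → ℕ → ℕ → Bool) : ℕ × ℕ × ℕ × ℕ → Bool
  | (a, b, c, d) => P a b c && P a b d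

/-- The orderings preserving a model, tested on the increasing quadruples. -/
def keepsOrient : ℕ → ℕ × ℕ × ℕ × ℕ × ℕ → Bool
  | t, (a, b, c, d, e) =>
    (orient5 t b c d e == orient5 t 1 2 3 4) && (orient5 t a c d e == orient5 t 0 2 3 4) &&
      (orient5 t a b d e == orient5 t 0 1 3 4) && (orient5 t a b c e == orient5 t 0 1 2 4) &&
      (orient5 t a b c d == orient5 t 0 1 2 3)

/-- The value of an ordering at a point. -/
def value5 : ℕ × ℕ × ℕ × ℕ × ℕ → ℕ → ℕ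
  | (a, b, c, d, e), i => if i = 0 then a else if i = 1 then b else if i = 2 then c else
      if i = 3 then d else e

/-- A representative quadruple of a pairing among four increasing points. -/
def repPair (P : ℕ → ℕ → ℕ → ℕ → Bool) (x a b c d : ℕ) : Bool :=
  if x = 0 then P a b c d else if x = 1 then P a c b d else P a d b c

/-- The orderings preserving a pairing model. -/
def keepsPaired : ℕ → ℕ × ℕ × ℕ × ℕ × ℕ → Bool
  | t, (a, b, c, d, e) =>
    repPair (paired5 t) (t % 3) b c d e && repPair (paired5 t) (t / 3 % 3) a c d e &&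
      repPair (paired5 t) (t / 9 % 3) a b d e && repPair (paired5 t) (t / 27 % 3) a b c e &&
      repPair (paired5 t) (t / 81 % 3) a b c d

theorem mem_orders5 : ∀ a b : Fin 5, a ≠ b → ∀ c : Fin 5, a ≠ c → b ≠ c → ∀ d : Fin 5, a ≠ d → b ≠ d →
    c ≠ d → ∀ e : Fin 5, a ≠ e → b ≠ e → c ≠ e → d ≠ e →
    ((a : ℕ), (b : ℕ), (c : ℕ), (d : ℕ), (e : ℕ)) ∈ orders5 := by
  decide +kernel

theorem mem_orders4 : ∀ a b : Fin 4, a ≠ b → ∀ c : Fin 4, a ≠ c → b ≠ c → ∀ d : Fin 4, a ≠ d → b ≠ d →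
    c ≠ d → ((a : ℕ), (b : ℕ), (c : ℕ), (d : ℕ)) ∈ orders4 := by
  decide +kernel

theorem orders5_nodup : orders5.Nodup := by decide +kernel

theorem orders4_nodup : orders4.Nodup := by decide +kernel

theorem orient4_count : ∀ t < 16, orders4.countP (both4 (orient4 t)) ∈ [0, 6, 8] := by decide +kernel

theorem orient5_count : ∀ t < 32, orders5.countP (both5 (orient5 t)) ∈ [0, 36] ∨
    (orders5.countP (both5 (orient5 t)) = 24 ∧
      ∃ i < 5, orders5.all (fun s => !keepsOrient t s || value5 s i == i) = true) := by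
  decide +kernel

theorem paired5_count : ∀ t < 243, orders5.countP (both5 (paired5 t)) % 4 = 0 ∧
    (orders5.countP (both5 (paired5 t)) = 8 → orders5.countP (keepsPaired t) ≤ 4) ∧
    (orders5.countP (both5 (paired5 t)) = 12 → orders5.countP (keepsPaired t) ≤ 2) := by
  decide +kernel

end Cfsg.Agent.Lib.Perm.HomogeneousConfig
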