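import Mathlib
import Cfsg.Agent.Lib.Perm.HomogeneousColour
import Cfsg.Agent.Lib.Perm.HomogeneousConfig

/-!
# Induced groups on three and four points, and models of colourings
-/

set_option autoImplicit false
set_option synthInstance.maxSize 4000

namespace Cfsg.Agent.Lib.Perm.HomogeneousFour

open Equiv Equiv.Perm
open Cfsg.Agent.Lib.Perm.HomogeneousColour Cfsg.Agent.Lib.Perm.HomogeneousConfig

universe u

/-- Even permutations of three positions. -/
def Even3 (σ : Perm (Fin 3)) : Prop := even3 (σ 0) (σ 1) (σ 2) = true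

/-- Even permutations of four positions. -/
def Even4 (σ : Perm (Fin 4)) : Prop := even4 (σ 0) (σ 1) (σ 2) (σ 3) = true

/-- Permutations preserving the pairing `{0,1} | {2,3}`. -/
def Pair4 (σ : Perm (Fin 4)) : Prop := pairing (σ 0) (σ 1) (σ 2) (σ 3) = 0

instance : DecidablePred Even3 := fun σ => inferInstanceAs (Decidable (even3 (σ 0) (σ 1) (σ 2) = true))

instance : DecidablePred Even4 := fun σ =>
  inferInstanceAs (Decidable (even4 (σ 0) (σ 1) (σ 2) (σ 3) = true))

instance : DecidablePred Pair4 := fun σ =>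
  inferInstanceAs (Decidable (pairing (σ 0) (σ 1) (σ 2) (σ 3) = 0))

theorem even3_mul : ∀ σ τ : Perm (Fin 3), Even3 (σ * τ) ↔ (Even3 σ ↔ Even3 τ) := by decide +kernel

theorem even4_mul : ∀ σ τ : Perm (Fin 4), Even4 (σ * τ) ↔ (Even4 σ ↔ Even4 τ) := by decide +kernel

theorem pair4_mul : ∀ σ τ : Perm (Fin 4), Pair4 (σ * τ) ↔
    pairing (σ⁻¹ 0) (σ⁻¹ 1) (σ⁻¹ 2) (σ⁻¹ 3) = pairing (τ 0) (τ 1) (τ 2) (τ 3) := by decide +kernel

theorem pairing_lt : ∀ σ : Perm (Fin 4), pairing (σ 0) (σ 1) (σ 2) (σ 3) < 3 := by decide +kernel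

theorem even3_sign : ∀ σ : Perm (Fin 3), Even3 σ ↔ Equiv.Perm.sign σ = 1 := by decide +kernel

theorem even4_sign : ∀ σ : Perm (Fin 4), Even4 σ ↔ Equiv.Perm.sign σ = 1 := by decide +kernel

theorem card_even3 : Nat.card {σ // Even3 σ} = 3 := by
  rw [Nat.card_eq_fintype_card]; decide +kernel

theorem card_even4 : Nat.card {σ // Even4 σ} = 12 := by
  rw [Nat.card_eq_fintype_card]; decide +kernel

theorem card_pair4 : Nat.card {σ // Pair4 σ} = 8 := by
  rw [Nat.card_eq_fintype_card]; decide +kernel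

theorem card_fix3 : Nat.card {σ : Perm (Fin 3) // σ 0 = 0} = 2 := by
  rw [Nat.card_eq_fintype_card]; decide +kernel

theorem card_fix4 : Nat.card {σ : Perm (Fin 4) // σ 0 = 0} = 6 := by
  rw [Nat.card_eq_fintype_card]; decide +kernel

theorem pair4_closed : ∀ σ τ : Perm (Fin 4), Pair4 σ → Pair4 τ → Pair4 (σ * τ) := by decide +kernel

theorem pair4_inv : ∀ σ : Perm (Fin 4), Pair4 σ → Pair4 σ⁻¹ := by decide +kernel

theorem invol_fixed : ∀ l : Perm (Fin 3), l * l = 1 → ∃ p, l p = p := by decide +kernel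

theorem three_fixed : ∀ t : Perm (Fin 4), t * t * t = 1 → ∃ p, t p = p := by decide +kernel

theorem three_normaliser : ∀ t : Perm (Fin 4), t * t * t = 1 → t ≠ 1 → ∀ p, t p = p →
    ∀ s : Perm (Fin 4), s * t * s⁻¹ = t ∨ s * t * s⁻¹ = t * t → s p = p := by decide +kernel

theorem values3 : ∀ (i : Fin 4) (π : Perm (Fin 3)),
    6 - ((i.succAbove (π 0) : ℕ) + i.succAbove (π 1) + i.succAbove (π 2)) = i ∧
    even3 (i.succAbove (π 0)) (i.succAbove (π 1)) (i.succAbove (π 2)) = even3 (π 0) (π 1) (π 2) := by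
  decide +kernel

theorem values4 : ∀ (i : Fin 5) (π : Perm (Fin 4)),
    10 - ((i.succAbove (π 0) : ℕ) + i.succAbove (π 1) + i.succAbove (π 2) + i.succAbove (π 3)) = i ∧
    even4 (i.succAbove (π 0)) (i.succAbove (π 1)) (i.succAbove (π 2)) (i.succAbove (π 3)) =
      even4 (π 0) (π 1) (π 2) (π 3) ∧
    pairing (i.succAbove (π 0)) (i.succAbove (π 1)) (i.succAbove (π 2)) (i.succAbove (π 3)) =
      pairing (π 0) (π 1) (π 2) (π 3) := by decide +kernel

theorem code4 : ∀ b : Fin 4 → Bool, ∃ t < 16, ∀ i : Fin 4, (t / 2 ^ (i : ℕ) % 2 == 1) = b i := by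
  decide +kernel

theorem code5 : ∀ b : Fin 5 → Bool, ∃ t < 32, ∀ i : Fin 5, (t / 2 ^ (i : ℕ) % 2 == 1) = b i := by
  decide +kernel

theorem code5_three : ∀ f : Fin 5 → Fin 3, ∃ t < 243, ∀ i : Fin 5, t / 3 ^ (i : ℕ) % 3 = (f i : ℕ) := by
  decide +kernel

theorem keepsPaired_refl : ∀ t < 243, keepsPaired t (0, 1, 2, 3, 4) = true := by decide +kernel

theorem iff_decide_beq (a b : Bool) {inst : Decidable (a = true)} :
    ((a = true ↔ b = true) ↔ (@decide (a = true) inst == b) = true) := by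
  cases a <;> cases b <;> simp

/-- The values of a permutation of five points. -/
def vals5 (σ : Perm (Fin 5)) : ℕ × ℕ × ℕ × ℕ × ℕ := (σ 0, σ 1, σ 2, σ 3, σ 4)

/-- The values of a permutation of four points. -/
def vals4 (σ : Perm (Fin 4)) : ℕ × ℕ × ℕ × ℕ := (σ 0, σ 1, σ 2, σ 3)

theorem card_eq_countP {β : Type} [Fintype β] [DecidableEq β] {γ : Type} [DecidableEq γ] (v : β → γ)
    (hv : Function.Injective v) (l : List γ) (hl : l.Nodup) (hmem : ∀ x, v x ∈ l)
    (hlen : l.length ≤ Fintype.card β) (Q : γ → Bool) {Ψ : β → Prop} (hΨ : ∀ x, Ψ x ↔ Q (v x) = true) :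
    Nat.card {x // Ψ x} = l.countP Q := by
  classical
  have himg : Finset.univ.image v = l.toFinset := by
    refine Finset.eq_of_subset_of_card_le (fun z hz => ?_) ?_
    · obtain ⟨x, -, rfl⟩ := Finset.mem_image.mp hz
      exact List.mem_toFinset.mpr (hmem x)
    · rw [Finset.card_image_of_injective _ hv, List.toFinset_card_of_nodup hl]
      exact hlen
  have h : (Finset.univ.filter Ψ).image v = (l.filter Q).toFinset := by
    rw [List.toFinset_filter, ← himg]
    ext z
    simp only [Finset.mem_image, Finset.mem_filter, Finset.mem_univ, true_and]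
    constructor
    · rintro ⟨x, hx, rfl⟩; exact ⟨⟨x, rfl⟩, (hΨ x).mp hx⟩
    · rintro ⟨⟨x, rfl⟩, hx⟩; exact ⟨x, (hΨ x).mpr hx, rfl⟩
  rw [Nat.card_eq_fintype_card, Fintype.card_subtype, ← Finset.card_image_of_injective _ hv, h,
    List.toFinset_card_of_nodup (hl.filter _), List.countP_eq_length_filter]

theorem vals5_injective : Function.Injective vals5 := by
  intro σ τ h
  simp only [vals5, Prod.mk.injEq] at h
  obtain ⟨h0, h1, h2, h3, h4⟩ := h
  refine Equiv.ext fun i => Fin.ext ?_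
  fin_cases i <;> assumption

theorem vals4_injective : Function.Injective vals4 := by
  intro σ τ h
  simp only [vals4, Prod.mk.injEq] at h
  obtain ⟨h0, h1, h2, h3⟩ := h
  refine Equiv.ext fun i => Fin.ext ?_
  fin_cases i <;> assumption

theorem card_perm5 (Q : ℕ × ℕ × ℕ × ℕ × ℕ → Bool) {Ψ : Perm (Fin 5) → Prop}
    (hΨ : ∀ σ, Ψ σ ↔ Q (vals5 σ) = true) : Nat.card {σ // Ψ σ} = orders5.countP Q := by
  refine card_eq_countP vals5 vals5_injective _ orders5_nodup (fun σ => ?_) ?_ Q hΨ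
  · have h : ∀ i j : Fin 5, i ≠ j → σ i ≠ σ j := fun i j => σ.injective.ne
    exact mem_orders5 _ _ (h 0 1 (by decide)) _ (h 0 2 (by decide)) (h 1 2 (by decide))
      _ (h 0 3 (by decide)) (h 1 3 (by decide)) (h 2 3 (by decide))
      _ (h 0 4 (by decide)) (h 1 4 (by decide)) (h 2 4 (by decide)) (h 3 4 (by decide))
  · rw [Fintype.card_perm, Fintype.card_fin]; rfl

theorem card_perm4 (Q : ℕ × ℕ × ℕ × ℕ → Bool) {Ψ : Perm (Fin 4) → Prop}
    (hΨ : ∀ σ, Ψ σ ↔ Q (vals4 σ) = true) : Nat.card {σ // Ψ σ} = orders4.countP Q := by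
  refine card_eq_countP vals4 vals4_injective _ orders4_nodup (fun σ => ?_) ?_ Q hΨ
  · have h : ∀ i j : Fin 4, i ≠ j → σ i ≠ σ j := fun i j => σ.injective.ne
    exact mem_orders4 _ _ (h 0 1 (by decide)) _ (h 0 2 (by decide)) (h 1 2 (by decide))
      _ (h 0 3 (by decide)) (h 1 3 (by decide)) (h 2 3 (by decide))
  · rw [Fintype.card_perm, Fintype.card_fin]; rfl

theorem exists_factor {m : ℕ} (v : Fin m → Fin (m + 1)) (hv : Function.Injective v) :
    ∃ (i : Fin (m + 1)) (π : Perm (Fin m)), ∀ k, v k = i.succAbove (π k) := by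
  classical
  obtain ⟨i, -, hi⟩ := Finset.exists_mem_notMem_of_card_lt_card (s := Finset.univ.image v)
    (t := (Finset.univ : Finset (Fin (m + 1)))) (by
      rw [Finset.card_image_of_injective _ hv, Finset.card_univ, Finset.card_univ, Fintype.card_fin,
        Fintype.card_fin]
      omega)
  have h : ∀ k, ∃ l, i.succAbove l = v k := fun k =>
    Fin.exists_succAbove_eq fun e => hi (e ▸ Finset.mem_image_of_mem v (Finset.mem_univ k))
  choose f hf using h
  have hfi : Function.Injective f := fun k l e => hv (by rw [← hf, ← hf, e])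
  exact ⟨i, Equiv.ofBijective f ((Fintype.bijective_iff_injective_and_card f).mpr ⟨hfi, rfl⟩),
    fun k => by simpa using (hf k).symm⟩

variable {α : Type u} [Fintype α] [DecidableEq α] {G : Subgroup (Perm α)}

/-- The orientation model on four points. -/
theorem orient4_model (hh : MulAction.IsPretransitive G (Set.powersetCard α 3)) {r : Fin 3 → α}
    (hr : Function.Injective r) (hL : ∀ l ∈ induced G r, Even3 l) {s : Fin 4 → α}
    (hs : Function.Injective s) :
    ∃ t < 16, ∀ v : Fin 3 → Fin 4, Function.Injective v →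
      (Col G r Even3 (s ∘ v) ↔ orient4 t (v 0) (v 1) (v 2) = true) := by
  classical
  have hD : ∀ l ∈ induced G r, ∀ σ, Even3 σ → Even3 (l * σ) := fun l hl σ hσ =>
    (even3_mul l σ).mpr ⟨fun _ => hσ, fun _ => hL l hl⟩
  have htype := fun i : Fin 4 => exists_type hh hr (hs.comp (Fin.succAbove_right_injective (p := i)))
  choose g hg τ hτ using htype
  obtain ⟨t, ht, hti⟩ := code4 fun i => decide (Even3 (τ i))
  refine ⟨t, ht, fun v hv => ?_⟩
  obtain ⟨i, π, hπ⟩ := exists_factor v hv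
  rw [show s ∘ v = (s ∘ i.succAbove) ∘ π from funext fun k => by simp [hπ k],
    col_comp_iff hr hD (hg i) (hτ i), even3_mul]
  obtain ⟨h1, h2⟩ := values3 i π
  rw [hπ 0, hπ 1, hπ 2, orient4, h1, hti, h2]
  show _ ↔ (decide (Even3 (τ i)) == _) = true
  exact iff_decide_beq _ _

/-- The orientation model on five points. -/
theorem orient5_model (hh : MulAction.IsPretransitive G (Set.powersetCard α 4)) {r : Fin 4 → α}
    (hr : Function.Injective r) (hL : ∀ l ∈ induced G r, Even4 l) {s : Fin 5 → α}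
    (hs : Function.Injective s) :
    ∃ t < 32, ∀ v : Fin 4 → Fin 5, Function.Injective v →
      (Col G r Even4 (s ∘ v) ↔ orient5 t (v 0) (v 1) (v 2) (v 3) = true) := by
  classical
  have hD : ∀ l ∈ induced G r, ∀ σ, Even4 σ → Even4 (l * σ) := fun l hl σ hσ =>
    (even4_mul l σ).mpr ⟨fun _ => hσ, fun _ => hL l hl⟩
  have htype := fun i : Fin 5 => exists_type hh hr (hs.comp (Fin.succAbove_right_injective (p := i)))
  choose g hg τ hτ using htype
  obtain ⟨t, ht, hti⟩ := code5 fun i => decide (Even4 (τ i))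
  refine ⟨t, ht, fun v hv => ?_⟩
  obtain ⟨i, π, hπ⟩ := exists_factor v hv
  rw [show s ∘ v = (s ∘ i.succAbove) ∘ π from funext fun k => by simp [hπ k],
    col_comp_iff hr hD (hg i) (hτ i), even4_mul]
  obtain ⟨h1, h2, -⟩ := values4 i π
  rw [hπ 0, hπ 1, hπ 2, hπ 3, orient5, h1, hti, h2]
  show _ ↔ (decide (Even4 (τ i)) == _) = true
  exact iff_decide_beq _ _

/-- The pairing model on five points. -/
theorem paired5_model (hh : MulAction.IsPretransitive G (Set.powersetCard α 4)) {r : Fin 4 → α}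
    (hr : Function.Injective r) (hL : ∀ l ∈ induced G r, Pair4 l) {s : Fin 5 → α}
    (hs : Function.Injective s) :
    ∃ t < 243, ∀ v : Fin 4 → Fin 5, Function.Injective v →
      (Col G r Pair4 (s ∘ v) ↔ paired5 t (v 0) (v 1) (v 2) (v 3) = true) := by
  classical
  have hD : ∀ l ∈ induced G r, ∀ σ, Pair4 σ → Pair4 (l * σ) := fun l hl σ hσ =>
    pair4_closed l σ (hL l hl) hσ
  have htype := fun i : Fin 5 => exists_type hh hr (hs.comp (Fin.succAbove_right_injective (p := i)))
  choose g hg τ hτ using htype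
  obtain ⟨t, ht, hti⟩ := code5_three fun i =>
    ⟨pairing ((τ i)⁻¹ 0) ((τ i)⁻¹ 1) ((τ i)⁻¹ 2) ((τ i)⁻¹ 3), pairing_lt _⟩
  refine ⟨t, ht, fun v hv => ?_⟩
  obtain ⟨i, π, hπ⟩ := exists_factor v hv
  rw [show s ∘ v = (s ∘ i.succAbove) ∘ π from funext fun k => by simp [hπ k],
    col_comp_iff hr hD (hg i) (hτ i), pair4_mul]
  obtain ⟨h1, -, h3⟩ := values4 i π
  rw [hπ 0, hπ 1, hπ 2, hπ 3, paired5, h1, hti, h3, beq_iff_eq]

theorem induced_relabel {m : ℕ} {r : Fin m → α} (hr : Function.Injective r) (ρ π : Perm (Fin m))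
    (hπ : π ∈ induced G (r ∘ ⇑ρ⁻¹)) : ρ⁻¹ * π * ρ ∈ induced G r := by
  simpa using (mem_induced_comp hr (one_mem G) (τ := ρ⁻¹) (x := r ∘ ⇑ρ⁻¹) (fun _ => rfl) π).mp hπ

/-- A proper subgroup of the symmetric group on three points. -/
theorem classify3 (L : Subgroup (Perm (Fin 3))) (hL : L ≠ ⊤) :
    Nat.card L = 1 ∨ (∀ l ∈ L, Even3 l) ∨ ∃ p, ∀ l ∈ L, l p = p := by
  have hdvd := Subgroup.card_subgroup_dvd_card L
  have h6 : Nat.card (Perm (Fin 3)) = 6 := by simp [Fintype.card_perm]; rfl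
  rw [h6] at hdvd
  have hne : Nat.card L ≠ 6 := fun e => hL (Subgroup.eq_top_of_card_eq L (e.trans h6.symm))
  have hle := Nat.le_of_dvd (by norm_num) hdvd
  have hpos := Nat.card_pos (α := L)
  interval_cases hc : Nat.card L
  · exact Or.inl rfl
  · right; right
    obtain ⟨a, ha⟩ := exists_prime_orderOf_dvd_card' (G := L) 2 (hp := ⟨Nat.prime_two⟩) (by rw [hc])
    have ha1 : a ≠ 1 := by rintro rfl; simp at ha
    have ha2 : (a : Perm (Fin 3)) * a = 1 := by
      rw [← pow_two, ← ha, ← Subgroup.orderOf_coe, pow_orderOf_eq_one]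
    obtain ⟨p, hp⟩ := invol_fixed _ ha2
    refine ⟨p, fun l hl => ?_⟩
    obtain ⟨y, hy, huniv⟩ := (Nat.card_eq_two_iff' (1 : L)).mp hc
    rcases eq_or_ne (⟨l, hl⟩ : L) 1 with e | e
    · rw [show l = 1 from congrArg Subtype.val e, one_apply]
    · rw [show l = (a : Perm (Fin 3)) from congrArg Subtype.val ((huniv _ e).trans (huniv _ ha1).symm)]
      exact hp
  · refine Or.inr (Or.inl fun l hl => (even3_sign l).mpr ?_)
    have h1 : (⟨l, hl⟩ : L) ^ 3 = 1 :=
      (congrArg (fun i => (⟨l, hl⟩ : L) ^ i) hc.symm).trans pow_card_eq_one'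
    have h2 : Equiv.Perm.sign l ^ 3 = 1 := by rw [← map_pow, show l ^ 3 = 1 from congrArg Subtype.val h1, map_one]
    rcases Int.units_eq_one_or (Equiv.Perm.sign l) with h | h
    · exact h
    · rw [h] at h2; exact absurd h2 (by decide)
  all_goals omega

/-- A proper subgroup of the symmetric group on four points, up to relabelling. -/
theorem classify4 (L : Subgroup (Perm (Fin 4))) (hL : L ≠ ⊤) :
    (∀ l ∈ L, Even4 l) ∨
      ((Nat.card L ∣ 8) ∧ ∃ ρ : Perm (Fin 4), ∀ l ∈ L, Pair4 (ρ * l * ρ⁻¹)) ∨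
      (Nat.card L = 6 ∧ ∃ ρ : Perm (Fin 4), ∀ l ∈ L, (ρ * l * ρ⁻¹) 0 = 0) := by
  classical
  by_cases hev : ∀ l ∈ L, Even4 l
  · exact Or.inl hev
  right
  have hdvd := Subgroup.card_subgroup_dvd_card L
  have h24 : Nat.card (Perm (Fin 4)) = 24 := by simp [Fintype.card_perm]; rfl
  rw [h24] at hdvd
  have hne : Nat.card L ≠ 24 := fun e => hL (Subgroup.eq_top_of_card_eq L (e.trans h24.symm))
  have h12 : Nat.card L ≠ 12 := by
    intro e
    have hidx : L.index = 2 := by
      have := L.index_mul_card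
      rw [h24, e] at this
      omega
    apply hev
    intro l hl
    rw [Equiv.Perm.eq_alternatingGroup_of_index_eq_two hidx, Equiv.Perm.mem_alternatingGroup] at hl
    exact (even4_sign l).mpr hl
  have hodd : ¬ Odd (Nat.card L) := by
    intro h
    apply hev
    intro l hl
    refine (even4_sign l).mpr ?_
    have h1 : (⟨l, hl⟩ : L) ^ Nat.card L = 1 := pow_card_eq_one'
    have h2 : Equiv.Perm.sign l ^ Nat.card L = 1 := by
      rw [← map_pow, show l ^ Nat.card L = 1 from congrArg Subtype.val h1, map_one]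
    rcases Int.units_eq_one_or (Equiv.Perm.sign l) with h' | h'
    · exact h'
    · rw [h', h.neg_one_pow] at h2; exact absurd h2 (by decide)
  have hle := Nat.le_of_dvd (by norm_num) hdvd
  have hcases : Nat.card L = 6 ∨ (Nat.card L ∣ 8) := by
    have hd : Nat.card L ∈ Nat.divisors 24 := Nat.mem_divisors.mpr ⟨hdvd, by norm_num⟩
    rw [show Nat.divisors 24 = {1, 2, 3, 4, 6, 8, 12, 24} by decide +kernel] at hd
    simp only [Finset.mem_insert, Finset.mem_singleton] at hd
    rcases hd with e | e | e | e | e | e | e | e <;> rw [e] at hodd hne h12 ⊢ <;>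
      first | (left; rfl) | (exact Or.inr (by decide)) | (exact absurd (by decide) hodd) | omega
  rcases hcases with h6 | h8
  · right
    refine ⟨h6, ?_⟩
    obtain ⟨t, ht⟩ := exists_prime_orderOf_dvd_card' (G := L) 3 (hp := ⟨Nat.prime_three⟩) (by rw [h6]; norm_num)
    have ht' : orderOf (t : Perm (Fin 4)) = 3 := by rw [Subgroup.orderOf_coe, ht]
    have ht3 : (t : Perm (Fin 4)) * t * t = 1 := by
      rw [← pow_two, ← pow_succ, show (2 + 1 : ℕ) = orderOf (t : Perm (Fin 4)) from ht'.symm, pow_orderOf_eq_one]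
    have ht1 : (t : Perm (Fin 4)) ≠ 1 := by
      intro e; rw [e, orderOf_one] at ht'; omega
    obtain ⟨p, hp⟩ := three_fixed _ ht3
    refine ⟨Equiv.swap 0 p, fun l hl => ?_⟩
    have hidx : (Subgroup.zpowers t).index = 2 := by
      have := (Subgroup.zpowers t).index_mul_card
      rw [h6, Nat.card_zpowers, ht] at this
      omega
    have hn := Subgroup.normal_of_index_eq_two hidx
    have hmem := hn.conj_mem t (Subgroup.mem_zpowers t) ⟨l, hl⟩
    rw [← mem_powers_iff_mem_zpowers, Submonoid.mem_powers_iff] at hmem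
    obtain ⟨m, hm⟩ := hmem
    have hm' : l * (t : Perm (Fin 4)) * l⁻¹ = (t : Perm (Fin 4)) ^ (m % 3) := by
      conv_rhs => rw [← ht', pow_mod_orderOf]
      exact (congrArg Subtype.val hm).symm
    have hlp : l p = p := by
      refine three_normaliser _ ht3 ht1 p hp l ?_
      have : m % 3 < 3 := Nat.mod_lt _ (by norm_num)
      interval_cases hh : m % 3
      · exfalso
        apply ht1
        rw [pow_zero] at hm'
        rw [show (t : Perm (Fin 4)) = l⁻¹ * (l * t * l⁻¹) * l by group, hm']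
        group
      · left; rw [hm', pow_one]
      · right; rw [hm', pow_two]
    rw [Equiv.swap_inv, mul_apply, mul_apply, Equiv.swap_apply_left, hlp, Equiv.swap_apply_right]
  · left
    refine ⟨h8, ?_⟩
    have : Fact (Nat.Prime 2) := ⟨Nat.prime_two⟩
    let D : Subgroup (Perm (Fin 4)) :=
      { carrier := {σ | Pair4 σ}
        one_mem' := by show Pair4 1; decide +kernel
        mul_mem' := fun {a b} ha hb => pair4_closed a b ha hb
        inv_mem' := fun {a} ha => pair4_inv a ha }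
    have hDc : Nat.card D = 8 := card_pair4
    have hq : Nat.card (Perm (Fin 4) ⧸ D) = 3 := by
      have h := D.index_mul_card
      rw [Subgroup.index, hDc, h24] at h
      omega
    have hp : IsPGroup 2 L := by
      obtain ⟨i, -, hi⟩ := (Nat.dvd_prime_pow Nat.prime_two).mp (show Nat.card L ∣ 2 ^ 3 from h8)
      exact IsPGroup.of_card hi
    obtain ⟨q, hq'⟩ := hp.nonempty_fixed_point_of_prime_not_dvd_card (Perm (Fin 4) ⧸ D) (by rw [hq]; norm_num)
    obtain ⟨σ, rfl⟩ := QuotientGroup.mk_surjective q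
    refine ⟨σ⁻¹, fun l hl => ?_⟩
    have h := hq' ⟨l, hl⟩
    change ((l * σ : Perm (Fin 4)) : Perm (Fin 4) ⧸ D) = (σ : Perm (Fin 4) ⧸ D) at h
    rw [eq_comm, QuotientGroup.eq] at h
    rw [inv_inv, mul_assoc]
    exact h

end Cfsg.Agent.Lib.Perm.HomogeneousFour
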