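import Mathlib
import Cfsg.Agent.Lib.Perm.AltOnSubset
import Cfsg.Agent.Lib.Perm.KleinOdd
import Cfsg.Agent.Lib.Perm.Normal

/-!
# Multiply transitive groups that are homogeneous on larger sets

A group that is `j`-transitive (`j ≥ 4`) and `(j+1)`-homogeneous without being `(j+1)`-transitive
is the alternating group of degree `j + 2`.
-/

set_option autoImplicit false
set_option linter.unusedSectionVars false

namespace Cfsg.Agent.Lib.Perm.HomogeneousSucc

open Equiv Equiv.Perm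
open Cfsg.Agent.Lib.Perm.AltOnSubset Cfsg.Agent.Lib.Perm.KleinOdd

universe u

variable {α : Type u} [Fintype α] [DecidableEq α] {G : Subgroup (Perm α)} {j : ℕ}

theorem inv_app (g : Perm α) (x : α) : g⁻¹ (g x) = x := g.symm_apply_apply x

theorem app_inv (g : Perm α) (x : α) : g (g⁻¹ x) = x := g.apply_symm_apply x

/-- Two points are in one orbit of the pointwise fixer of `A`. -/
def Same (G : Subgroup (Perm α)) (A : Finset α) (v w : α) : Prop := ∃ z ∈ fixer G A, z v = w

theorem Same.refl (A : Finset α) (v : α) : Same G A v v := ⟨1, one_mem _, rfl⟩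

theorem Same.symm {A : Finset α} {v w : α} : Same G A v w → Same G A w v := by
  rintro ⟨z, hz, rfl⟩
  exact ⟨z⁻¹, inv_mem hz, by simp⟩

theorem Same.trans {A : Finset α} {u v w : α} : Same G A u v → Same G A v w → Same G A u w := by
  rintro ⟨z, hz, rfl⟩ ⟨z', hz', rfl⟩
  exact ⟨z' * z, mul_mem hz' hz, rfl⟩

/-- The class of a point. -/
noncomputable def cls (G : Subgroup (Perm α)) (A : Finset α) (w : α) : Finset α := by
  classical exact Finset.univ.filter fun v => Same G A w v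

theorem mem_cls {A : Finset α} {w v : α} : v ∈ cls G A w ↔ Same G A w v := by
  classical
  simp [cls]

/-- No element induces a transposition on a `k`-set. -/
def NoSwap (G : Subgroup (Perm α)) (k : ℕ) : Prop :=
  ∀ Δ : Finset α, Δ.card = k → ∀ g ∈ G, ∀ a ∈ Δ, ∀ b ∈ Δ, a ≠ b → g a = b → g b = a →
    (∀ x ∈ Δ, x ≠ a → x ≠ b → g x = x) → False

/-- The running hypotheses. -/
structure Hyp (G : Subgroup (Perm α)) (j : ℕ) : Prop where
  four_le : 4 ≤ j
  trans : KTrans G j
  noSwap : NoSwap G (j + 1)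

theorem exists_image_eq {k : ℕ} (hh : MulAction.IsPretransitive G (Set.powersetCard α k))
    {A B : Finset α} (hA : A.card = k) (hB : B.card = k) :
    ∃ g ∈ G, A.image g = B := by
  obtain ⟨g, hg⟩ := hh.exists_smul_eq ⟨A, hA⟩ ⟨B, hB⟩
  exact ⟨g, g.2, congrArg Subtype.val hg⟩

theorem noSwap_of_homog (hj : 4 ≤ j) (hjn : j < Fintype.card α)
    (ht : MulAction.IsMultiplyPretransitive G α j)
    (hh : MulAction.IsPretransitive G (Set.powersetCard α (j + 1)))
    (hnt : ¬ MulAction.IsMultiplyPretransitive G α (j + 1)) : NoSwap G (j + 1) := by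
  classical
  intro Δ₁ hΔ₁ t ht₁ a ha b hb hab hta htb hrest
  obtain ⟨Δ₀, hΔ₀, heven⟩ := AltOnSubset.main _ rfl G hj hjn ht
  have hevenAll : ∀ Δ : Finset α, Δ.card = j + 1 → ∀ σ : Perm ↥Δ, σ.sign = 1 →
      ∃ g ∈ G, ∀ x : ↥Δ, g (x : α) = σ x := by
    intro Δ hΔ σ hσ
    obtain ⟨g, hg, hgΔ⟩ := exists_image_eq hh hΔ₀ hΔ
    let e : ↥Δ₀ ≃ ↥Δ := Equiv.ofBijective (fun x => ⟨g x, hgΔ ▸ Finset.mem_image_of_mem g x.2⟩)
      ⟨fun x y h => Subtype.ext (g.injective (congrArg Subtype.val h)), fun ⟨y, hy⟩ => by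
        rw [← hgΔ, Finset.mem_image] at hy
        obtain ⟨x, hx, rfl⟩ := hy
        exact ⟨⟨x, hx⟩, rfl⟩⟩
    obtain ⟨f, hf, hfσ⟩ := heven (e.symm.permCongr σ) (by rw [Equiv.Perm.sign_permCongr, hσ])
    refine ⟨g * f * g⁻¹, mul_mem (mul_mem hg hf) (inv_mem hg), fun y => ?_⟩
    obtain ⟨x, rfl⟩ := e.surjective y
    rw [mul_apply, mul_apply, show ((e x : ↥Δ) : α) = g x from rfl, inv_app, hfσ,
      Equiv.permCongr_apply, Equiv.symm_symm]
    exact congrArg Subtype.val (e.apply_symm_apply (σ (e x)))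
  apply hnt
  rw [MulAction.isMultiplyPretransitive_iff]
  intro x y
  set X : Finset α := Finset.univ.map x with hX
  set Y : Finset α := Finset.univ.map y with hY
  have hXc : X.card = j + 1 := by simp [hX]
  have hYc : Y.card = j + 1 := by simp [hY]
  obtain ⟨g₁, hg₁, hXY⟩ := exists_image_eq hh hXc hYc
  obtain ⟨g₂, hg₂, hY2⟩ := exists_image_eq hh hΔ₁ hYc
  have hga : g₂ a ∈ Y := hY2 ▸ Finset.mem_image_of_mem g₂ ha
  have hgb : g₂ b ∈ Y := hY2 ▸ Finset.mem_image_of_mem g₂ hb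
  set τ : Perm ↥Y := Equiv.swap ⟨g₂ a, hga⟩ ⟨g₂ b, hgb⟩ with hτ
  have hτG : ∃ g ∈ G, ∀ z : ↥Y, g (z : α) = τ z := by
    refine ⟨g₂ * t * g₂⁻¹, mul_mem (mul_mem hg₂ ht₁) (inv_mem hg₂), fun ⟨z, hz⟩ => ?_⟩
    obtain ⟨w, hw, rfl⟩ : ∃ w ∈ Δ₁, g₂ w = z := by
      rw [← hY2, Finset.mem_image] at hz
      exact hz
    rw [mul_apply, mul_apply, inv_app, hτ]
    rcases eq_or_ne w a with rfl | h1
    · rw [hta, Equiv.swap_apply_left]
    rcases eq_or_ne w b with rfl | h2
    · rw [htb, Equiv.swap_apply_right]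
    rw [hrest w hw h1 h2, Equiv.swap_apply_of_ne_of_ne (by simpa using h1) (by simpa using h2)]
  have hτs : τ.sign = -1 := Equiv.Perm.sign_swap (by simpa using hab)
  have hall : ∀ σ : Perm ↥Y, ∃ g ∈ G, ∀ z : ↥Y, g (z : α) = σ z := by
    intro σ
    rcases Int.units_eq_one_or σ.sign with h | h
    · exact hevenAll Y hYc σ h
    · obtain ⟨g, hg, hgσ⟩ := hevenAll Y hYc (σ * τ) (by rw [map_mul, h, hτs]; rfl)
      obtain ⟨g', hg', hg'τ⟩ := hτG
      refine ⟨g * g', mul_mem hg hg', fun z => ?_⟩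
      rw [mul_apply, hg'τ, hgσ]
      simp [hτ]
  have hmem : ∀ i, g₁ (x i) ∈ Y := fun i =>
    hXY ▸ Finset.mem_image_of_mem g₁ (Finset.mem_map_of_mem x (Finset.mem_univ i))
  let f : Fin (j + 1) → ↥Y := fun i => ⟨g₁ (x i), hmem i⟩
  have hf : Function.Bijective f := by
    refine (Fintype.bijective_iff_injective_and_card f).mpr ⟨fun i i' h => x.injective (g₁.injective
      (congrArg Subtype.val h)), by simp [hYc]⟩
  obtain ⟨g₃, hg₃, hg₃σ⟩ := hall ((Equiv.ofBijective f hf).symm.trans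
    (Equiv.ofBijective (fun i => (⟨y i, Finset.mem_map_of_mem y (Finset.mem_univ i)⟩ : ↥Y))
      ((Fintype.bijective_iff_injective_and_card _).mpr ⟨fun i i' h => y.injective
        (congrArg Subtype.val h), by simp [hYc]⟩)))
  refine ⟨⟨g₃ * g₁, mul_mem hg₃ hg₁⟩, Function.Embedding.ext fun i => ?_⟩
  show (g₃ * g₁) (x i) = y i
  rw [mul_apply, show g₁ (x i) = ((f i : ↥Y) : α) from rfl, hg₃σ, Equiv.trans_apply,
    show (Equiv.ofBijective f hf).symm (f i) = i from Equiv.ofBijective_symm_apply_apply f hf i]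
  rfl

theorem natCard_orbit_mul {K S : Subgroup (Perm α)} {w : α} {O : Finset α}
    (hO : ∀ z, z ∈ O ↔ ∃ m ∈ K, m w = z) (hS : ∀ m, m ∈ S ↔ m ∈ K ∧ m w = w) :
    Nat.card K = O.card * Nat.card S := by
  classical
  have h := MulAction.orbitEquivQuotientStabilizer K w
  have hstab : Nat.card (MulAction.stabilizer K w) = Nat.card S := by
    refine Nat.card_congr
      { toFun := fun m => ⟨(m.1 : Perm α), (hS _).mpr ⟨m.1.2, m.2⟩⟩
        invFun := fun m => ⟨⟨m.1, ((hS _).mp m.2).1⟩, ((hS _).mp m.2).2⟩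
        left_inv := fun _ => rfl
        right_inv := fun _ => rfl }
  have horb : Nat.card (MulAction.orbit K w) = O.card := by
    rw [← Nat.card_eq_finsetCard]
    refine Nat.card_congr (Equiv.subtypeEquivRight fun z => ?_)
    rw [MulAction.mem_orbit_iff, hO]
    exact ⟨fun ⟨m, hm⟩ => ⟨m, m.2, hm⟩, fun ⟨m, hm, h⟩ => ⟨⟨m, hm⟩, h⟩⟩
  rw [Subgroup.card_eq_card_quotient_mul_card_subgroup (MulAction.stabilizer K w), ← Nat.card_congr h,
    horb, hstab]

theorem odd_fixer (H : Hyp G j) {A : Finset α} (hA : A.card = j) : Odd (Nat.card (fixer G A)) := by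
  by_contra heven
  rw [Nat.not_odd_iff_even, even_iff_two_dvd] at heven
  have : Fact (Nat.Prime 2) := ⟨Nat.prime_two⟩
  obtain ⟨u, hu⟩ := exists_prime_orderOf_dvd_card' 2 heven
  rw [← Subgroup.orderOf_coe] at hu
  obtain ⟨v, hv⟩ : ∃ v, (u : Perm α) v ≠ v := by
    by_contra h
    push Not at h
    have h1 : (u : Perm α) = 1 := Equiv.ext h
    rw [h1, orderOf_one] at hu
    omega
  have huu : (u : Perm α) ((u : Perm α) v) = v := by
    rw [← mul_apply, ← pow_two, ← hu, pow_orderOf_eq_one, one_apply]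
  have hvA : v ∉ A := fun h => hv (u.2.2 v h)
  have huvA : (u : Perm α) v ∉ A := fun h => hv (by
    have h' := u.2.2 _ h
    rw [huu] at h'
    exact h'.symm)
  obtain ⟨y, hy⟩ := Finset.card_pos.mp (show 0 < A.card by have := H.four_le; omega)
  refine H.noSwap (insert v (insert ((u : Perm α) v) (A.erase y))) ?_ u u.2.1 v (by simp)
    ((u : Perm α) v) (by simp) (Ne.symm hv) rfl huu ?_
  · rw [Finset.card_insert_of_notMem, Finset.card_insert_of_notMem, Finset.card_erase_of_mem hy, hA]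
    · have := H.four_le; omega
    · exact fun h => huvA (Finset.mem_of_mem_erase h)
    · simp only [Finset.mem_insert, not_or]
      exact ⟨Ne.symm hv, fun h => hvA (Finset.mem_of_mem_erase h)⟩
  · intro z hz h1 h2
    simp only [Finset.mem_insert] at hz
    exact u.2.2 z (Finset.mem_of_mem_erase ((hz.resolve_left h1).resolve_left h2))

theorem not_same (H : Hyp G j) {A : Finset α} (hA : A.card = j) {x y : α} (hx : x ∈ A) (hy : y ∈ A)
    (hxy : x ≠ y) {g : Perm α} (hg : g ∈ G) (h1 : g x = y) (h2 : g y = x)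
    (hrest : ∀ z ∈ A, z ≠ x → z ≠ y → g z = z) {v : α} (hv : v ∉ A) : ¬ Same G A v (g v) := by
  rintro ⟨z, hz, hzv⟩
  have hinv : ∀ t ∈ A, z⁻¹ t = t := fun t ht => (inv_mem hz).2 t ht
  refine H.noSwap (insert v A) (by rw [Finset.card_insert_of_notMem hv, hA]) (z⁻¹ * g)
    (mul_mem (inv_mem hz.1) hg) x (Finset.mem_insert_of_mem hx) y (Finset.mem_insert_of_mem hy) hxy
    (by rw [mul_apply, h1, hinv y hy]) (by rw [mul_apply, h2, hinv x hx]) ?_
  intro t ht h3 h4
  rcases Finset.mem_insert.mp ht with rfl | ht'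
  · rw [mul_apply, ← hzv, inv_app]
  · rw [mul_apply, hrest t ht' h3 h4, hinv t ht']

theorem fixSet_eq (H : Hyp G j) {A : Finset α} (hA : A.card = j) {x y : α} (hx : x ∈ A) (hy : y ∈ A)
    (hxy : x ≠ y) {g : Perm α} (hg : g ∈ G) (h1 : g x = y) (h2 : g y = x)
    (hrest : ∀ z ∈ A, z ≠ x → z ≠ y → g z = z) : fixSet g = (A.erase x).erase y := by
  ext z
  rw [mem_fixSet, Finset.mem_erase, Finset.mem_erase]
  constructor
  · intro hz
    refine ⟨fun e => hxy ?_, fun e => hxy ?_, ?_⟩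
    · subst e; exact h2.symm.trans hz
    · subst e; exact hz.symm.trans h1
    · by_contra hzA
      have h := not_same H hA hx hy hxy hg h1 h2 hrest hzA
      rw [hz] at h
      exact h (Same.refl _ _)
  · rintro ⟨h3, h4, h5⟩
    exact hrest z h5 h4 h3

theorem swap_values {A : Finset α} {g : Perm α} {x y : α} (hgA : ∀ z ∈ A, g z = Equiv.swap x y z)
    (hx : x ∈ A) (hy : y ∈ A) :
    g x = y ∧ g y = x ∧ ∀ z ∈ A, z ≠ x → z ≠ y → g z = z :=
  ⟨by rw [hgA x hx, Equiv.swap_apply_left], by rw [hgA y hy, Equiv.swap_apply_right],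
    fun z hz h1 h2 => by rw [hgA z hz, Equiv.swap_apply_of_ne_of_ne h1 h2]⟩

/-- The data attached to two commuting involutions. -/
structure Setup (G : Subgroup (Perm α)) (A : Finset α) (x y a b w : α) (g h : Perm α) : Prop where
  hx : x ∈ A
  hy : y ∈ A
  ha : a ∈ A
  hb : b ∈ A
  hxy : x ≠ y
  hab : a ≠ b
  hax : a ≠ x
  hay : a ≠ y
  hbx : b ≠ x
  hby : b ≠ y
  hw : w ∉ A
  hg : g ∈ G
  hh : h ∈ G
  g2 : g * g = 1
  h2 : h * h = 1
  comm : h * g = g * h
  gA : ∀ z ∈ A, g z = Equiv.swap x y z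
  hxy' : h x = y
  hab' : h a = b
  hrest : ∀ z ∈ A, z ≠ x → z ≠ y → z ≠ a → z ≠ b → h z = z
  hhw : h w = w

variable {A : Finset α} {x y a b w : α} {g h : Perm α}

theorem Setup.g_mem (S : Setup G A x y a b w g h) : ∀ z ∈ A, g z ∈ A := fun z hz => by
  rw [S.gA z hz]; exact AltOnSubset.swap_mem S.hx S.hy z hz

theorem Setup.g_notMem (S : Setup G A x y a b w g h) {v : α} (hv : v ∉ A) : g v ∉ A := fun hc => hv (by
  have h1 := S.g_mem _ hc
  rwa [← mul_apply, S.g2, one_apply] at h1)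

theorem Setup.g_moved (H : Hyp G j) (hA : A.card = j) (S : Setup G A x y a b w g h) {v : α}
    (hv : v ∉ A) : g v ≠ v := by
  obtain ⟨h1, h2, h3⟩ := swap_values S.gA S.hx S.hy
  intro e
  have := mem_fixSet.mpr e
  rw [fixSet_eq H hA S.hx S.hy S.hxy S.hg h1 h2 h3] at this
  exact hv (Finset.mem_of_mem_erase (Finset.mem_of_mem_erase this))

theorem Setup.card_set (H : Hyp G j) (hA : A.card = j) (S : Setup G A x y a b w g h) {v : α}
    (hv : v ∉ A) : ((A.erase a).erase b ∪ {v, g v}).card = j :=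
  (card_erase_union S.ha S.hb S.hab hv (S.g_notMem hv) (S.g_moved H hA hv).symm).trans hA

theorem Setup.fix_h (H : Hyp G j) (hA : A.card = j) (S : Setup G A x y a b w g h) {v : α}
    {k : Perm α} (hk : k ∈ G) (hv : v ∉ A) (h1 : k x = y) (h2 : k y = x)
    (h3 : ∀ z ∈ (A.erase a).erase b ∪ {v, g v}, z ≠ x → z ≠ y → k z = z) :
    fixSet k = (((A.erase a).erase b ∪ {v, g v}).erase x).erase y :=
  fixSet_eq H (S.card_set H hA hv)
    (Finset.mem_union_left _ (by simp [S.hx, S.hax.symm, S.hbx.symm]))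
    (Finset.mem_union_left _ (by simp [S.hy, S.hay.symm, S.hby.symm])) S.hxy hk h1 h2 h3

theorem Setup.h_values (S : Setup G A x y a b w g h) :
    h y = x ∧ h b = a ∧ h (g w) = g w := by
  refine ⟨?_, ?_, ?_⟩
  · rw [← S.hxy', ← mul_apply, S.h2, one_apply]
  · rw [← S.hab', ← mul_apply, S.h2, one_apply]
  · rw [← mul_apply, S.comm, mul_apply, S.hhw]

theorem Setup.fixSet_h (H : Hyp G j) (hA : A.card = j) (S : Setup G A x y a b w g h) :
    fixSet h = (((A.erase a).erase b ∪ {w, g w}).erase x).erase y := by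
  refine S.fix_h H hA S.hh S.hw S.hxy' S.h_values.1 fun z hz h1 h2 => ?_
  simp only [Finset.mem_union, Finset.mem_erase, Finset.mem_insert, Finset.mem_singleton] at hz
  rcases hz with ⟨h3, h4, h5⟩ | rfl | rfl
  · exact S.hrest z h5 h1 h2 h4 h3
  · exact S.hhw
  · exact S.h_values.2.2

/-- Every cycle of `g` outside `A` meets the orbit of `w` under the centraliser of `g`. -/
theorem Setup.cover (H : Hyp G j) (hA : A.card = j) (S : Setup G A x y a b w g h) {v : α}
    (hv : v ∉ A) : ∃ m ∈ cent (fixer G A) g, m v = w ∨ m v = g w := by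
  classical
  obtain ⟨hgx, hgy, hgr⟩ := swap_values S.gA S.hx S.hy
  have hgg : ∀ t, g (g t) = t := fun t => by rw [← mul_apply, S.g2, one_apply]
  set B := (A.erase a).erase b ∪ {v, g v} with hB
  have hxB : x ∈ B := Finset.mem_union_left _ (by simp [S.hx, S.hax.symm, S.hbx.symm])
  have hyB : y ∈ B := Finset.mem_union_left _ (by simp [S.hy, S.hay.symm, S.hby.symm])
  have hgB : ∀ z ∈ B, g z ∈ B := by
    intro z hz
    simp only [hB, Finset.mem_union, Finset.mem_erase, Finset.mem_insert, Finset.mem_singleton] at hz ⊢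
    rcases hz with ⟨h1, h2, h3⟩ | rfl | rfl
    · left
      rcases eq_or_ne z x with rfl | hzx
      · rw [hgx]; exact ⟨S.hby.symm, S.hay.symm, S.hy⟩
      rcases eq_or_ne z y with rfl | hzy
      · rw [hgy]; exact ⟨S.hbx.symm, S.hax.symm, S.hx⟩
      rw [hgr z h3 hzx hzy]; exact ⟨h1, h2, h3⟩
    · right; right; rfl
    · right; left; exact hgg v
  obtain ⟨h₀, hh₀⟩ := H.trans B (S.card_set H hA hv) (Equiv.swap x y) (injOn_swap B x y)
  obtain ⟨k, hk, hk2, hkg, hkB⟩ := exists_commuting_involution (A := B) S.hg S.g2 hgB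
    (τ := Equiv.swap x y) (AltOnSubset.swap_mem hxB hyB) (fun z _ => Equiv.swap_apply_self x y z)
    (fun z hz => by
      rcases eq_or_ne z x with rfl | h1
      · rw [Equiv.swap_apply_left, hgy, hgx, Equiv.swap_apply_right]
      rcases eq_or_ne z y with rfl | h2
      · rw [Equiv.swap_apply_right, hgx, hgy, Equiv.swap_apply_left]
      rw [Equiv.swap_apply_of_ne_of_ne h1 h2, Equiv.swap_apply_of_ne_of_ne]
      · intro e; exact h2 (g.injective (e.trans hgy.symm))
      · intro e; exact h1 (g.injective (e.trans hgx.symm)))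
    (odd_fixer H (S.card_set H hA hv)) ⟨h₀, hh₀.1, hh₀.2⟩
  obtain ⟨hkx, hky, hkr⟩ := swap_values hkB hxB hyB
  have hkk : ∀ t, k (k t) = t := fun t => by rw [← mul_apply, hk2, one_apply]
  have hkfix := S.fix_h H hA hk hv hkx hky hkr
  have hka : k a = b := by
    refine apply_eq_of_pair (B := (A.erase x).erase y) ?_ (by simp [S.ha, S.hax, S.hay]) ?_ ?_
    · intro t ht
      rw [← fixSet_eq H hA S.hx S.hy S.hxy S.hg hgx hgy hgr] at ht ⊢
      exact fixSet_invariant hkg t ht
    · intro t ht h1 h2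
      simp only [Finset.mem_erase] at ht
      exact hkr t (Finset.mem_union_left _ (by simp [h1, h2, ht.2.2])) ht.2.1 ht.1
    · intro e
      have h1 := mem_fixSet.mpr e
      rw [hkfix] at h1
      simp only [Finset.mem_union, Finset.mem_erase, Finset.mem_insert, Finset.mem_singleton] at h1
      rcases h1.2.2 with ⟨-, h2, -⟩ | rfl | h2
      · exact h2 rfl
      · exact hv S.ha
      · exact S.g_notMem hv (h2 ▸ S.ha)
  have hkb : k b = a := by rw [← hka, hkk]
  obtain ⟨hy', hb', -⟩ := S.h_values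
  have hz : h * k ∈ fixer G A := by
    refine ⟨mul_mem S.hh hk, fun t ht => ?_⟩
    rw [mul_apply]
    rcases eq_or_ne t x with rfl | h1
    · rw [hkx, hy']
    rcases eq_or_ne t y with rfl | h2
    · rw [hky, S.hxy']
    rcases eq_or_ne t a with rfl | h3
    · rw [hka, hb']
    rcases eq_or_ne t b with rfl | h4
    · rw [hkb, S.hab']
    rw [hkr t (Finset.mem_union_left _ (by simp [h3, h4, ht])) h1 h2, S.hrest t ht h1 h2 h3 h4]
  have hodd := odd_fixer H hA
  set m := sqrtOdd (fixer G A) (h * k) with hm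
  have hmK : m ∈ fixer G A := sqrtOdd_mem hz
  have hgm : g * m * g = m := by
    rw [hm, conj_sqrtOdd S.g2]
    congr 1
    rw [conj_mul S.g2, (comm_iff S.g2 h).mp S.comm.symm, (comm_iff S.g2 k).mp hkg.symm]
  have hhm : h * m * h = m⁻¹ := by
    rw [hm, conj_sqrtOdd S.h2, ← sqrtOdd_inv]
    congr 1
    rw [mul_inv_rev, inv_eq_of_mul_eq_one_right hk2, inv_eq_of_mul_eq_one_right S.h2,
      ← mul_assoc, S.h2, one_mul]
  have hkm : k = m⁻¹ * h * m := by
    have h1 : h * m = m⁻¹ * h := by rw [← hhm, mul_assoc _ h h, S.h2, mul_one]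
    rw [mul_assoc, h1, ← mul_assoc, ← mul_inv_rev, sqrtOdd_sq hodd hz, mul_inv_rev,
      inv_eq_of_mul_eq_one_right hk2, inv_eq_of_mul_eq_one_right S.h2, mul_assoc, S.h2, mul_one]
  have hkv : k v = v := by
    have h1 : v ∈ fixSet k := by
      rw [hkfix]
      simp only [Finset.mem_union, Finset.mem_erase, Finset.mem_insert, Finset.mem_singleton]
      exact ⟨fun e => hv (e ▸ S.hy), fun e => hv (e ▸ S.hx), Or.inr (Or.inl trivial)⟩
    exact mem_fixSet.mp h1
  have hhmv : m v ∈ fixSet h := by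
    rw [mem_fixSet]
    conv_rhs => rw [← hkv, hkm, mul_apply, mul_apply, app_inv]
  rw [S.fixSet_h H hA] at hhmv
  refine ⟨m, mem_cent.mpr ⟨hmK, (comm_iff S.g2 m).mpr hgm⟩, ?_⟩
  simp only [Finset.mem_union, Finset.mem_erase, Finset.mem_insert, Finset.mem_singleton] at hhmv
  rcases hhmv.2.2 with ⟨-, -, h3⟩ | h3
  · exact absurd (m.injective ((hmK.2 _ h3))) (fun e => hv (e ▸ h3))
  · exact h3

theorem Setup.not_same_pair (H : Hyp G j) (hA : A.card = j) (S : Setup G A x y a b w g h) :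
    ¬ Same G A w (g w) := by
  obtain ⟨h1, h2, h3⟩ := swap_values S.gA S.hx S.hy
  exact not_same H hA S.hx S.hy S.hxy S.hg h1 h2 h3 S.hw

theorem Setup.orbit_eq (H : Hyp G j) (hA : A.card = j) (S : Setup G A x y a b w g h) {v : α}
    (hv : Same G A w v) : ∃ m ∈ cent (fixer G A) g, m w = v := by
  have hvA : v ∉ A := by
    obtain ⟨z, hz, rfl⟩ := hv
    exact fun hc => S.hw (by rwa [← z.injective (hz.2 _ hc)])
  obtain ⟨m, hm, h1 | h1⟩ := S.cover H hA hvA
  · exact ⟨m⁻¹, inv_mem hm, by rw [← h1, inv_app]⟩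
  · exact absurd (hv.trans ⟨m, (mem_cent.mp hm).1, h1⟩) (S.not_same_pair H hA)

theorem Setup.card_cent (H : Hyp G j) (hA : A.card = j) (S : Setup G A x y a b w g h) :
    Nat.card (cent (fixer G A) g) =
      (cls G A w).card * Nat.card (cent (fixer G (A ∪ {w, g w})) g) := by
  refine natCard_orbit_mul (w := w) (fun z => ⟨fun hz => S.orbit_eq H hA (mem_cls.mp hz), ?_⟩) ?_
  · rintro ⟨m, hm, rfl⟩
    exact mem_cls.mpr ⟨m, (mem_cent.mp hm).1, rfl⟩
  · intro m
    simp only [mem_cent, mem_fixer, Finset.mem_union, Finset.mem_insert, Finset.mem_singleton]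
    constructor
    · rintro ⟨⟨h1, h2⟩, h3⟩
      exact ⟨⟨⟨h1, fun t ht => h2 t (Or.inl ht)⟩, h3⟩, h2 w (Or.inr (Or.inl rfl))⟩
    · rintro ⟨⟨⟨h1, h2⟩, h3⟩, h4⟩
      refine ⟨⟨h1, ?_⟩, h3⟩
      rintro t (ht | rfl | rfl)
      · exact h2 t ht
      · exact h4
      · rw [← mul_apply, ← h3, mul_apply, h4]

theorem Setup.two_classes (H : Hyp G j) (hA : A.card = j) (S : Setup G A x y a b w g h) :
    cls G A (g w) = (cls G A w).image g ∧ Fintype.card α = j + 2 * (cls G A w).card ∧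
      ∀ v ∉ A, Same G A w v ∨ Same G A (g w) v := by
  have himg : ∀ v, Same G A w v → Same G A (g w) (g v) := by
    intro v hv
    obtain ⟨m, hm, rfl⟩ := S.orbit_eq H hA hv
    refine ⟨m, (mem_cent.mp hm).1, ?_⟩
    rw [← mul_apply, ← (mem_cent.mp hm).2, mul_apply]
  have hall : ∀ v ∉ A, Same G A w v ∨ Same G A (g w) v := by
    intro v hv
    obtain ⟨m, hm, h1 | h1⟩ := S.cover H hA hv
    · exact Or.inl (Same.symm ⟨m, (mem_cent.mp hm).1, h1⟩)
    · exact Or.inr (Same.symm ⟨m, (mem_cent.mp hm).1, h1⟩)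
  have hgg : ∀ t, g (g t) = t := fun t => by rw [← mul_apply, S.g2, one_apply]
  have hout : ∀ u v, u ∉ A → Same G A u v → v ∉ A := by
    rintro u v hu ⟨z, hz, rfl⟩ hc
    exact hu (by rwa [← z.injective (hz.2 _ hc)])
  have hgw := S.g_notMem S.hw
  have hcls : cls G A (g w) = (cls G A w).image g := by
    ext v
    rw [Finset.mem_image, mem_cls]
    constructor
    · intro hv
      obtain ⟨m, hm, h1 | h1⟩ := S.cover H hA (hout _ _ hgw hv)
      · exact absurd ((Same.symm (hv.trans ⟨m, (mem_cent.mp hm).1, h1⟩))) (S.not_same_pair H hA)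
      · refine ⟨m⁻¹ w, mem_cls.mpr ⟨m⁻¹, inv_mem (mem_cent.mp hm).1, rfl⟩, ?_⟩
        rw [← mul_apply, (mem_cent.mp (inv_mem hm)).2, mul_apply, ← h1, inv_app]
    · rintro ⟨u, hu, rfl⟩
      exact himg u (mem_cls.mp hu)
  refine ⟨hcls, ?_, hall⟩
  have hcompl : Finset.univ \ A = cls G A w ∪ (cls G A w).image g := by
    ext v
    simp only [Finset.mem_sdiff, Finset.mem_univ, true_and, Finset.mem_union, ← hcls, mem_cls]
    exact ⟨hall v, fun hv => hv.elim (hout _ _ S.hw) (hout _ _ hgw)⟩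
  have hdisj : Disjoint (cls G A w) ((cls G A w).image g) := by
    rw [← hcls, Finset.disjoint_left]
    exact fun v h1 h2 => S.not_same_pair H hA ((mem_cls.mp h1).trans (mem_cls.mp h2).symm)
  have hc := congrArg Finset.card hcompl
  rw [Finset.card_union_of_disjoint hdisj, Finset.card_image_of_injective _ g.injective,
    Finset.card_sdiff_of_subset (Finset.subset_univ A), Finset.card_univ, hA] at hc
  have hle : A.card ≤ Fintype.card α := Finset.card_le_univ A
  omega

theorem exists_setup (H : Hyp G j) (hA : A.card = j) (hw : w ∉ A) :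
    ∃ x y a b g h, Setup G A x y a b w g h := by
  have := H.four_le
  obtain ⟨x, hx, y, hy, hxy⟩ := Finset.one_lt_card.mp (show 1 < A.card by omega)
  obtain ⟨a, ha', b, hb', hab⟩ := Finset.one_lt_card.mp (show 1 < ((A.erase x).erase y).card by
    rw [Finset.card_erase_of_mem (Finset.mem_erase.mpr ⟨hxy.symm, hy⟩), Finset.card_erase_of_mem hx]
    omega)
  simp only [Finset.mem_erase] at ha' hb'
  obtain ⟨hay, hax, ha⟩ := ha'
  obtain ⟨hby, hbx, hb⟩ := hb'
  obtain ⟨g₀, hg₀⟩ := H.trans A hA (Equiv.swap x y) (injOn_swap A x y)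
  obtain ⟨g, hg, hg2, -, hgA⟩ := exists_commuting_involution (one_mem G) (one_mul 1) (A := A)
    (fun z hz => hz) (τ := Equiv.swap x y) (AltOnSubset.swap_mem hx hy)
    (fun z _ => Equiv.swap_apply_self x y z) (fun z _ => rfl) (odd_fixer H hA) ⟨g₀, hg₀.1, hg₀.2⟩
  obtain ⟨hgx, hgy, hgr⟩ := swap_values hgA hx hy
  have hgg : ∀ t, g (g t) = t := fun t => by rw [← mul_apply, hg2, one_apply]
  have hgwA : g w ∉ A := fun hc => hw (by
    have h1 : g (g w) ∈ A := by rw [hgA _ hc]; exact AltOnSubset.swap_mem hx hy _ hc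
    rwa [hgg] at h1)
  have hgw : g w ≠ w := fun e => by
    have := not_same H hA hx hy hxy hg hgx hgy hgr hw
    rw [e] at this
    exact this (Same.refl _ _)
  set B := (A.erase a).erase b ∪ {w, g w} with hB
  have hBc : B.card = j := (card_erase_union ha hb hab hw hgwA hgw.symm).trans hA
  have hxB : x ∈ B := Finset.mem_union_left _ (by simp [hx, hax.symm, hbx.symm])
  have hyB : y ∈ B := Finset.mem_union_left _ (by simp [hy, hay.symm, hby.symm])
  have hgB : ∀ z ∈ B, g z ∈ B := by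
    intro z hz
    simp only [hB, Finset.mem_union, Finset.mem_erase, Finset.mem_insert, Finset.mem_singleton] at hz ⊢
    rcases hz with ⟨h1, h2, h3⟩ | rfl | rfl
    · left
      rcases eq_or_ne z x with rfl | hzx
      · rw [hgx]; exact ⟨hby.symm, hay.symm, hy⟩
      rcases eq_or_ne z y with rfl | hzy
      · rw [hgy]; exact ⟨hbx.symm, hax.symm, hx⟩
      rw [hgr z h3 hzx hzy]; exact ⟨h1, h2, h3⟩
    · right; right; rfl
    · right; left; exact hgg w
  obtain ⟨h₀, hh₀⟩ := H.trans B hBc (Equiv.swap x y) (injOn_swap B x y)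
  obtain ⟨h, hh, hh2, hcomm, hhB⟩ := exists_commuting_involution (A := B) hg hg2 hgB
    (τ := Equiv.swap x y) (AltOnSubset.swap_mem hxB hyB) (fun z _ => Equiv.swap_apply_self x y z)
    (fun z hz => by
      rcases eq_or_ne z x with rfl | h1
      · rw [Equiv.swap_apply_left, hgy, hgx, Equiv.swap_apply_right]
      rcases eq_or_ne z y with rfl | h2
      · rw [Equiv.swap_apply_right, hgx, hgy, Equiv.swap_apply_left]
      rw [Equiv.swap_apply_of_ne_of_ne h1 h2, Equiv.swap_apply_of_ne_of_ne]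
      · intro e; exact h2 (g.injective (e.trans hgy.symm))
      · intro e; exact h1 (g.injective (e.trans hgx.symm)))
    (odd_fixer H hBc) ⟨h₀, hh₀.1, hh₀.2⟩
  obtain ⟨hhx, hhy, hhr⟩ := swap_values hhB hxB hyB
  have hhfix : fixSet h = (B.erase x).erase y := fixSet_eq H hBc hxB hyB hxy hh hhx hhy hhr
  have hha : h a = b := by
    refine apply_eq_of_pair (B := (A.erase x).erase y) ?_ (by simp [ha, hax, hay]) ?_ ?_
    · intro t ht
      rw [← fixSet_eq H hA hx hy hxy hg hgx hgy hgr] at ht ⊢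
      exact fixSet_invariant hcomm t ht
    · intro t ht h1 h2
      simp only [Finset.mem_erase] at ht
      exact hhr t (Finset.mem_union_left _ (by simp [h1, h2, ht.2.2])) ht.2.1 ht.1
    · intro e
      have h1 := mem_fixSet.mpr e
      rw [hhfix] at h1
      simp only [hB, Finset.mem_union, Finset.mem_erase, Finset.mem_insert, Finset.mem_singleton] at h1
      rcases h1.2.2 with ⟨-, h2, -⟩ | rfl | h2
      · exact h2 rfl
      · exact hw ha
      · exact hgwA (h2 ▸ ha)
  exact ⟨x, y, a, b, g, h, ⟨hx, hy, ha, hb, hxy, hab, hax, hay, hbx, hby, hw, hg, hh, hg2, hh2, hcomm,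
    hgA, hhx, hha, fun z hz h1 h2 h3 h4 => hhr z (Finset.mem_union_left _ (by simp [h3, h4, hz])) h1 h2,
    hhr w (Finset.mem_union_right _ (by simp)) (fun e => hw (e ▸ hx)) (fun e => hw (e ▸ hy))⟩⟩

/-- The swapped setup. -/
theorem Setup.swapped (S : Setup G A x y a b w g h) : Setup G A a b x y w (g * h) h := by
  obtain ⟨hy', hb', -⟩ := S.h_values
  obtain ⟨hgx, hgy, hgr⟩ := swap_values S.gA S.hx S.hy
  refine ⟨S.ha, S.hb, S.hx, S.hy, S.hab, S.hxy, S.hax.symm, S.hbx.symm, S.hay.symm, S.hby.symm, S.hw,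
    mul_mem S.hg S.hh, S.hh, ?_, S.h2, ?_, ?_, S.hab', S.hxy',
    fun z hz h1 h2 h3 h4 => S.hrest z hz h3 h4 h1 h2, S.hhw⟩
  · rw [show g * h * (g * h) = g * (h * g) * h by group, S.comm, ← mul_assoc, S.g2, one_mul, S.h2]
  · rw [← mul_assoc, S.comm]
  · intro z hz
    rw [mul_apply]
    rcases eq_or_ne z x with rfl | h1
    · rw [S.hxy', hgy, Equiv.swap_apply_of_ne_of_ne S.hax.symm S.hbx.symm]
    rcases eq_or_ne z y with rfl | h2
    · rw [hy', hgx, Equiv.swap_apply_of_ne_of_ne S.hay.symm S.hby.symm]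
    rcases eq_or_ne z a with rfl | h3
    · rw [S.hab', hgr b S.hb S.hbx S.hby, Equiv.swap_apply_left]
    rcases eq_or_ne z b with rfl | h4
    · rw [hb', hgr a S.ha S.hax S.hay, Equiv.swap_apply_right]
    rw [S.hrest z hz h1 h2 h3 h4, hgr z hz h1 h2, Equiv.swap_apply_of_ne_of_ne h3 h4]

theorem Setup.normalises (S : Setup G A x y a b w g h) :
    (∀ z ∈ fixer G A, g * z * g ∈ fixer G A) ∧
      ∀ z ∈ fixer G (A ∪ {w, g w}), g * z * g ∈ fixer G (A ∪ {w, g w}) := by
  have hgg : ∀ t, g (g t) = t := fun t => by rw [← mul_apply, S.g2, one_apply]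
  refine ⟨fun z hz => ⟨mul_mem (mul_mem S.hg hz.1) S.hg, fun t ht => ?_⟩,
    fun z hz => ⟨mul_mem (mul_mem S.hg hz.1) S.hg, fun t ht => ?_⟩⟩
  · rw [mul_apply, mul_apply, hz.2 _ (S.g_mem t ht), hgg]
  · have hmem : g t ∈ A ∪ {w, g w} := by
      simp only [Finset.mem_union, Finset.mem_insert, Finset.mem_singleton] at ht ⊢
      rcases ht with ht | rfl | rfl
      · exact Or.inl (S.g_mem t ht)
      · exact Or.inr (Or.inr rfl)
      · exact Or.inr (Or.inl (hgg w))
    rw [mul_apply, mul_apply, hz.2 _ hmem, hgg]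

theorem Setup.h_normalises (S : Setup G A x y a b w g h) :
    (∀ z ∈ fixer G A, h * z * h ∈ fixer G A) ∧
      ∀ z ∈ fixer G (A ∪ {w, g w}), h * z * h ∈ fixer G (A ∪ {w, g w}) := by
  obtain ⟨hy', hb', hgw'⟩ := S.h_values
  have hhh : ∀ t, h (h t) = t := fun t => by rw [← mul_apply, S.h2, one_apply]
  have hA' : ∀ t ∈ A, h t ∈ A := by
    intro t ht
    rcases eq_or_ne t x with rfl | h1
    · rw [S.hxy']; exact S.hy
    rcases eq_or_ne t y with rfl | h2
    · rw [hy']; exact S.hx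
    rcases eq_or_ne t a with rfl | h3
    · rw [S.hab']; exact S.hb
    rcases eq_or_ne t b with rfl | h4
    · rw [hb']; exact S.ha
    rw [S.hrest t ht h1 h2 h3 h4]; exact ht
  refine ⟨fun z hz => ⟨mul_mem (mul_mem S.hh hz.1) S.hh, fun t ht => ?_⟩,
    fun z hz => ⟨mul_mem (mul_mem S.hh hz.1) S.hh, fun t ht => ?_⟩⟩
  · rw [mul_apply, mul_apply, hz.2 _ (hA' t ht), hhh]
  · have hmem : h t ∈ A ∪ {w, g w} := by
      simp only [Finset.mem_union, Finset.mem_insert, Finset.mem_singleton] at ht ⊢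
      rcases ht with ht | rfl | rfl
      · exact Or.inl (hA' t ht)
      · exact Or.inr (Or.inl S.hhw)
      · exact Or.inr (Or.inr hgw')
    rw [mul_apply, mul_apply, hz.2 _ hmem, hhh]

theorem Setup.cent_h (H : Hyp G j) (hA : A.card = j) (S : Setup G A x y a b w g h) :
    cent (fixer G A) h = cent (fixer G (A ∪ {w, g w})) h := by
  ext m
  simp only [mem_cent, mem_fixer, Finset.mem_union]
  constructor
  · rintro ⟨⟨h1, h2⟩, h3⟩
    refine ⟨⟨h1, ?_⟩, h3⟩
    rintro t (ht | ht)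
    · exact h2 t ht
    have hmK : m ∈ fixer G A := ⟨h1, h2⟩
    have hfix : ∀ u, h u = u → u ∉ A → m u = w ∨ m u = g w := by
      intro u hu huA
      have h4 : m u ∈ fixSet h := fixSet_invariant h3.symm u (mem_fixSet.mpr hu)
      rw [S.fixSet_h H hA] at h4
      simp only [Finset.mem_union, Finset.mem_erase, Finset.mem_insert, Finset.mem_singleton] at h4
      rcases h4.2.2 with ⟨-, -, h5⟩ | h5
      · exact absurd (m.injective (h2 _ h5)) (fun e => huA (e ▸ h5))
      · exact h5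
    have hne := S.not_same_pair H hA
    simp only [Finset.mem_insert, Finset.mem_singleton] at ht
    rcases ht with rfl | rfl
    · exact (hfix _ S.hhw S.hw).resolve_right fun e => hne ⟨m, hmK, e⟩
    · exact (hfix _ S.h_values.2.2 (S.g_notMem S.hw)).resolve_left fun e =>
        hne (Same.symm ⟨m, hmK, e⟩)
  · rintro ⟨⟨h1, h2⟩, h3⟩
    exact ⟨⟨h1, fun t ht => h2 t (Or.inl ht)⟩, h3⟩

theorem Setup.card_fixer (H : Hyp G j) (hA : A.card = j) (S : Setup G A x y a b w g h) :
    Nat.card (fixer G A) = (cls G A w).card ^ 2 * Nat.card (fixer G (A ∪ {w, g w})) := by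
  set W := fixer G (A ∪ {w, g w}) with hW
  have hodd := odd_fixer H hA
  have hle : W ≤ fixer G A := fun z hz => ⟨hz.1, fun t ht => hz.2 t (Finset.mem_union_left _ ht)⟩
  have hoddW : Odd (Nat.card W) := hodd.of_dvd_nat (Subgroup.card_dvd_of_le hle)
  have hgh : (g * h) w = g w := by rw [mul_apply, S.hhw]
  have e1 := card_formula hodd S.g2 S.h2 S.comm.symm S.normalises.1 S.h_normalises.1
  have e2 := card_formula hoddW S.g2 S.h2 S.comm.symm S.normalises.2 S.h_normalises.2
  have c1 := S.card_cent H hA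
  have c3 := S.swapped.card_cent H hA
  rw [hgh] at c3
  have c2 := S.cent_h H hA
  have c4 : cent (cent (fixer G A) g) h = cent (cent W g) h := by
    ext m
    constructor
    · intro hm
      obtain ⟨hm1, hm2⟩ := mem_cent.mp hm
      obtain ⟨hm3, hm4⟩ := mem_cent.mp hm1
      have : m ∈ cent W h := c2 ▸ mem_cent.mpr ⟨hm3, hm2⟩
      exact mem_cent.mpr ⟨mem_cent.mpr ⟨(mem_cent.mp this).1, hm4⟩, hm2⟩
    · intro hm
      obtain ⟨hm1, hm2⟩ := mem_cent.mp hm
      obtain ⟨hm3, hm4⟩ := mem_cent.mp hm1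
      exact mem_cent.mpr ⟨mem_cent.mpr ⟨hle hm3, hm4⟩, hm2⟩
  rw [c4, c1, c3, c2] at e1
  have hpos : 0 < Nat.card ↥(cent (cent W g) h) ^ 2 := pow_pos Nat.card_pos 2
  apply Nat.eq_of_mul_eq_mul_right hpos
  rw [e1, mul_assoc ((cls G A w).card ^ 2), e2]
  ring

/-- The two classes outside a `j`-set. -/
theorem opposite (H : Hyp G j) (hA : A.card = j) (hw : w ∉ A) :
    ∃ w', w' ∉ A ∧ ¬ Same G A w w' ∧ (∀ v ∉ A, Same G A w v ∨ Same G A w' v) ∧
      Fintype.card α = j + 2 * (cls G A w).card ∧ (cls G A w').card = (cls G A w).card ∧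
      ∀ v, Same G A w' v → ∃ z ∈ fixer G (insert w A), z w' = v := by
  classical
  obtain ⟨x, y, a, b, g, h, S⟩ := exists_setup H hA hw
  obtain ⟨hcls, hn, hall⟩ := S.two_classes H hA
  have hc : (cls G A (g w)).card = (cls G A w).card := by
    rw [hcls, Finset.card_image_of_injective _ g.injective]
  refine ⟨g w, S.g_notMem hw, S.not_same_pair H hA, hall, hn, hc, ?_⟩
  have h1 : Nat.card (fixer G A) = (cls G A w).card * Nat.card (fixer G (insert w A)) := by
    refine natCard_orbit_mul (fun z => mem_cls) fun m => ?_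
    simp only [mem_fixer, Finset.mem_insert]
    exact ⟨fun ⟨h1, h2⟩ => ⟨⟨h1, fun t ht => h2 t (Or.inr ht)⟩, h2 w (Or.inl rfl)⟩,
      fun ⟨⟨h1, h2⟩, h3⟩ => ⟨h1, fun t ht => ht.elim (fun e => e ▸ h3) (h2 t)⟩⟩
  let O : Finset α := Finset.univ.filter fun v => ∃ z ∈ fixer G (insert w A), z (g w) = v
  have h2 : Nat.card (fixer G (insert w A)) = O.card * Nat.card (fixer G (A ∪ {w, g w})) := by
    refine natCard_orbit_mul (w := g w) (fun z => by simp [O]) fun m => ?_
    simp only [mem_fixer, Finset.mem_insert, Finset.mem_union, Finset.mem_singleton]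
    constructor
    · rintro ⟨h1, h2⟩
      refine ⟨⟨h1, ?_⟩, h2 _ (Or.inr (Or.inr rfl))⟩
      rintro t (rfl | ht)
      · exact h2 _ (Or.inr (Or.inl rfl))
      · exact h2 t (Or.inl ht)
    · rintro ⟨⟨h1, h2⟩, h3⟩
      refine ⟨h1, ?_⟩
      rintro t (ht | rfl | rfl)
      · exact h2 t (Or.inr ht)
      · exact h2 _ (Or.inl rfl)
      · exact h3
  have h3 := S.card_fixer H hA
  rw [h1, h2] at h3
  have hepos : 0 < (cls G A w).card := Finset.card_pos.mpr ⟨w, mem_cls.mpr (Same.refl _ _)⟩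
  have hO : O.card = (cls G A w).card := by
    apply Nat.eq_of_mul_eq_mul_left hepos
    apply Nat.eq_of_mul_eq_mul_right (Nat.card_pos (α := fixer G (A ∪ {w, g w})))
    rw [mul_assoc, h3]; ring
  have hsub : O ⊆ cls G A (g w) := by
    intro v hv
    obtain ⟨z, hz, rfl⟩ := (Finset.mem_filter.mp hv).2
    exact mem_cls.mpr ⟨z, ⟨hz.1, fun t ht => hz.2 t (Finset.mem_insert_of_mem ht)⟩, rfl⟩
  have heq := Finset.eq_of_subset_of_card_le hsub (by rw [hc, hO])
  intro v hv
  have : v ∈ O := heq ▸ mem_cls.mpr hv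
  exact (Finset.mem_filter.mp this).2

theorem same_transfer (H : Hyp G j) {Δ : Finset α} (hΔ : Δ.card = j + 1) {z v v' : α} (hz : z ∉ Δ)
    (hv : v ∈ Δ) (hv' : v' ∈ Δ) (hs : Same G (Δ.erase v) v z) : Same G (Δ.erase v') v' z := by
  by_contra hne
  have hvv : v ≠ v' := fun e => hne (e ▸ hs)
  have hA : (Δ.erase v).card = j := by rw [Finset.card_erase_of_mem hv, hΔ]; omega
  have hA' : (Δ.erase v').card = j := by rw [Finset.card_erase_of_mem hv', hΔ]; omega
  obtain ⟨w', hw', -, hall, hn, hc, horb⟩ := opposite H hA' (Finset.notMem_erase v' Δ)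
  obtain ⟨-, -, -, -, hn', -, -⟩ := opposite H hA (Finset.notMem_erase v Δ)
  have hzw : Same G (Δ.erase v') w' z :=
    (hall z fun h => hz (Finset.mem_of_mem_erase h)).resolve_left hne
  obtain ⟨ζ, hζ, hζz⟩ := horb z hzw
  rw [Finset.insert_erase hv'] at hζ
  have hsub : insert v (cls G (Δ.erase v') w') ⊆ cls G (Δ.erase v) v := by
    intro u hu
    rcases Finset.mem_insert.mp hu with rfl | hu
    · exact mem_cls.mpr (Same.refl _ _)
    obtain ⟨η, hη, rfl⟩ := horb u (mem_cls.mp hu)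
    rw [Finset.insert_erase hv'] at hη
    refine mem_cls.mpr (hs.trans ⟨η * ζ⁻¹, ?_, ?_⟩)
    · exact ⟨mul_mem hη.1 (inv_mem hζ.1), fun t ht =>
        (mul_mem hη (inv_mem hζ)).2 t (Finset.mem_of_mem_erase ht)⟩
    · rw [mul_apply, ← hζz, inv_app]
  have hvnot : v ∉ cls G (Δ.erase v') w' := by
    intro h
    obtain ⟨η, hη, hηv⟩ := mem_cls.mp h
    have h1 : η v = v := hη.2 v (Finset.mem_erase.mpr ⟨hvv, hv⟩)
    have h2 : w' = v := η.injective (hηv.trans h1.symm)
    exact hw' (h2 ▸ Finset.mem_erase.mpr ⟨hvv, hv⟩)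
  have h3 := Finset.card_le_card hsub
  rw [Finset.card_insert_of_notMem hvnot, hc] at h3
  omega

theorem card_eq_add_two (H : Hyp G j) (hjn : j < Fintype.card α) : Fintype.card α = j + 2 := by
  classical
  obtain ⟨A, -, hA⟩ := Finset.exists_subset_card_eq (s := (Finset.univ : Finset α)) (n := j)
    (by rw [Finset.card_univ]; omega)
  obtain ⟨w, -, hw⟩ := Finset.exists_mem_notMem_of_card_lt_card (s := A) (t := Finset.univ)
    (by rw [Finset.card_univ]; omega)
  obtain ⟨w', -, -, -, hn, -, -⟩ := opposite H hA hw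
  rcases Nat.lt_or_ge 1 (cls G A w).card with hlt | hge
  swap
  · have : 0 < (cls G A w).card := Finset.card_pos.mpr ⟨w, mem_cls.mpr (Same.refl _ _)⟩
    omega
  exfalso
  obtain ⟨z, hz, hzw⟩ := Finset.exists_mem_ne hlt w
  rw [mem_cls] at hz
  have hzA : z ∉ A := by
    obtain ⟨η, hη, rfl⟩ := hz
    exact fun hc => hw (by rwa [← η.injective (hη.2 _ hc)])
  set S := insert z (insert w A) with hS
  have hzS : z ∉ insert w A := by simp [hzw, hzA]
  have hSc : S.card = j + 2 := by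
    rw [hS, Finset.card_insert_of_notMem hzS, Finset.card_insert_of_notMem hw, hA]
  let R : α → α → Prop := fun p q => Same G ((S.erase q).erase p) p q
  have hsymm : ∀ {p q}, R p q → R q p := fun {p q} h => by
    show Same G ((S.erase p).erase q) q p
    rw [Finset.erase_right_comm]
    exact h.symm
  have hstep : ∀ {p p' q}, p ∈ S → p' ∈ S → q ∈ S → p ≠ q → p' ≠ q → R p q → R p' q := by
    intro p p' q hp hp' hq h1 h2 hR
    exact same_transfer H (Δ := S.erase q) (by rw [Finset.card_erase_of_mem hq, hSc]; omega)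
      (Finset.notMem_erase q S) (Finset.mem_erase.mpr ⟨h1, hp⟩) (Finset.mem_erase.mpr ⟨h2, hp'⟩) hR
  have hwS : w ∈ S := Finset.mem_insert_of_mem (Finset.mem_insert_self w A)
  have hzS' : z ∈ S := Finset.mem_insert_self z _
  have hbase : R w z := by
    show Same G ((S.erase z).erase w) w z
    rw [hS, Finset.erase_insert hzS, Finset.erase_insert hw]
    exact hz
  have hR : ∀ p ∈ S, ∀ q ∈ S, p ≠ q → R p q := by
    intro p hp q hq hpq
    rcases eq_or_ne q z with rfl | h1
    · exact hstep hwS hp hq (Ne.symm hzw) hpq hbase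
    rcases eq_or_ne p z with rfl | h2
    · exact hsymm (hstep hwS hq hp (Ne.symm hzw) (Ne.symm hpq) hbase)
    have h3 : R z p := hsymm (hstep hwS hp hzS' (Ne.symm hzw) h2 hbase)
    exact hsymm (hstep hzS' hq hp (Ne.symm h2) (Ne.symm hpq) h3)
  have h4 := H.four_le
  obtain ⟨a, ha, b, hb, hab⟩ := Finset.one_lt_card.mp (show 1 < S.card by omega)
  obtain ⟨c, hc⟩ := Finset.card_pos.mp (show 0 < ((S.erase a).erase b).card by
    rw [Finset.card_erase_of_mem (Finset.mem_erase.mpr ⟨hab.symm, hb⟩), Finset.card_erase_of_mem ha]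
    omega)
  simp only [Finset.mem_erase] at hc
  obtain ⟨hcb, hca, hcS⟩ := hc
  obtain ⟨z1, hz1, hz1'⟩ := hR a ha b hb hab
  obtain ⟨z2, hz2, hz2'⟩ := hR b hb c hcS (Ne.symm hcb)
  obtain ⟨z3, hz3, hz3'⟩ := hR a ha c hcS (Ne.symm hca)
  have hinv : ∀ t, t ∈ (S.erase c).erase a → z3⁻¹ t = t := fun t ht => (inv_mem hz3).2 t ht
  have h1c : z1 c = c := hz1.2 c (by simp [hca, hcb, hcS])
  have h2a : z2 a = a := hz2.2 a (by simp [hab, Ne.symm hca, ha])
  have h3b : z3⁻¹ b = b := hinv b (by simp [hab.symm, Ne.symm hcb, hb])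
  refine H.noSwap (S.erase c) (by rw [Finset.card_erase_of_mem hcS, hSc]; omega) (z3⁻¹ * z1 * z2)
    (mul_mem (mul_mem (inv_mem hz3.1) hz1.1) hz2.1) a (Finset.mem_erase.mpr ⟨Ne.symm hca, ha⟩)
    b (Finset.mem_erase.mpr ⟨Ne.symm hcb, hb⟩) hab ?_ ?_ ?_
  · rw [mul_apply, mul_apply, h2a, hz1', h3b]
  · rw [mul_apply, mul_apply, hz2', h1c, ← hz3', inv_app]
  · intro t ht h5 h6
    simp only [Finset.mem_erase] at ht
    rw [mul_apply, mul_apply, hz2.2 t (by simp [h6, ht.1, ht.2]), hz1.2 t (by simp [h5, h6, ht.2]),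
      hinv t (by simp [h5, ht.1, ht.2])]

/-- An `(n-2)`-transitive group that is not `n`-transitive is alternating. -/
theorem eq_alternating {m : ℕ} (hn : Fintype.card α = m + 2)
    (ht : MulAction.IsMultiplyPretransitive G α m) (hne : G ≠ ⊤) : G = alternatingGroup α := by
  have hge := Cfsg.Agent.Lib.Perm.card_embedding_le m ht (by rw [Nat.card_eq_fintype_card]; omega)
  have h1 := Nat.factorial_mul_descFactorial (show m ≤ Fintype.card α by omega)
  rw [show Fintype.card α - m = 2 by omega] at h1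
  have h2 : Nat.card (Perm α) = (Fintype.card α).factorial := by
    rw [Nat.card_eq_fintype_card, Fintype.card_perm]
  have h3 := G.index_mul_card
  rw [Nat.card_eq_fintype_card (α := α)] at hge
  rw [h2, ← h1] at h3
  have hidx1 : G.index ≠ 1 := fun e => hne (Subgroup.index_eq_one.mp e)
  have hidx0 : G.index ≠ 0 := Subgroup.index_ne_zero_of_finite
  have hle : G.index ≤ 2 := by
    by_contra hgt
    push Not at hgt
    have h4 : 3 * Nat.card G ≤ G.index * Nat.card G := Nat.mul_le_mul_right _ hgt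
    simp only [Nat.factorial_two] at h3
    have := Nat.card_pos (α := G)
    omega
  exact Equiv.Perm.eq_alternatingGroup_of_index_eq_two (by omega)

/-- The main theorem on `(j+1)`-homogeneous, `j`-transitive groups. -/
theorem main (hj : 4 ≤ j) (hjn : j + 1 ≤ Fintype.card α)
    (ht : MulAction.IsMultiplyPretransitive G α j)
    (hh : MulAction.IsPretransitive G (Set.powersetCard α (j + 1)))
    (hnt : ¬ MulAction.IsMultiplyPretransitive G α (j + 1)) :
    Fintype.card α = j + 2 ∧ G = alternatingGroup α := by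
  have hn := card_eq_add_two ⟨hj, kTrans_of_pretransitive ht, noSwap_of_homog hj (by omega) ht hh hnt⟩
    (by omega)
  refine ⟨hn, eq_alternating hn ht fun e => hnt ?_⟩
  subst e
  rw [MulAction.isMultiplyPretransitive_iff]
  intro x y
  obtain ⟨σ, hσ⟩ := ((MulAction.isMultiplyPretransitive_iff).mp
    (Equiv.Perm.isMultiplyPretransitive α (j + 1))) (x := x) (y := y)
  exact ⟨⟨σ, trivial⟩, hσ⟩

end Cfsg.Agent.Lib.Perm.HomogeneousSucc
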