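import Mathlib
import Cfsg.Agent.Lib.Perm.HomogeneousColour
import Cfsg.Agent.Lib.Perm.HomogeneousConfig
import Cfsg.Agent.Lib.Perm.HomogeneousFour
import Cfsg.Agent.Lib.Perm.HomogeneousSucc

/-!
# Homogeneous groups of small degree of transitivity: three and four
-/

set_option autoImplicit false
set_option linter.unusedSectionVars false

namespace Cfsg.Agent.Lib.Perm.HomogeneousSmall

open Equiv Equiv.Perm
open Cfsg.Agent.Lib.Perm.AltOnSubset Cfsg.Agent.Lib.Perm.HomogeneousColour
open Cfsg.Agent.Lib.Perm.HomogeneousConfig Cfsg.Agent.Lib.Perm.HomogeneousFour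

universe u

variable {α : Type u} [Fintype α] [DecidableEq α] {G : Subgroup (Perm α)}

theorem exists_injective {m : ℕ} (h : m ≤ Fintype.card α) : ∃ x : Fin m → α, Function.Injective x := by
  obtain ⟨x⟩ := Function.Embedding.nonempty_of_card_le (α := Fin m) (β := α) (by rwa [Fintype.card_fin])
  exact ⟨x, x.injective⟩

theorem ne_top_of_not_pretransitive {m : ℕ} (hh : MulAction.IsPretransitive G (Set.powersetCard α m))
    {r : Fin m → α} (hr : Function.Injective r) (hnt : ¬ MulAction.IsMultiplyPretransitive G α m) :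
    induced G r ≠ ⊤ := fun e => hnt (pretransitive_of_induced hh hr fun π => e ▸ Subgroup.mem_top π)

theorem col_right {m : ℕ} {r x : Fin m → α} {D : Perm (Fin m) → Prop} (π : Perm (Fin m))
    (hπ : ∀ σ, D σ → D (σ * π)) (h : Col G r D x) : Col G r D (x ∘ π) := by
  obtain ⟨g, hg, σ, hσ, hx⟩ := h
  exact ⟨g, hg, σ * π, hπ σ hσ, fun i => hx (π i)⟩

theorem perm2_cases : ∀ τ : Perm (Fin 2), τ 0 = 0 ∧ τ 1 = 1 ∨ τ 0 = 1 ∧ τ 1 = 0 := by decide +kernel

theorem perm3_cases : ∀ τ : Perm (Fin 3),
    τ 1 = τ 0 + 1 ∧ τ 2 = τ 0 + 2 ∨ τ 1 = τ 0 + 2 ∧ τ 2 = τ 0 + 1 := by decide +kernel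

/-- Degree three: transitive, two- and three-homogeneous groups that are not doubly transitive. -/
theorem three (ht : MulAction.IsMultiplyPretransitive G α 1)
    (hh2 : MulAction.IsPretransitive G (Set.powersetCard α 2))
    (hh3 : MulAction.IsPretransitive G (Set.powersetCard α 3))
    (hnt : ¬ MulAction.IsMultiplyPretransitive G α 2) (hn : 3 ≤ Fintype.card α) :
    Fintype.card α = 3 := by
  classical
  obtain ⟨r, hr⟩ := exists_injective (α := α) (m := 2) (by omega)
  obtain ⟨s, hs⟩ := exists_injective (α := α) (m := 3) hn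
  let R : α → α → Prop := fun a b => ∃ g ∈ G, g (r 0) = a ∧ g (r 1) = b
  have hne : ∀ {a b}, R a b → a ≠ b := by
    rintro a b ⟨g, -, h0, h1⟩ e
    rw [← h0, ← h1] at e
    exact absurd (hr (g.injective e)) (by decide)
  have htot : ∀ {a b : α}, a ≠ b → R a b ∨ R b a := by
    intro a b hab
    obtain ⟨g, hg, τ, hτ⟩ := exists_type hh2 hr (x := ![a, b]) (by
      intro i k h; fin_cases i <;> fin_cases k <;> simp_all [eq_comm])
    have h0 := hτ 0
    have h1 := hτ 1
    rcases (show τ 0 = 0 ∧ τ 1 = 1 ∨ τ 0 = 1 ∧ τ 1 = 0 from perm2_cases τ) with ⟨e0, e1⟩ | ⟨e0, e1⟩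
    · exact Or.inl ⟨g, hg, by rw [← e0]; exact h0, by rw [← e1]; exact h1⟩
    · exact Or.inr ⟨g, hg, by rw [← e1]; exact h1, by rw [← e0]; exact h0⟩
  have hanti : ∀ {a b}, R a b → ¬ R b a := by
    rintro a b ⟨g, hg, g0, g1⟩ ⟨h, hh, h0, h1⟩
    refine hnt (pretransitive_of_induced hh2 hr fun π => ?_)
    rcases (show π = 1 ∨ π = Equiv.swap 0 1 from by revert π; decide) with rfl | rfl
    · exact one_mem _
    refine ⟨g⁻¹ * h, mul_mem (inv_mem hg) hh, fun i => ?_⟩
    fin_cases i
    · show (g⁻¹ * h) (r 0) = r (Equiv.swap (0 : Fin 2) 1 0)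
      rw [Equiv.swap_apply_left, mul_apply, h0, ← g1, HomogeneousColour.inv_app]
    · show (g⁻¹ * h) (r 1) = r (Equiv.swap (0 : Fin 2) 1 1)
      rw [Equiv.swap_apply_right, mul_apply, h1, ← g0, HomogeneousColour.inv_app]
  have hR : ∀ {g}, g ∈ G → ∀ {a b}, R a b → R (g a) (g b) := by
    rintro g hg a b ⟨h, hh, h0, h1⟩
    exact ⟨g * h, mul_mem hg hh, by rw [mul_apply, h0], by rw [mul_apply, h1]⟩
  by_cases htr : ∀ a b c, R a b → R b c → R a c
  · exfalso
    let outs : α → Finset α := fun a => Finset.univ.filter (R a)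
    obtain ⟨m₀, -, hmax⟩ := Finset.exists_max_image Finset.univ (fun a => (outs a).card)
      ⟨r 0, Finset.mem_univ _⟩
    obtain ⟨b, hb⟩ := Fintype.exists_ne_of_one_lt_card (show 1 < Fintype.card α by omega) m₀
    have hbm : R m₀ b := by
      rcases htot (Ne.symm hb) with h | h
      · exact h
      exfalso
      have hsub : insert m₀ (outs m₀) ⊆ outs b := by
        intro c hc
        simp only [outs, Finset.mem_insert, Finset.mem_filter, Finset.mem_univ, true_and] at hc ⊢
        rcases hc with rfl | hc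
        · exact h
        · exact htr _ _ _ h hc
      have h1 := Finset.card_le_card hsub
      rw [Finset.card_insert_of_notMem (by simp only [outs, Finset.mem_filter, Finset.mem_univ, true_and]; exact fun e => hne e rfl)] at h1
      have h2 := hmax b (Finset.mem_univ b)
      omega
    obtain ⟨g, hg, hgm⟩ := exists_map ht (x := ![m₀]) (y := ![b]) (fun i k _ => Subsingleton.elim i k)
      (fun i k _ => Subsingleton.elim i k)
    have h1 : g m₀ = b := hgm 0
    have hsub : (outs m₀).image g ⊆ (outs m₀).erase b := by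
      intro c hc
      simp only [outs, Finset.mem_image, Finset.mem_filter, Finset.mem_univ, true_and] at hc
      obtain ⟨d, hd, rfl⟩ := hc
      have h2 : R b (g d) := h1 ▸ hR hg hd
      simp only [outs, Finset.mem_erase, Finset.mem_filter, Finset.mem_univ, true_and]
      exact ⟨(hne h2).symm, htr _ _ _ hbm h2⟩
    have h3 := Finset.card_le_card hsub
    rw [Finset.card_image_of_injective _ g.injective,
      Finset.card_erase_of_mem (by simp [outs, hbm])] at h3
    have : 0 < (outs m₀).card := Finset.card_pos.mpr ⟨b, by simp [outs, hbm]⟩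
    omega
  push Not at htr
  obtain ⟨a, b, c, hab, hbc, hac⟩ := htr
  have hca : R c a := (htot (fun e => hanti hab (e ▸ hbc) : a ≠ c)).resolve_left hac
  have hcyc : ∀ x y z, R x y → R y z → R z x := by
    intro x y z hxy hyz
    have hxz : x ≠ z := fun e => hanti hxy (e ▸ hyz)
    obtain ⟨g, hg, τ, hτ⟩ := exists_type hh3 (r := ![a, b, c]) (x := ![x, y, z]) (by
        have := hne hab; have := hne hbc; have := hne hca
        intro i k h; fin_cases i <;> fin_cases k <;> simp_all [eq_comm]) (by
        have := hne hxy; have := hne hyz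
        intro i k h; fin_cases i <;> fin_cases k <;> simp_all [eq_comm])
    have e0 : g (![a, b, c] (τ 0)) = x := hτ 0
    have e1 : g (![a, b, c] (τ 1)) = y := hτ 1
    have e2 : g (![a, b, c] (τ 2)) = z := hτ 2
    have hpos : τ 1 = τ 0 + 1 ∧ τ 2 = τ 0 + 2 := by
      have hor : τ 1 = τ 0 + 1 ∧ τ 2 = τ 0 + 2 ∨ τ 1 = τ 0 + 2 ∧ τ 2 = τ 0 + 1 := perm3_cases τ
      refine hor.resolve_right fun ⟨h1, h2⟩ => ?_
      have hxy' := hxy
      rw [← e0, ← e1, h1] at hxy'
      have hxy'' := hR (inv_mem hg) hxy'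
      rw [HomogeneousColour.inv_app, HomogeneousColour.inv_app] at hxy''
      generalize τ 0 = i at hxy''
      fin_cases i
      · exact hanti hca hxy''
      · exact hanti hab hxy''
      · exact hanti hbc hxy''
    rw [← e0, ← e2, hpos.2]
    refine hR hg ?_
    generalize τ 0 = i
    fin_cases i
    · exact hca
    · exact hab
    · exact hbc
  by_contra hne3
  have hone : ∀ p q q', R p q → R p q' → q = q' := by
    intro p q q' hpq hpq'
    by_contra hqq
    rcases htot hqq with h | h
    · exact hanti hpq' (hcyc _ _ _ hpq h)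
    · exact hanti hpq (hcyc _ _ _ hpq' h)
  have hone' : ∀ p q q', R q p → R q' p → q = q' := by
    intro p q q' hpq hpq'
    by_contra hqq
    rcases htot hqq with h | h
    · exact hanti hpq (hcyc _ _ _ h hpq')
    · exact hanti hpq' (hcyc _ _ _ h hpq)
  obtain ⟨w, -, hw⟩ := Finset.exists_mem_notMem_of_card_lt_card (s := ({a, b, c} : Finset α))
    (t := Finset.univ) (lt_of_le_of_lt Finset.card_le_three (by rw [Finset.card_univ]; omega))
  simp only [Finset.mem_insert, Finset.mem_singleton, not_or] at hw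
  rcases htot hw.1 with h | h
  · exact hw.2.2 (hone' a w c h hca)
  · exact hw.2.1 (hone a w b h hab)

theorem induced_eq_one_absurd (ht : MulAction.IsMultiplyPretransitive G α 2)
    (hh4 : MulAction.IsPretransitive G (Set.powersetCard α 4)) {r : Fin 3 → α}
    (hr : Function.Injective r) (hn : 4 ≤ Fintype.card α) : Nat.card (induced G r) ≠ 1 := by
  classical
  intro hone
  have hL : ∀ π ∈ induced G r, π = 1 := fun π hπ =>
    (Subgroup.eq_bot_iff_forall _).mp (Subgroup.card_eq_one.mp hone) π hπ
  obtain ⟨s, hs⟩ := exists_injective (α := α) (m := 4) hn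
  have hg : ∀ σ : Perm (Fin 3), ∃ g ∈ G, g (r (σ 0)) = r 0 ∧ g (r (σ 1)) = r 1 := by
    intro σ
    obtain ⟨g, hg, h⟩ := exists_map ht (x := (r ∘ σ) ∘ Fin.castSucc) (y := r ∘ Fin.castSucc)
      ((hr.comp σ.injective).comp (Fin.castSucc_injective 2)) (hr.comp (Fin.castSucc_injective 2))
    exact ⟨g, hg, h 0, h 1⟩
  choose g hgG hg0 hg1 using hg
  let z : Perm (Fin 3) → α := fun σ => g σ (r (σ 2))
  have key : ∀ (σ σ' : Perm (Fin 3)) (h : Perm α), h ∈ G →
      (∀ i, h (r (σ i)) = r (σ' i)) → σ = σ' := by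
    intro σ σ' h hh hi
    have h1 := hL (σ' * σ⁻¹) ⟨h, hh, fun i => by
      conv_lhs => rw [← show σ (σ⁻¹ i) = i from σ.apply_symm_apply i, hi]
      rfl⟩
    exact (mul_inv_eq_one.mp h1).symm
  have hz : ∀ σ, σ ≠ 1 → ∀ i, z σ ≠ r i := by
    intro σ hσ i e
    fin_cases i
    · exact absurd (σ.injective (hr ((g σ).injective (e.trans (hg0 σ).symm)))) (by decide)
    · exact absurd (σ.injective (hr ((g σ).injective (e.trans (hg1 σ).symm)))) (by decide)
    · refine hσ (key σ 1 (g σ) (hgG σ) fun k => ?_)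
      fin_cases k
      · exact hg0 σ
      · exact hg1 σ
      · exact e
  have htype : ∀ σ : {σ : Perm (Fin 3) // σ ≠ 1}, ∃ h ∈ G, ∃ τ : Perm (Fin 4),
      ∀ i, h (s (τ i)) = (Fin.snoc r (z σ.1) : Fin 4 → α) i := by
    intro σ
    refine exists_type hh4 hs fun i k h => ?_
    induction i using Fin.lastCases with
    | last =>
      induction k using Fin.lastCases with
      | last => rfl
      | cast k => simp at h; exact absurd h (hz σ.1 σ.2 k)
    | cast i =>
      induction k using Fin.lastCases with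
      | last => simp at h; exact absurd h.symm (hz σ.1 σ.2 i)
      | cast k => simp at h; rw [hr h]
  choose h hhG τ hτ using htype
  have hinj : Function.Injective fun σ => τ σ (Fin.last 3) := by
    intro σ σ' e
    have hmap : ∀ i, (h σ' * (h σ)⁻¹) ((Fin.snoc r (z σ.1) : Fin 4 → α) i) =
        (Fin.snoc r (z σ'.1) : Fin 4 → α) ((τ σ')⁻¹ (τ σ i)) := by
      intro i
      rw [mul_apply, ← hτ σ i, HomogeneousColour.inv_app, ← hτ σ',
        show τ σ' ((τ σ')⁻¹ (τ σ i)) = τ σ i from (τ σ').apply_symm_apply _]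
    have hlast : (τ σ')⁻¹ (τ σ (Fin.last 3)) = Fin.last 3 := by
      have e' : τ σ (Fin.last 3) = τ σ' (Fin.last 3) := e
      rw [e']; exact (τ σ').symm_apply_apply _
    have hfz : (h σ' * (h σ)⁻¹) (z σ.1) = z σ'.1 := by
      have h1 := hmap (Fin.last 3)
      rw [hlast, Fin.snoc_last, Fin.snoc_last] at h1
      exact h1
    have hex : ∀ i : Fin 3, ∃ l : Fin 3, (τ σ')⁻¹ (τ σ i.castSucc) = l.castSucc := by
      intro i
      refine ⟨((τ σ')⁻¹ (τ σ i.castSucc)).castPred fun e1 => ?_, (Fin.castSucc_castPred _ _).symm⟩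
      exact (Fin.castSucc_lt_last i).ne ((τ σ).injective ((τ σ')⁻¹.injective (e1.trans hlast.symm)))
    choose f hf using hex
    have hfr : ∀ i, (h σ' * (h σ)⁻¹) (r i) = r (f i) := fun i => by
      have h1 := hmap i.castSucc
      rwa [hf, Fin.snoc_castSucc, Fin.snoc_castSucc] at h1
    have hfi : Function.Injective f := fun i k e1 => hr ((h σ' * (h σ)⁻¹).injective (by rw [hfr, hfr, e1]))
    have hfix : ∀ i, f i = i := by
      have h1 := hL (Equiv.ofBijective f ((Fintype.bijective_iff_injective_and_card f).mpr ⟨hfi, rfl⟩))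
        ⟨_, mul_mem (hhG σ') (inv_mem (hhG σ)), fun i => by simpa using hfr i⟩
      intro i
      simpa using DFunLike.congr_fun h1 i
    refine Subtype.ext (key σ.1 σ'.1 ((g σ'.1)⁻¹ * (h σ' * (h σ)⁻¹) * g σ.1)
      (mul_mem (mul_mem (inv_mem (hgG _)) (mul_mem (hhG σ') (inv_mem (hhG σ)))) (hgG _)) fun i => ?_)
    rw [mul_apply ((g σ'.1)⁻¹ * (h σ' * (h σ)⁻¹)), mul_apply ((g σ'.1)⁻¹), inv_eq_iff_eq]
    fin_cases i
    · exact ((congrArg _ (hg0 σ.1)).trans ((hfr 0).trans (congrArg r (hfix 0)))).trans (hg0 σ'.1).symm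
    · exact ((congrArg _ (hg1 σ.1)).trans ((hfr 1).trans (congrArg r (hfix 1)))).trans (hg1 σ'.1).symm
    · exact hfz
  have hc := Fintype.card_le_of_injective _ hinj
  simp only [Fintype.card_subtype_compl, Fintype.card_subtype_eq, Fintype.card_perm, Fintype.card_fin] at hc
  exact absurd hc (by decide)

theorem count_double4 {r : Fin 3 → α} {D : Perm (Fin 3) → Prop} {s : Fin 4 → α}
    (hs : Function.Injective s) {P : ℕ → ℕ → ℕ → Bool}
    (hP : ∀ v : Fin 3 → Fin 4, Function.Injective v →
      (Col G r D (s ∘ v) ↔ P (v 0) (v 1) (v 2) = true)) :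
    Nat.card {σ : Perm (Fin 4) // Double (Col G r D) (s ∘ σ)} = orders4.countP (both4 P) := by
  refine card_perm4 _ fun σ => ?_
  have hne : s (σ (Fin.last 2).castSucc) ≠ s (σ (Fin.last 3)) :=
    fun e => absurd (σ.injective (hs e)) (by decide)
  rw [Double, Function.comp_assoc, Function.comp_assoc,
    hP _ (σ.injective.comp (Fin.castSucc_injective _)),
    hP _ (σ.injective.comp Fin.succAbove_right_injective), vals4, both4, Bool.and_eq_true]
  exact ⟨fun h => ⟨h.1, h.2.1⟩, fun h => ⟨h.1, h.2, hne⟩⟩

/-- Degree four: doubly transitive, three- and four-homogeneous groups that are not triply transitive. -/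
theorem four (ht : MulAction.IsMultiplyPretransitive G α 2)
    (hh3 : MulAction.IsPretransitive G (Set.powersetCard α 3))
    (hh4 : MulAction.IsPretransitive G (Set.powersetCard α 4))
    (hnt : ¬ MulAction.IsMultiplyPretransitive G α 3) (hn : 5 ≤ Fintype.card α) :
    Fintype.card α = 5 ∧ Nat.card G = 20 := by
  classical
  obtain ⟨r₀, hr₀⟩ := exists_injective (α := α) (m := 3) (by omega)
  obtain ⟨s, hs⟩ := exists_injective (α := α) (m := 4) (by omega)
  rcases classify3 _ (ne_top_of_not_pretransitive hh3 hr₀ hnt) with h1 | hA | ⟨p, hp⟩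
  · exact absurd h1 (induced_eq_one_absurd ht hh4 hr₀ (by omega))
  · exfalso
    obtain ⟨e, -, he1, he2⟩ := colour_equations ht hh3 hh4 hr₀ (D := Even3)
      (fun l hl σ hσ => (even3_mul l σ).mpr ⟨fun _ => hσ, fun _ => hA l hl⟩) hs
    obtain ⟨t, ht', hmodel⟩ := orient4_model hh3 hr₀ hA hs
    rw [card_even3, show (2 + 1 : ℕ).factorial = 6 from rfl] at he1
    rw [count_double4 hs hmodel, show (2 + 2 : ℕ).factorial = 24 from rfl] at he2
    have hc := orient4_count t ht'
    set N := orders4.countP (both4 (orient4 t))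
    rw [show Fintype.card α - 2 = 2 * e by omega, show Fintype.card α - (2 + 1) = 2 * e - 1 by omega] at he2
    have h3 : 24 * (e - 1) = N * ((2 * e - 1) * 2) := by
      apply Nat.eq_of_mul_eq_mul_left (show 0 < e by omega)
      linarith
    simp only [List.mem_cons, List.not_mem_nil, or_false] at hc
    rcases hc with hN | hN | hN <;> rw [hN] at h3 <;> omega
  · set ρ : Perm (Fin 3) := Equiv.swap 0 p with hρ
    set r := r₀ ∘ ⇑ρ⁻¹ with hr'
    have hr : Function.Injective r := hr₀.comp ρ⁻¹.injective
    have hD : ∀ l ∈ induced G r, ∀ σ : Perm (Fin 3), σ 0 = 0 → (l * σ) 0 = 0 := by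
      intro l hl σ hσ
      have h := hp _ (induced_relabel hr₀ ρ l hl)
      rw [mul_apply, mul_apply, show ρ p = 0 from Equiv.swap_apply_right 0 p, hρ, Equiv.swap_inv] at h
      rw [mul_apply, hσ]
      exact (Equiv.swap 0 p).injective (h.trans (Equiv.swap_apply_left 0 p).symm)
    obtain ⟨e, hext, he1, he2⟩ := colour_equations ht hh3 hh4 hr (D := fun σ : Perm (Fin 3) => σ 0 = 0) hD hs
    rw [card_fix3, show (2 + 1 : ℕ).factorial = 6 from rfl] at he1
    rw [show (2 + 2 : ℕ).factorial = 24 from rfl] at he2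
    set N := Nat.card {σ : Perm (Fin 4) // Double (Col G r fun σ : Perm (Fin 3) => σ 0 = 0) (s ∘ σ)}
    rw [show Fintype.card α - 2 = 3 * e by omega, show Fintype.card α - (2 + 1) = 3 * e - 1 by omega] at he2
    have h3 : 24 * (e - 1) = N * ((3 * e - 1) * 3) := by
      apply Nat.eq_of_mul_eq_mul_left (show 0 < e by omega)
      linarith
    have hN : N ≤ 2 := by
      by_contra hN
      push Not at hN
      have h4 : 3 * ((3 * e - 1) * 3) ≤ N * ((3 * e - 1) * 3) := Nat.mul_le_mul_right _ hN
      omega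
    set P := Col G r (fun σ : Perm (Fin 3) => σ 0 = 0) with hPdef
    have hP : Invariant G P := col_invariant r _
    have he13 : e = 1 ∨ e = 3 := by
      rcases (show N = 0 ∨ N = 1 ∨ N = 2 by omega) with hN | hN | hN <;> rw [hN] at h3 <;> omega
    rcases he13 with rfl | rfl
    · refine ⟨by omega, ?_⟩
      obtain ⟨x, hx⟩ := exists_injective (α := α) (m := 2) (by omega)
      rw [card_group_transitive ht hx, show Fintype.card α = 5 by omega,
        show (5 : ℕ).descFactorial 2 = 20 from rfl]
      suffices h : fixer G (Finset.univ.image x) = ⊥ by rw [h, Subgroup.card_bot]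
      refine (Subgroup.eq_bot_iff_forall _).mpr fun f hf => ?_
      have hx' : Function.Injective (x ∘ ⇑(Equiv.swap (0 : Fin 2) 1)) := hx.comp (Equiv.injective _)
      obtain ⟨c, hc⟩ := Finset.card_eq_one.mp (hext x hx)
      obtain ⟨c', hc'⟩ := Finset.card_eq_one.mp (hext _ hx')
      have hfx : ∀ i, f (x i) = x i := fun i => hf.2 _ (Finset.mem_image_of_mem x (Finset.mem_univ i))
      have hfix : ∀ (y : Fin 2 → α) (d : α), (∀ i, f (y i) = y i) → ext1 P y = {d} → f d = d := by
        intro y d hy hd
        have h := ext1_image hP hf.1 y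
        rw [funext hy, hd, Finset.image_singleton, Finset.singleton_inj] at h
        exact h.symm
      have hfc := hfix x c hfx hc
      have hfc' := hfix _ c' (fun i => hfx _) hc'
      have hmem : P (Fin.snoc x c) := mem_ext1.mp (by rw [hc]; exact Finset.mem_singleton_self c)
      have hmem' : P (Fin.snoc (x ∘ ⇑(Equiv.swap (0 : Fin 2) 1)) c') :=
        mem_ext1.mp (by rw [hc']; exact Finset.mem_singleton_self c')
      have hinjc := col_injective hr hmem
      have hinjc' := col_injective hr hmem'
      have hcc : c ≠ c' := by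
        rintro rfl
        obtain ⟨g, hg, τ, hτ, hgx⟩ := hmem
        have hswap : (Fin.snoc (x ∘ ⇑(Equiv.swap (0 : Fin 2) 1)) c : Fin 3 → α) =
            (Fin.snoc x c : Fin 3 → α) ∘ ⇑(Equiv.swap (0 : Fin 3) 1) := by
          funext i
          fin_cases i <;> rfl
        rw [hPdef, hswap, col_comp_iff hr hD hg hgx, mul_apply, Equiv.swap_apply_left] at hmem'
        exact absurd (τ.injective (hmem'.trans hτ.symm)) (by decide)
      have hcx : ∀ i, c ≠ x i := fun i e => by
        have h := @hinjc (Fin.last 2) i.castSucc (by rw [Fin.snoc_last, Fin.snoc_castSucc]; exact e)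
        exact (Fin.castSucc_lt_last i).ne h.symm
      have hcx' : ∀ i, c' ≠ x i := fun i e => by
        have h := @hinjc' (Fin.last 2) ((Equiv.swap (0 : Fin 2) 1) i).castSucc (by rw [Fin.snoc_last, Fin.snoc_castSucc, Function.comp_apply, Equiv.swap_apply_self]; exact e)
        exact (Fin.castSucc_lt_last _).ne h.symm
      set S : Finset α := insert c (insert c' (Finset.univ.image x)) with hS
      have hScard : S.card = 4 := by
        rw [hS, Finset.card_insert_of_notMem, Finset.card_insert_of_notMem,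
          Finset.card_image_of_injective _ hx, Finset.card_univ, Fintype.card_fin]
        · simp only [Finset.mem_image, Finset.mem_univ, true_and, not_exists]
          exact fun i => (hcx' i).symm
        · simp only [Finset.mem_insert, Finset.mem_image, Finset.mem_univ, true_and, not_or, not_exists]
          exact ⟨hcc, fun i => (hcx i).symm⟩
      have hfS : ∀ y ∈ S, f y = y := by
        intro y hy
        simp only [hS, Finset.mem_insert, Finset.mem_image, Finset.mem_univ, true_and] at hy
        rcases hy with rfl | rfl | ⟨i, rfl⟩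
        · exact hfc
        · exact hfc'
        · exact hfx i
      refine Equiv.ext fun y => ?_
      rw [one_apply]
      by_contra hy
      have hy1 : y ∉ S := fun h => hy (hfS y h)
      have hy2 : f y ∉ S := fun h => hy (f.injective (hfS _ h))
      have h5 := Finset.card_le_univ (insert (f y) (insert y S))
      rw [Finset.card_insert_of_notMem (by simp [hy, hy2]), Finset.card_insert_of_notMem hy1, hScard] at h5
      omega
    · exfalso
      have hinjP : ∀ x, P x → Function.Injective x := fun x => col_injective hr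
      let F : {x : Fin 2 → α // Function.Injective x} → {T : Finset α // T.card = 4} := fun x =>
        ⟨insert (x.1 0) (ext1 P x.1), by
          rw [Finset.card_insert_of_notMem, hext x.1 x.2]
          intro h
          have h' := @hinjP _ (mem_ext1.mp h) (Fin.last 2) (0 : Fin 2).castSucc (by rw [Fin.snoc_last, Fin.snoc_castSucc])
          exact (Fin.castSucc_lt_last (0 : Fin 2)).ne h'.symm⟩
      obtain ⟨x₀, hx₀⟩ := exists_injective (α := α) (m := 2) (by omega)
      have hsurj : Function.Surjective F := by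
        intro T
        obtain ⟨g, hg⟩ := hh4.exists_smul_eq ⟨(F ⟨x₀, hx₀⟩).1, (F ⟨x₀, hx₀⟩).2⟩ ⟨T.1, T.2⟩
        have hgT : (F ⟨x₀, hx₀⟩).1.image (g : Perm α) = T.1 := congrArg Subtype.val hg
        refine ⟨⟨fun i => (g : Perm α) (x₀ i), g.1.injective.comp hx₀⟩, Subtype.ext ?_⟩
        rw [← hgT]
        show insert _ (ext1 P fun i => (g : Perm α) (x₀ i)) = (insert _ _ : Finset α).image _
        rw [ext1_image hP g.2, Finset.image_insert]
      have h5 := Nat.card_le_card_of_surjective F hsurj
      rw [card_injective, Nat.card_eq_fintype_card, Fintype.card_finset_len,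
        show Fintype.card α = 11 by omega] at h5
      exact absurd h5 (by decide)

end Cfsg.Agent.Lib.Perm.HomogeneousSmall
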