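import Mathlib
import Cfsg.Agent.Lib.Perm.HomogeneousSmallThree
import Cfsg.Agent.Lib.Perm.SharplyThree
import Cfsg.Agent.Lib.Perm.HalfTransitiveWielandt

/-!
# Homogeneous groups of small degree of transitivity: five
-/

set_option autoImplicit false
set_option linter.unusedSectionVars false

namespace Cfsg.Agent.Lib.Perm.HomogeneousSmall

open Equiv Equiv.Perm
open Cfsg.Agent.Lib.Perm.AltOnSubset Cfsg.Agent.Lib.Perm.HomogeneousColour
open Cfsg.Agent.Lib.Perm.HomogeneousConfig Cfsg.Agent.Lib.Perm.HomogeneousFour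

universe u

variable {α : Type u} [Fintype α] [DecidableEq α] {G : Subgroup (Perm α)}

theorem count_double5 {r : Fin 4 → α} {D : Perm (Fin 4) → Prop} {s : Fin 5 → α}
    (hs : Function.Injective s) {P : ℕ → ℕ → ℕ → ℕ → Bool}
    (hP : ∀ v : Fin 4 → Fin 5, Function.Injective v →
      (Col G r D (s ∘ v) ↔ P (v 0) (v 1) (v 2) (v 3) = true)) :
    Nat.card {σ : Perm (Fin 5) // Double (Col G r D) (s ∘ σ)} = orders5.countP (both5 P) := by
  refine card_perm5 _ fun σ => ?_
  have hne : s (σ (Fin.last 3).castSucc) ≠ s (σ (Fin.last 4)) :=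
    fun e => absurd (σ.injective (hs e)) (by decide)
  rw [Double, Function.comp_assoc, Function.comp_assoc,
    hP _ (σ.injective.comp (Fin.castSucc_injective _)),
    hP _ (σ.injective.comp Fin.succAbove_right_injective), vals5, both5, Bool.and_eq_true]
  exact ⟨fun h => ⟨h.1, h.2.1⟩, fun h => ⟨h.1, h.2, hne⟩⟩

theorem induced_preserves {m k : ℕ} {r : Fin m → α} {D : Perm (Fin m) → Prop} {s : Fin k → α}
    {σ : Perm (Fin k)} (hσ : σ ∈ induced G s) (v : Fin m → Fin k) :
    Col G r D (s ∘ (σ ∘ v)) ↔ Col G r D (s ∘ v) := by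
  obtain ⟨g, hg, hgs⟩ := hσ
  rw [show s ∘ (σ ∘ v) = fun i => g ((s ∘ v) i) from funext fun i => (hgs (v i)).symm]
  exact (col_invariant r D).iff hg _

theorem card_induced_le_paired {r : Fin 4 → α} (hr : Function.Injective r)
    (hh : MulAction.IsPretransitive G (Set.powersetCard α 4)) (hL : ∀ l ∈ induced G r, Pair4 l)
    {s : Fin 5 → α} (hs : Function.Injective s) :
    ∃ t < 243, Nat.card {σ : Perm (Fin 5) // Double (Col G r Pair4) (s ∘ σ)} =
        orders5.countP (both5 (paired5 t)) ∧
      Nat.card (induced G s) ≤ orders5.countP (keepsPaired t) := by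
  obtain ⟨t, ht, hmodel⟩ := paired5_model hh hr hL hs
  refine ⟨t, ht, count_double5 hs hmodel, ?_⟩
  rw [← card_perm5 (keepsPaired t) (Ψ := fun σ => keepsPaired t (vals5 σ) = true) fun σ => Iff.rfl]
  refine Nat.card_le_card_of_injective (fun σ => ⟨σ.1, ?_⟩)
    fun a b h => Subtype.ext (Subtype.mk.inj h)
  obtain ⟨σ, hσ⟩ := σ
  have hinv : ∀ a b c d : Fin 5, Function.Injective ![a, b, c, d] →
      paired5 t (σ a) (σ b) (σ c) (σ d) = paired5 t a b c d := by
    intro a b c d hinj
    rw [Bool.eq_iff_iff]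
    exact ((hmodel (σ ∘ ![a, b, c, d]) (σ.injective.comp hinj)).symm.trans
      (induced_preserves hσ ![a, b, c, d])).trans (hmodel _ hinj)
  have hrep : ∀ (x : ℕ) (a b c d : Fin 5), Function.Injective ![a, b, c, d] →
      Function.Injective ![a, c, b, d] → Function.Injective ![a, d, b, c] →
      repPair (paired5 t) x (σ a) (σ b) (σ c) (σ d) = repPair (paired5 t) x a b c d := by
    intro x a b c d h1 h2 h3
    unfold repPair
    split_ifs
    · exact hinv _ _ _ _ h1
    · exact hinv _ _ _ _ h2
    · exact hinv _ _ _ _ h3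
  have h := keepsPaired_refl t ht
  show keepsPaired t (vals5 σ) = true
  simp only [vals5, keepsPaired] at h ⊢
  rw [hrep _ 1 2 3 4 (by decide) (by decide) (by decide), hrep _ 0 2 3 4 (by decide) (by decide) (by decide),
    hrep _ 0 1 3 4 (by decide) (by decide) (by decide), hrep _ 0 1 2 4 (by decide) (by decide) (by decide),
    hrep _ 0 1 2 3 (by decide) (by decide) (by decide)]
  exact h

theorem orient_induced_le {r : Fin 4 → α} (hr : Function.Injective r)
    (hh : MulAction.IsPretransitive G (Set.powersetCard α 4)) (hL : ∀ l ∈ induced G r, Even4 l)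
    {s : Fin 5 → α} (hs : Function.Injective s) :
    ∃ N, Nat.card {σ : Perm (Fin 5) // Double (Col G r Even4) (s ∘ σ)} = N ∧
      (N = 0 ∨ N = 36 ∨ (N = 24 ∧ Nat.card (induced G s) ≤ Nat.card (induced G r))) := by
  obtain ⟨t, ht, hmodel⟩ := orient5_model hh hr hL hs
  refine ⟨_, count_double5 hs hmodel, ?_⟩
  rcases orient5_count t ht with h | ⟨h24, i, hi, hall⟩
  · simp only [List.mem_cons, List.not_mem_nil, or_false] at h
    rcases h with h | h
    · exact Or.inl h
    · exact Or.inr (Or.inl h)
  refine Or.inr (Or.inr ⟨h24, ?_⟩)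
  set i₀ : Fin 5 := ⟨i, hi⟩ with hi₀
  have hfix : ∀ σ ∈ induced G s, σ i₀ = i₀ := by
    intro σ hσ
    have hinv : ∀ a b c d : Fin 5, Function.Injective ![a, b, c, d] →
        orient5 t (σ a) (σ b) (σ c) (σ d) = orient5 t a b c d := by
      intro a b c d hinj
      rw [Bool.eq_iff_iff]
      exact ((hmodel (σ ∘ ![a, b, c, d]) (σ.injective.comp hinj)).symm.trans
        (induced_preserves hσ ![a, b, c, d])).trans (hmodel _ hinj)
    have hkeep : keepsOrient t (vals5 σ) = true := by
      simp only [vals5, keepsOrient]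
      rw [hinv 1 2 3 4 (by decide), hinv 0 2 3 4 (by decide), hinv 0 1 3 4 (by decide),
        hinv 0 1 2 4 (by decide), hinv 0 1 2 3 (by decide)]
      simp
    have hmem : vals5 σ ∈ orders5 := by
      have h : ∀ i j : Fin 5, i ≠ j → σ i ≠ σ j := fun i j => σ.injective.ne
      exact mem_orders5 _ _ (h 0 1 (by decide)) _ (h 0 2 (by decide)) (h 1 2 (by decide))
        _ (h 0 3 (by decide)) (h 1 3 (by decide)) (h 2 3 (by decide))
        _ (h 0 4 (by decide)) (h 1 4 (by decide)) (h 2 4 (by decide)) (h 3 4 (by decide))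
    have h1 := List.all_eq_true.mp hall _ hmem
    rw [hkeep, Bool.not_true, Bool.false_or, beq_iff_eq] at h1
    apply Fin.ext
    obtain ⟨j, rfl⟩ : ∃ j : Fin 5, i = (j : ℕ) := ⟨i₀, rfl⟩
    fin_cases j <;> exact h1
  have hex : ∀ σ : induced G s, ∃ π : Perm (Fin 4), π ∈ induced G (s ∘ i₀.succAbove) ∧
      ∀ j, σ.1 (i₀.succAbove j) = i₀.succAbove (π j) := by
    rintro ⟨σ, hσ⟩
    have h : ∀ j, ∃ l, i₀.succAbove l = σ (i₀.succAbove j) := fun j => Fin.exists_succAbove_eq fun e =>
      Fin.succAbove_ne i₀ j (σ.injective (e.trans (hfix σ hσ).symm))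
    choose f hf using h
    have hfi : Function.Injective f := fun a b e =>
      Fin.succAbove_right_injective (σ.injective (by rw [← hf, ← hf, e]))
    refine ⟨Equiv.ofBijective f ((Fintype.bijective_iff_injective_and_card f).mpr ⟨hfi, rfl⟩), ?_,
      fun j => (hf j).symm⟩
    obtain ⟨g, hg, hgs⟩ := hσ
    exact ⟨g, hg, fun j => by simp [hgs, hf j]⟩
  choose π hπ hπσ using hex
  rw [← card_induced_eq hh hr (x := s ∘ i₀.succAbove) (hs.comp Fin.succAbove_right_injective)]
  refine Nat.card_le_card_of_injective (fun σ => ⟨π σ, hπ σ⟩) fun a b h => Subtype.ext (Equiv.ext fun j => ?_)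
  have h' : π a = π b := congrArg Subtype.val h
  rcases eq_or_ne j i₀ with rfl | hj
  · rw [hfix _ a.2, hfix _ b.2]
  · obtain ⟨l, rfl⟩ := Fin.exists_succAbove_eq hj
    rw [hπσ, hπσ, h']

theorem fixer_insert_eq {Y : Finset α} {z : α}
    (h : Nat.card (fixer G Y) ≤ Nat.card (fixer G (insert z Y))) : ∀ g ∈ fixer G Y, g z = z := by
  have hle : fixer G (insert z Y) ≤ fixer G Y := fun g hg =>
    ⟨hg.1, fun t ht => hg.2 t (Finset.mem_insert_of_mem ht)⟩
  have he := Subgroup.eq_of_le_of_card_ge hle h
  exact fun g hg => (he.symm ▸ hg : g ∈ fixer G (insert z Y)).2 z (Finset.mem_insert_self z Y)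

theorem eq_bot_of_insert {Y : Finset α}
    (h : ∀ z, z ∉ Y → Nat.card (fixer G Y) ≤ Nat.card (fixer G (insert z Y))) : fixer G Y = ⊥ :=
  (Subgroup.eq_bot_iff_forall _).mpr fun g hg => Equiv.ext fun z => by
    by_cases hz : z ∈ Y
    · exact hg.2 z hz
    · exact fixer_insert_eq (h z hz) g hg

theorem four_dvd_closed {β : Type*} [Fintype β] (S : β → Prop) (p q : β → β)
    (hp : ∀ x, p (p x) = x) (hq : ∀ x, q (q x) = x) (hpq : ∀ x, p (q x) = q (p x))
    (A B : β → Prop) [DecidablePred A] [DecidablePred B]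
    (hA : ∀ x, A (p x) ↔ ¬ A x) (hB : ∀ x, B (q x) ↔ ¬ B x) (hAq : ∀ x, A (q x) ↔ A x)
    (hSp : ∀ x, S x → S (p x)) (hSq : ∀ x, S x → S (q x)) : 4 ∣ Nat.card {x // S x} := by
  classical
  set T : Finset β := Finset.univ.filter S with hT
  have h1 : (T.filter fun x => ¬ A x).card = (T.filter A).card :=
    Finset.card_bij' (fun x _ => p x) (fun x _ => p x)
      (fun x hx => by
        simp only [hT, Finset.mem_filter, Finset.mem_univ, true_and] at hx ⊢
        exact ⟨hSp x hx.1, (hA x).mpr hx.2⟩)
      (fun x hx => by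
        simp only [hT, Finset.mem_filter, Finset.mem_univ, true_and] at hx ⊢
        exact ⟨hSp x hx.1, fun h => (hA x).mp h hx.2⟩)
      (fun x _ => hp x) (fun x _ => hp x)
  have h2 : ((T.filter A).filter fun x => ¬ B x).card = ((T.filter A).filter B).card :=
    Finset.card_bij' (fun x _ => q x) (fun x _ => q x)
      (fun x hx => by
        simp only [hT, Finset.mem_filter, Finset.mem_univ, true_and] at hx ⊢
        exact ⟨⟨hSq x hx.1.1, (hAq x).mpr hx.1.2⟩, (hB x).mpr hx.2⟩)
      (fun x hx => by
        simp only [hT, Finset.mem_filter, Finset.mem_univ, true_and] at hx ⊢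
        exact ⟨⟨hSq x hx.1.1, (hAq x).mpr hx.1.2⟩, fun h => (hB x).mp h hx.2⟩)
      (fun x _ => hq x) (fun x _ => hq x)
  have h3 := Finset.card_filter_add_card_filter_not (s := T) A
  have h4 := Finset.card_filter_add_card_filter_not (s := T.filter A) B
  rw [Nat.card_eq_fintype_card, Fintype.card_subtype, ← hT]
  omega

theorem four_dvd_count_fix {r : Fin 4 → α} (s : Fin 5 → α) :
    4 ∣ Nat.card {σ : Perm (Fin 5) //
      Double (Col G r fun σ : Perm (Fin 4) => σ 0 = 0) (s ∘ σ)} := by
  have hD : ∀ π : Perm (Fin 4), π 0 = 0 → ∀ σ : Perm (Fin 4), σ 0 = 0 → (σ * π) 0 = 0 :=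
    fun π hπ σ hσ => by rw [mul_apply, hπ, hσ]
  refine four_dvd_closed _ (fun σ : Perm (Fin 5) => σ * Equiv.swap 1 2) (fun σ => σ * Equiv.swap 3 4)
    (fun σ => by simp [mul_assoc]) (fun σ => by simp [mul_assoc]) (fun σ => ?_)
    (fun σ : Perm (Fin 5) => σ 1 < σ 2) (fun σ : Perm (Fin 5) => σ 3 < σ 4)
    (fun σ => ?_) (fun σ => ?_) (fun σ => ?_) (fun σ h => ?_) (fun σ h => ?_)
  · show σ * Equiv.swap 3 4 * Equiv.swap 1 2 = σ * Equiv.swap 1 2 * Equiv.swap 3 4
    rw [mul_assoc, mul_assoc]
    congr 1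
    decide
  · have hne : σ 1 ≠ σ 2 := σ.injective.ne (by decide)
    show σ (Equiv.swap (1 : Fin 5) 2 1) < σ (Equiv.swap (1 : Fin 5) 2 2) ↔ _
    rw [Equiv.swap_apply_left, Equiv.swap_apply_right, not_lt]
    exact ⟨le_of_lt, fun h => lt_of_le_of_ne h hne.symm⟩
  · have hne : σ 3 ≠ σ 4 := σ.injective.ne (by decide)
    show σ (Equiv.swap (3 : Fin 5) 4 3) < σ (Equiv.swap (3 : Fin 5) 4 4) ↔ _
    rw [Equiv.swap_apply_left, Equiv.swap_apply_right, not_lt]
    exact ⟨le_of_lt, fun h => lt_of_le_of_ne h hne.symm⟩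
  · exact Iff.rfl
  · obtain ⟨h1, h2, h3⟩ := h
    have e1 : (s ∘ ⇑(σ * Equiv.swap 1 2 : Perm (Fin 5))) ∘ Fin.castSucc =
        ((s ∘ σ) ∘ Fin.castSucc) ∘ ⇑(Equiv.swap (1 : Fin 4) 2) := by
      funext i; fin_cases i <;> rfl
    have e2 : (s ∘ ⇑(σ * Equiv.swap 1 2 : Perm (Fin 5))) ∘ (Fin.last 3).castSucc.succAbove =
        ((s ∘ σ) ∘ (Fin.last 3).castSucc.succAbove) ∘ ⇑(Equiv.swap (1 : Fin 4) 2) := by
      funext i; fin_cases i <;> rfl
    refine ⟨e1 ▸ col_right _ (hD _ (by decide)) h1, e2 ▸ col_right _ (hD _ (by decide)) h2, ?_⟩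
    exact h3
  · obtain ⟨h1, h2, h3⟩ := h
    have e1 : (s ∘ ⇑(σ * Equiv.swap 3 4 : Perm (Fin 5))) ∘ Fin.castSucc =
        (s ∘ σ) ∘ (Fin.last 3).castSucc.succAbove := by
      funext i; fin_cases i <;> rfl
    have e2 : (s ∘ ⇑(σ * Equiv.swap 3 4 : Perm (Fin 5))) ∘ (Fin.last 3).castSucc.succAbove =
        (s ∘ σ) ∘ Fin.castSucc := by
      funext i; fin_cases i <;> rfl
    exact ⟨e1 ▸ h2, e2 ▸ h1, fun e => h3 e.symm⟩

theorem exists_snoc {m : ℕ} {Y : Finset α} (hY : Y.card = m) {z : α} (hz : z ∉ Y) :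
    ∃ s : Fin (m + 1) → α, Function.Injective s ∧ Finset.univ.image s = insert z Y := by
  have hc : (insert z Y).card = m + 1 := by rw [Finset.card_insert_of_notMem hz, hY]
  refine ⟨fun i => ((Finset.equivFinOfCardEq hc).symm i).1,
    Subtype.val_injective.comp (Equiv.injective _), ?_⟩
  ext a
  simp only [Finset.mem_image, Finset.mem_univ, true_and]
  exact ⟨fun ⟨i, hi⟩ => hi ▸ Subtype.prop _, fun h => ⟨Finset.equivFinOfCardEq hc ⟨a, h⟩, by simp⟩⟩

/-- The sharply triply transitive case of degree seven is impossible. -/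
theorem not_sharp_seven (ht : MulAction.IsMultiplyPretransitive G α 3) (hn : Fintype.card α = 7)
    (h1 : ∀ T : Finset α, T.card = 3 → fixer G T = ⊥) : False := by
  obtain ⟨p⟩ : Nonempty α := Fintype.card_pos_iff.mp (by omega)
  obtain ⟨T, ℓ, j, -, hℓ, hj, hcard, -⟩ := SharplyThree.exists_isKernel ht (fun x => by
    rw [Subgroup.eq_bot_iff_forall]
    intro g hg
    have hmem : (g : Perm α) ∈ fixer G (Finset.univ.map x) := ⟨g.2, fun t ht => by
      obtain ⟨i, -, rfl⟩ := Finset.mem_map.mp ht
      exact DFunLike.congr_fun (MulAction.mem_stabilizer_iff.mp hg) i⟩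
    rw [h1 _ (by simp)] at hmem
    exact Subtype.ext hmem) (by omega) p
  have h6 : ℓ ^ j = 6 := by omega
  have hl : ℓ ∣ 6 := h6 ▸ dvd_pow_self ℓ (by omega)
  have hle : ℓ ≤ 6 := Nat.le_of_dvd (by norm_num) hl
  have hj' : j ≤ 6 := by
    by_contra h
    have h2 := Nat.pow_le_pow_right hℓ.pos (show 7 ≤ j by omega)
    have h3 := Nat.pow_le_pow_left hℓ.two_le 7
    norm_num at h3
    omega
  have := hℓ.two_le
  interval_cases ℓ <;> interval_cases j <;> simp_all (config := { decide := true })

/-- The degree twenty-four case is impossible. -/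
theorem not_twentyfour (ht : MulAction.IsMultiplyPretransitive G α 3) (hn : Fintype.card α = 24)
    (h3 : ∀ T : Finset α, T.card = 3 → Nat.card (fixer G T) = 7)
    (h4 : ∀ T : Finset α, T.card = 4 → fixer G T = ⊥) : False := by
  classical
  obtain ⟨x, hx⟩ := exists_injective (α := α) (m := 3) (by omega)
  set A : Finset α := {x 0, x 1} with hA
  have h01 : x 0 ≠ x 1 := hx.ne (by decide)
  have h02 : x 2 ∉ A := by
    simp only [hA, Finset.mem_insert, Finset.mem_singleton, not_or]
    exact ⟨hx.ne (by decide), hx.ne (by decide)⟩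
  set P := fixer G A with hPdef
  set X := fixer G (insert (x 2) A) with hXdef
  have hX7 : Nat.card X = 7 := h3 _ (by rw [Finset.card_insert_of_notMem h02, hA, Finset.card_pair h01])
  have htr : ∀ u v, u ∉ A → v ∉ A → ∃ g ∈ P, g u = v := by
    intro u v hu hv
    simp only [hA, Finset.mem_insert, Finset.mem_singleton, not_or] at hu hv
    obtain ⟨g, hg, h⟩ := exists_map ht (x := ![x 0, x 1, u]) (y := ![x 0, x 1, v])
      (by intro i k e; fin_cases i <;> fin_cases k <;> simp_all [eq_comm])
      (by intro i k e; fin_cases i <;> fin_cases k <;> simp_all [eq_comm])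
    refine ⟨g, ⟨hg, fun t ht => ?_⟩, h 2⟩
    simp only [hA, Finset.mem_insert, Finset.mem_singleton] at ht
    rcases ht with rfl | rfl
    · exact h 0
    · exact h 1
  have hout : ∀ g ∈ P, ∀ u, u ∉ A → g u ∉ A := fun g hg u hu h =>
    hu (g.injective (hg.2 _ h) ▸ h)
  have hPcard : Nat.card P = 154 := by
    rw [HomogeneousSucc.natCard_orbit_mul (K := P) (S := X) (w := x 2) (O := Aᶜ) (fun z => ?_) (fun m => ?_),
      hX7, Finset.card_compl, hn, hA, Finset.card_pair h01]
    · rw [Finset.mem_compl]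
      exact ⟨fun hz => htr _ _ h02 hz, fun ⟨m, hm, e⟩ => e ▸ hout m hm _ h02⟩
    · simp only [hXdef, hPdef, mem_fixer, Finset.mem_insert]
      exact ⟨fun h => ⟨⟨h.1, fun t ht => h.2 t (Or.inr ht)⟩, h.2 _ (Or.inl rfl)⟩,
        fun h => ⟨h.1.1, fun t ht => ht.elim (fun e => e ▸ h.2) (h.1.2 t)⟩⟩
  have : Fact (Nat.Prime 11) := ⟨by norm_num⟩
  obtain ⟨S⟩ : Nonempty (Sylow 11 P) := inferInstance
  have hScard : Nat.card S = 11 := by
    rw [Sylow.card_eq_multiplicity, hPcard]
    rw [show (154 : ℕ) = 11 * 14 by norm_num, Nat.factorization_mul (by norm_num) (by norm_num),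
      Finsupp.add_apply, Nat.Prime.factorization_self (by norm_num),
      Nat.factorization_eq_zero_of_not_dvd (by norm_num)]
    norm_num
  have hnS : (S : Subgroup P).Normal := by
    have hd := S.card_dvd_index
    have hm := card_sylow_modEq_one 11 P
    have hi : (S : Subgroup P).index = 14 := by
      have h := (S : Subgroup P).index_mul_card
      rw [hPcard, show Nat.card (S : Subgroup P) = 11 from hScard] at h
      omega
    rw [hi] at hd
    have hone : Nat.card (Sylow 11 P) = 1 := by
      have hle := Nat.le_of_dvd (by norm_num) hd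
      unfold Nat.ModEq at hm
      interval_cases h : Nat.card (Sylow 11 P) <;> first | rfl | (exfalso; omega)
    have : Subsingleton (Sylow 11 P) := (Nat.card_eq_one_iff_unique.mp hone).1
    exact Sylow.normal_of_subsingleton S
  set c := x 2
  set B : Finset α := Finset.univ.filter fun z => ∃ g ∈ (S : Subgroup P), (g : Perm α) c = z with hB
  let S' : Subgroup (Perm α) := (S : Subgroup P).map P.subtype
  let X' : Subgroup (Perm α) := fixer G (insert c A)
  have hB11 : B.card = 11 := by
    have h := HomogeneousSucc.natCard_orbit_mul (K := S') (w := c) (O := B)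
      (S := S' ⊓ MulAction.stabilizer (Perm α) c) (fun z => by
        rw [hB, Finset.mem_filter]
        simp only [S', Subgroup.mem_map, Finset.mem_univ, true_and]
        exact ⟨fun ⟨g, hg, e⟩ => ⟨_, ⟨g, hg, rfl⟩, e⟩, fun ⟨_, ⟨g, hg, rfl⟩, e⟩ => ⟨g, hg, e⟩⟩)
      (fun m => Subgroup.mem_inf.trans (and_congr Iff.rfl MulAction.mem_stabilizer_iff))
    rw [Subgroup.card_subtype, hScard] at h
    rcases (Nat.dvd_prime (by norm_num : Nat.Prime 11)).mp (Dvd.intro _ h.symm : B.card ∣ 11) with e | e
    swap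
    · exact e
    exfalso
    have hall : ∀ g ∈ (S : Subgroup P), (g : Perm α) c = c := by
      intro g hg
      obtain ⟨b, hb⟩ := Finset.card_eq_one.mp e
      have h1 : (g : Perm α) c ∈ B := by simp only [hB, Finset.mem_filter, Finset.mem_univ, true_and]; exact ⟨g, hg, rfl⟩
      have h2 : c ∈ B := by simp only [hB, Finset.mem_filter, Finset.mem_univ, true_and]; exact ⟨1, one_mem _, rfl⟩
      rw [hb, Finset.mem_singleton] at h1 h2
      rw [h1, ← h2]
    have hbot : (S : Subgroup P) = ⊥ := by
      rw [Subgroup.eq_bot_iff_forall]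
      intro g hg
      refine Subtype.ext (Equiv.ext fun z => ?_)
      show (g : Perm α) z = z
      by_cases hz : z ∈ A
      · exact g.2.2 z hz
      obtain ⟨f, hf, hfz⟩ := htr c z h02 hz
      have h' := hall _ (hnS.conj_mem g hg (⟨f, hf⟩ : P)⁻¹)
      have h'' : (f⁻¹ * (g : Perm α) * f⁻¹⁻¹) c = c := h'
      rw [inv_inv, mul_apply, mul_apply, hfz, inv_eq_iff_eq, hfz] at h''
      exact h''
    have : Nat.card (S : Subgroup P) = 1 := by rw [hbot, Subgroup.card_bot]
    rw [show Nat.card (S : Subgroup P) = 11 from hScard] at this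
    omega
  have hcB : c ∈ B := by simp only [hB, Finset.mem_filter, Finset.mem_univ, true_and]; exact ⟨1, one_mem _, rfl⟩
  have hBA : ∀ z ∈ B, z ∉ A := by
    intro z hz
    simp only [hB, Finset.mem_filter, Finset.mem_univ, true_and] at hz
    obtain ⟨g, -, rfl⟩ := hz
    exact hout _ g.2 _ h02
  have hdiv : 7 ∣ ((B.erase c : Finset α) : Set α).ncard := by
    refine Cfsg.Agent.Lib.HalfTransitive.dvd_ncard_of_orbits (K := X') _ ?_ ?_
    · intro k t ht
      simp only [Finset.mem_coe, hB, Finset.mem_erase, Finset.mem_filter, Finset.mem_univ, true_and] at ht ⊢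
      obtain ⟨htc, g, hg, rfl⟩ := ht
      have hkc : (k : Perm α) c = c := k.2.2 c (Finset.mem_insert_self c A)
      refine ⟨fun e => htc ((k : Perm α).injective (e.trans hkc.symm)), ?_⟩
      have hkP : (k : Perm α) ∈ P := ⟨k.2.1, fun t ht => k.2.2 t (Finset.mem_insert_of_mem ht)⟩
      refine ⟨⟨(k : Perm α), hkP⟩ * g * ⟨(k : Perm α), hkP⟩⁻¹, hnS.conj_mem g hg _, ?_⟩
      show ((k : Perm α) * (g : Perm α) * (k : Perm α)⁻¹) c = (k : Perm α) ((g : Perm α) c)
      rw [mul_apply, mul_apply, (inv_eq_iff_eq).mpr hkc.symm]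
    · intro t ht
      simp only [Finset.mem_coe, Finset.mem_erase] at ht
      have h := Cfsg.Agent.Lib.HalfTransitive.ncard_orbit_mul_card X' t
      have hbot : X' ⊓ MulAction.stabilizer (Perm α) t = ⊥ := by
        have hT : fixer G (insert t (insert c A)) = ⊥ := h4 _ (by
          rw [Finset.card_insert_of_notMem, Finset.card_insert_of_notMem h02, hA, Finset.card_pair h01]
          simp only [Finset.mem_insert, not_or]
          exact ⟨ht.1, hBA t ht.2⟩)
        rw [eq_bot_iff, ← hT]
        intro g hg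
        obtain ⟨hg1, hg2⟩ := Subgroup.mem_inf.mp hg
        refine ⟨hg1.1, fun u hu => ?_⟩
        rcases Finset.mem_insert.mp hu with rfl | hu
        · exact hg2
        · exact hg1.2 u hu
      rw [hbot, Subgroup.card_bot, mul_one] at h
      rw [h, show Nat.card X' = 7 from hX7]
  rw [Set.ncard_coe_finset, Finset.card_erase_of_mem hcB, hB11] at hdiv
  norm_num at hdiv

theorem card_triple {r : Fin 4 → α} (ht : MulAction.IsMultiplyPretransitive G α 3)
    (hh4 : MulAction.IsPretransitive G (Set.powersetCard α 4)) (hr : Function.Injective r)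
    (hn : 4 ≤ Fintype.card α) {T : Finset α} (hT : T.card = 3) :
    24 * Nat.card (fixer G T) = Nat.card (induced G r) * (Fintype.card α - 3) *
      Nat.card (fixer G (Finset.univ.image r)) := by
  have e := (Finset.equivFinOfCardEq hT).symm
  have hx : Function.Injective fun i => (e i : α) := Subtype.val_injective.comp e.injective
  have him : Finset.univ.image (fun i => (e i : α)) = T := by
    ext a
    simp only [Finset.mem_image, Finset.mem_univ, true_and]
    exact ⟨fun ⟨i, hi⟩ => hi ▸ (e i).2, fun h => ⟨e.symm ⟨a, h⟩, by simp⟩⟩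
  have h1 := card_group_transitive ht hx
  have h2 := card_group_homog hh4 hr
  rw [him] at h1
  rw [h1, show (Fintype.card α).descFactorial 4 = (Fintype.card α - 3) * (Fintype.card α).descFactorial 3
    from Nat.descFactorial_succ _ _, show (4 : ℕ).factorial = 24 from rfl] at h2
  apply Nat.eq_of_mul_eq_mul_left (Nat.descFactorial_pos.mpr (show 3 ≤ Fintype.card α by omega))
  linarith

theorem card_five {r : Fin 4 → α} (hh4 : MulAction.IsPretransitive G (Set.powersetCard α 4))
    (hh5 : MulAction.IsPretransitive G (Set.powersetCard α 5)) (hr : Function.Injective r)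
    {s : Fin 5 → α} (hs : Function.Injective s) :
    5 * (Nat.card (induced G r) * Nat.card (fixer G (Finset.univ.image r))) =
      Nat.card (induced G s) * (Fintype.card α - 4) * Nat.card (fixer G (Finset.univ.image s)) := by
  have h1 := card_group_homog hh4 hr
  have h2 := card_group_homog hh5 hs
  rw [show (Fintype.card α).descFactorial 5 = (Fintype.card α - 4) * (Fintype.card α).descFactorial 4
    from Nat.descFactorial_succ _ _, show (5 : ℕ).factorial = 120 from rfl] at h2
  rw [show (4 : ℕ).factorial = 24 from rfl] at h1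
  have h4 : 4 ≤ Fintype.card α := by simpa using Fintype.card_le_of_injective r hr
  apply Nat.eq_of_mul_eq_mul_left (Nat.descFactorial_pos.mpr h4)
  linarith

/-- Degree five: triply transitive, four- and five-homogeneous groups that are not four-transitive. -/
theorem five (ht : MulAction.IsMultiplyPretransitive G α 3)
    (hh4 : MulAction.IsPretransitive G (Set.powersetCard α 4))
    (hh5 : MulAction.IsPretransitive G (Set.powersetCard α 5))
    (hnt : ¬ MulAction.IsMultiplyPretransitive G α 4) (hn : 7 ≤ Fintype.card α) :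
    Fintype.card α = 9 ∧ (Nat.card G = 504 ∨ Nat.card G = 1512) := by
  classical
  obtain ⟨r₀, hr₀⟩ := exists_injective (α := α) (m := 4) (by omega)
  obtain ⟨s₀, hs₀⟩ := exists_injective (α := α) (m := 5) (by omega)
  have hsub3 : ∀ {Y : Finset α}, Y.card = 4 → ∀ z ∈ Y,
      Nat.card (fixer G Y) ∣ Nat.card (fixer G (Y.erase z)) := fun {Y} _ z _ =>
    Subgroup.card_dvd_of_le fun g hg => ⟨hg.1, fun t ht => hg.2 t (Finset.mem_of_mem_erase ht)⟩
  have hcount : ∀ {r : Fin 4 → α}, Function.Injective r → ∃ c,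
      24 * c = Nat.card (induced G r) * (Fintype.card α - 3) ∧
      ∀ T : Finset α, T.card = 3 →
        Nat.card (fixer G T) = c * Nat.card (fixer G (Finset.univ.image r)) := by
    intro r hr
    have hYc : (Finset.univ.image r).card = 4 := by
      rw [Finset.card_image_of_injective _ hr, Finset.card_univ, Fintype.card_fin]
    have hm : r 0 ∈ Finset.univ.image r := Finset.mem_image_of_mem r (Finset.mem_univ 0)
    obtain ⟨c, hc⟩ := hsub3 hYc (r 0) hm
    have h1 := card_triple ht hh4 hr (by omega) (T := (Finset.univ.image r).erase (r 0))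
      (by rw [Finset.card_erase_of_mem hm, hYc])
    rw [hc] at h1
    refine ⟨c, Nat.eq_of_mul_eq_mul_right (Nat.card_pos (α := fixer G (Finset.univ.image r)))
      (by linarith), fun T hT => ?_⟩
    have h2 := card_triple ht hh4 hr (by omega) hT
    apply Nat.eq_of_mul_eq_mul_left (show 0 < 24 by norm_num)
    linarith
  have himage : ∀ {r : Fin 4 → α}, Function.Injective r → ∀ {Y : Finset α}, Y.card = 4 →
      Nat.card (fixer G Y) = Nat.card (fixer G (Finset.univ.image r)) := fun {r} hr {Y} hY =>
    card_fixer_eq hh4 hY (by rw [Finset.card_image_of_injective _ hr, Finset.card_univ, Fintype.card_fin])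
  rcases classify4 _ (ne_top_of_not_pretransitive hh4 hr₀ hnt) with hA | ⟨h8, ρ, hB⟩ | ⟨h6, ρ, hC⟩
  · -- orientation
    have hD : ∀ l ∈ induced G r₀, ∀ σ, Even4 σ → Even4 (l * σ) := fun l hl σ hσ =>
      (even4_mul l σ).mpr ⟨fun _ => hσ, fun _ => hA l hl⟩
    have hkey : ∀ {s : Fin 5 → α}, Function.Injective s → Fintype.card α = 9 ∧
        Nat.card (induced G s) ≤ Nat.card (induced G r₀) := by
      intro s hs
      obtain ⟨e, -, he1, he2⟩ := colour_equations ht hh4 hh5 hr₀ hD hs
      obtain ⟨N, hN, hcases⟩ := orient_induced_le hr₀ hh4 hA hs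
      rw [card_even4, show (3 + 1 : ℕ).factorial = 24 from rfl] at he1
      rw [hN, show (3 + 2 : ℕ).factorial = 120 from rfl,
        show Fintype.card α - 3 = 2 * e by omega, show Fintype.card α - (3 + 1) = 2 * e - 1 by omega] at he2
      have h3 : 120 * (e - 1) = N * ((2 * e - 1) * 2) := by
        apply Nat.eq_of_mul_eq_mul_left (show 0 < e by omega)
        linarith
      rcases hcases with rfl | rfl | ⟨rfl, hle⟩
      · omega
      · omega
      · exact ⟨by omega, hle⟩
    have hn9 := (hkey hs₀).1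
    have hw : ∀ {Y : Finset α}, Y.card = 4 → fixer G Y = ⊥ := by
      intro Y hY
      refine eq_bot_of_insert fun z hz => ?_
      obtain ⟨s, hs, hsY⟩ := exists_snoc hY hz
      have h := card_five hh4 hh5 hr₀ hs
      rw [hsY, hn9, ← himage hr₀ hY, show (9 - 4 : ℕ) = 5 from rfl] at h
      have h0 : Nat.card (induced G r₀) * Nat.card (fixer G Y) =
          Nat.card (induced G s) * Nat.card (fixer G (insert z Y)) := by linarith
      have hle := (hkey hs).2
      set L := Nat.card (induced G r₀)
      set H := Nat.card (induced G s)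
      set a := Nat.card (fixer G Y)
      set b := Nat.card (fixer G (insert z Y))
      have h' : L * a ≤ L * b := by
        have h2 : H * b ≤ L * b := Nat.mul_le_mul hle le_rfl
        exact h0.le.trans h2
      exact Nat.le_of_mul_le_mul_left h' Nat.card_pos
    obtain ⟨c, hc, -⟩ := hcount hr₀
    rw [hn9, show (9 - 3 : ℕ) = 6 from rfl] at hc
    have hG := card_group_homog hh4 hr₀
    rw [hw (by rw [Finset.card_image_of_injective _ hr₀, Finset.card_univ, Fintype.card_fin]),
      Subgroup.card_bot, hn9, show (4 : ℕ).factorial = 24 from rfl,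
      show (9 : ℕ).descFactorial 4 = 3024 from rfl] at hG
    have h12 : Nat.card (induced G r₀) ∣ 12 := by
      have h2 := Subgroup.card_dvd_of_le (show induced G r₀ ≤ alternatingGroup (Fin 4) from fun l hl =>
        Equiv.Perm.mem_alternatingGroup.mpr ((even4_sign l).mp (hA l hl)))
      have h3 : Nat.card (alternatingGroup (Fin 4)) = 12 := by
        rw [Nat.card_eq_fintype_card]; decide +kernel
      rwa [h3] at h2
    have := Nat.le_of_dvd (by norm_num) h12
    refine ⟨hn9, ?_⟩
    rcases (show Nat.card (induced G r₀) = 4 ∨ Nat.card (induced G r₀) = 12 by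
      obtain ⟨d, hd⟩ := h12
      interval_cases hL : Nat.card (induced G r₀) <;> omega) with h | h <;> rw [h] at hG <;> omega
  · -- pairing
    set r := r₀ ∘ ⇑ρ⁻¹ with hr'
    have hr : Function.Injective r := hr₀.comp ρ⁻¹.injective
    have hL : ∀ l ∈ induced G r, Pair4 l := fun l hl => by
      have h := hB _ (induced_relabel hr₀ ρ l hl)
      simpa [mul_assoc] using h
    have h8' : Nat.card (induced G r) ∣ 8 := card_induced_eq hh4 hr₀ hr ▸ h8
    have hD : ∀ l ∈ induced G r, ∀ σ, Pair4 σ → Pair4 (l * σ) := fun l hl σ hσ =>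
      pair4_closed l σ (hL l hl) hσ
    have hkey : ∀ {s : Fin 5 → α}, Function.Injective s →
        (Fintype.card α = 9 ∧ Nat.card (induced G s) ≤ 4) ∨
          (Fintype.card α = 24 ∧ Nat.card (induced G s) ≤ 2) := by
      intro s hs
      obtain ⟨e, -, he1, he2⟩ := colour_equations ht hh4 hh5 hr hD hs
      obtain ⟨t, ht', hN, hH⟩ := card_induced_le_paired hr hh4 hL hs
      obtain ⟨hmod, h2, h3⟩ := paired5_count t ht'
      rw [card_pair4, show (3 + 1 : ℕ).factorial = 24 from rfl] at he1
      rw [hN, show (3 + 2 : ℕ).factorial = 120 from rfl,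
        show Fintype.card α - 3 = 3 * e by omega, show Fintype.card α - (3 + 1) = 3 * e - 1 by omega] at he2
      set N := orders5.countP (both5 (paired5 t))
      have h4 : 120 * (e - 1) = N * ((3 * e - 1) * 3) := by
        apply Nat.eq_of_mul_eq_mul_left (show 0 < e by omega)
        linarith
      have h5 : N ≤ 13 := by
        by_contra hc
        push Not at hc
        have := Nat.mul_le_mul_right ((3 * e - 1) * 3) hc
        omega
      rcases (show N = 0 ∨ N = 4 ∨ N = 8 ∨ N = 12 by omega) with h | h | h | h <;> rw [h] at h4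
      · omega
      · omega
      · exact Or.inl ⟨by omega, hH.trans (h2 h)⟩
      · exact Or.inr ⟨by omega, hH.trans (h3 h)⟩
    obtain ⟨c, hc, hcT⟩ := hcount hr
    have hYr : (Finset.univ.image r).card = 4 := by
      rw [Finset.card_image_of_injective _ hr, Finset.card_univ, Fintype.card_fin]
    have hle8 := Nat.le_of_dvd (by norm_num) h8'
    rcases hkey hs₀ with ⟨hn9, hH⟩ | ⟨hn24, -⟩
    · rw [hn9, show (9 - 3 : ℕ) = 6 from rfl] at hc
      have hL4 : Nat.card (induced G r) = 4 := by
        have h48 : Nat.card (induced G r) = 4 ∨ Nat.card (induced G r) = 8 := by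
          have := Nat.card_pos (α := induced G r)
          omega
        refine h48.resolve_right fun hL8 => ?_
        obtain ⟨Y, z, hY, hz⟩ : ∃ (Y : Finset α) (z : α), Y.card = 4 ∧ z ∉ Y := by
          obtain ⟨z, -, hz⟩ := Finset.exists_mem_notMem_of_card_lt_card (s := Finset.univ.image r)
            (t := Finset.univ) (by rw [hYr, Finset.card_univ]; omega)
          exact ⟨_, z, hYr, hz⟩
        obtain ⟨s, hs, hsY⟩ := exists_snoc hY hz
        have h := card_five hh4 hh5 hr hs
        rw [hsY, hn9, hL8, ← himage hr hY, show (9 - 4 : ℕ) = 5 from rfl] at h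
        have h0 : 8 * Nat.card (fixer G Y) =
            Nat.card (induced G s) * Nat.card (fixer G (insert z Y)) := by linarith
        have hH' : Nat.card (induced G s) ≤ 4 := by
          rcases hkey hs with ⟨-, h'⟩ | ⟨h', -⟩
          · exact h'
          · omega
        have hle : Nat.card (fixer G (insert z Y)) ≤ Nat.card (fixer G Y) :=
          Subgroup.card_le_of_le fun g hg => ⟨hg.1, fun t ht => hg.2 t (Finset.mem_insert_of_mem ht)⟩
        have h' := Nat.mul_le_mul hH' hle
        have := Nat.card_pos (α := fixer G Y)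
        omega
      have hc1 : c = 1 := by omega
      subst hc1
      have hw : ∀ {T : Finset α}, T.card = 3 → fixer G T = ⊥ := by
        intro T hT
        refine eq_bot_of_insert fun z hz => ?_
        rw [himage hr (show (insert z T).card = 4 by rw [Finset.card_insert_of_notMem hz, hT]), hcT T hT,
          one_mul]
      obtain ⟨x, hx⟩ := exists_injective (α := α) (m := 3) (by omega)
      refine ⟨hn9, Or.inl ?_⟩
      rw [card_group_transitive ht hx, hw (by rw [Finset.card_image_of_injective _ hx, Finset.card_univ, Fintype.card_fin]),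
        Subgroup.card_bot, hn9]
      rfl
    · exfalso
      rw [hn24, show (24 - 3 : ℕ) = 21 from rfl] at hc
      have hL8 : Nat.card (induced G r) = 8 := by
        have := Nat.card_pos (α := induced G r)
        omega
      have hc7 : c = 7 := by omega
      have hw : ∀ Y : Finset α, Y.card = 4 → fixer G Y = ⊥ := by
        intro Y hY
        refine eq_bot_of_insert fun z hz => ?_
        obtain ⟨s, hs, hsY⟩ := exists_snoc hY hz
        have h := card_five hh4 hh5 hr hs
        rw [hsY, hn24, hL8, ← himage hr hY, show (24 - 4 : ℕ) = 20 from rfl] at h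
        have h0 : 2 * Nat.card (fixer G Y) =
            Nat.card (induced G s) * Nat.card (fixer G (insert z Y)) := by linarith
        have hH : Nat.card (induced G s) ≤ 2 := by
          rcases hkey hs with ⟨h', -⟩ | ⟨-, h'⟩
          · omega
          · exact h'
        have h' := Nat.mul_le_mul_right (Nat.card (fixer G (insert z Y))) hH
        omega
      refine not_twentyfour ht hn24 (fun T hT => ?_) hw
      rw [hcT T hT, hc7, hw _ hYr, Subgroup.card_bot]
  · -- one distinguished point
    exfalso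
    set r := r₀ ∘ ⇑ρ⁻¹ with hr'
    have hr : Function.Injective r := hr₀.comp ρ⁻¹.injective
    have hL6 : Nat.card (induced G r) = 6 := (card_induced_eq hh4 hr₀ hr).trans h6
    have hD : ∀ l ∈ induced G r, ∀ σ : Perm (Fin 4), σ 0 = 0 → (l * σ) 0 = 0 := by
      intro l hl σ hσ
      have h := hC _ (induced_relabel hr₀ ρ l hl)
      have h' : l 0 = 0 := by simpa [mul_assoc] using h
      rw [mul_apply, hσ, h']
    obtain ⟨e, -, he1, he2⟩ := colour_equations ht hh4 hh5 hr (D := fun σ : Perm (Fin 4) => σ 0 = 0) hD hs₀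
    rw [card_fix4, show (3 + 1 : ℕ).factorial = 24 from rfl] at he1
    rw [show (3 + 2 : ℕ).factorial = 120 from rfl,
      show Fintype.card α - 3 = 4 * e by omega, show Fintype.card α - (3 + 1) = 4 * e - 1 by omega] at he2
    have hdvd := four_dvd_count_fix (G := G) (r := r) s₀
    set N := Nat.card {σ : Perm (Fin 5) // Double (Col G r fun σ : Perm (Fin 4) => σ 0 = 0) (s₀ ∘ σ)}
    have h4 : 120 * (e - 1) = N * ((4 * e - 1) * 4) := by
      apply Nat.eq_of_mul_eq_mul_left (show 0 < e by omega)
      linarith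
    have h5 : N < 8 := by
      by_contra hc
      push Not at hc
      have := Nat.mul_le_mul_right ((4 * e - 1) * 4) hc
      omega
    rcases (show N = 0 ∨ N = 4 by omega) with h | h <;> rw [h] at h4
    swap
    · omega
    have hn7 : Fintype.card α = 7 := by omega
    obtain ⟨c, hc, hcT⟩ := hcount hr
    rw [hL6, hn7, show (6 * (7 - 3) : ℕ) = 24 from rfl] at hc
    refine not_sharp_seven ht hn7 fun T hT => eq_bot_of_insert fun z hz => ?_
    rw [himage hr (show (insert z T).card = 4 by rw [Finset.card_insert_of_notMem hz, hT]), hcT T hT,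
      show c = 1 by omega, one_mul]

end Cfsg.Agent.Lib.Perm.HomogeneousSmall
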