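import Mathlib

/-!
Checking that explicitly given matrices generate a subgroup of `GL(2,p)` regular on non-zero
vectors: a certificate consisting of the elements of determinant one, parent pointers and a
multiplication table by the generators, times a cyclic group of scalars. All computation is
done on natural numbers reduced modulo `p`.
-/

set_option autoImplicit false

namespace Cfsg.Agent.Lib.LinRegular

/-- Coordinates of a `2 × 2` matrix, as natural numbers. -/
abbrev Quad := ℕ × ℕ × ℕ × ℕ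

def qmul (p : ℕ) (x y : Quad) : Quad :=
  ((x.1 * y.1 + x.2.1 * y.2.2.1) % p, (x.1 * y.2.1 + x.2.1 * y.2.2.2) % p,
   (x.2.2.1 * y.1 + x.2.2.2 * y.2.2.1) % p, (x.2.2.1 * y.2.1 + x.2.2.2 * y.2.2.2) % p)

def qone : Quad := (1, 0, 0, 1)

def qeq (x y : Quad) : Bool :=
  Nat.beq x.1 y.1 && Nat.beq x.2.1 y.2.1 && Nat.beq x.2.2.1 y.2.2.1 && Nat.beq x.2.2.2 y.2.2.2

theorem eq_of_qeq {x y : Quad} (h : qeq x y = true) : x = y := by
  obtain ⟨a, b, c, d⟩ := x
  obtain ⟨a', b', c', d'⟩ := y
  simp only [qeq, Bool.and_eq_true, Nat.beq_eq] at h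
  obtain ⟨⟨⟨rfl, rfl⟩, rfl⟩, rfl⟩ := h
  rfl

def code (p : ℕ) (x : Quad) : ℕ :=
  ((x.1 % p * p + x.2.1 % p) * p + x.2.2.1 % p) * p + x.2.2.2 % p

def nodupNat : List ℕ → Bool
  | [] => true
  | a :: l => l.all (fun b => !Nat.beq a b) && nodupNat l

theorem nodup_of_nodupNat : ∀ {l : List ℕ}, nodupNat l = true → l.Nodup
  | [], _ => List.nodup_nil
  | a :: l, h => by
    simp only [nodupNat, Bool.and_eq_true, List.all_eq_true, Bool.not_eq_true'] at h
    refine List.nodup_cons.mpr ⟨fun hm => ?_, nodup_of_nodupNat h.2⟩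
    have h' := h.1 a hm
    rw [← Bool.not_eq_true, Nat.beq_eq] at h'
    exact h' rfl

def parCheck (p : ℕ) (L gq : List Quad) (par : List (ℕ × ℕ)) : Bool :=
  (List.range L.length).all fun i =>
    Nat.beq i 0 ||
      (Nat.ble ((par.getD i (0, 0)).1 + 1) i && Nat.ble ((par.getD i (0, 0)).2 + 1) gq.length &&
        qeq (L.getD i qone)
          (qmul p (L.getD (par.getD i (0, 0)).1 qone) (gq.getD (par.getD i (0, 0)).2 qone)))

def tabCheck (p : ℕ) (L gq : List Quad) (tab : List (List ℕ)) : Bool :=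
  (List.range L.length).all fun i => (List.range gq.length).all fun j =>
    Nat.ble ((tab.getD i []).getD j 0 + 1) L.length &&
      qeq (qmul p (L.getD i qone) (gq.getD j qone)) (L.getD ((tab.getD i []).getD j 0) qone)

def detCheck (p : ℕ) (L : List Quad) : Bool :=
  L.all fun x => Nat.beq ((x.1 * x.2.2.2) % p) ((1 + x.2.1 * x.2.2.1) % p)

def fixCheck (p : ℕ) (L : List Quad) (cs : List ℕ) : Bool :=
  (List.range cs.length).all fun k => L.all fun x =>
    (Nat.beq k 0 && qeq x qone) ||
      !Nat.beq ((cs.getD k 0 * cs.getD k 0 + 1) % p) ((cs.getD k 0 * (x.1 + x.2.2.2)) % p)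

def powCheck (p c : ℕ) (cs : List ℕ) : Bool :=
  Nat.beq (cs.getD 0 0 % p) (1 % p) &&
    (List.range cs.length).all fun k =>
      Nat.beq ((cs.getD k 0 * c) % p) (cs.getD ((k + 1) % cs.length) 0 % p)

def checkAll (p c : ℕ) (L gq : List Quad) (par : List (ℕ × ℕ)) (tab : List (List ℕ))
    (cs : List ℕ) : Bool :=
  Nat.ble 1 cs.length && qeq (L.getD 0 (0, 0, 0, 0)) qone && parCheck p L gq par && tabCheck p L gq tab &&
    detCheck p L && nodupNat (L.map (code p)) && nodupNat (cs.map fun x => x * x % p) &&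
      fixCheck p L cs && powCheck p c cs && Nat.beq (cs.length * L.length) (p * p - 1)

variable {p : ℕ} [Fact p.Prime]

def qmat (p : ℕ) (x : Quad) : Matrix (Fin 2) (Fin 2) (ZMod p) :=
  !![(x.1 : ZMod p), (x.2.1 : ZMod p); (x.2.2.1 : ZMod p), (x.2.2.2 : ZMod p)]

theorem qmat_mul (x y : Quad) : qmat p (qmul p x y) = qmat p x * qmat p y := by
  simp [qmat, qmul]

theorem regular_of_certificate (gens : Set (Matrix.GeneralLinearGroup (Fin 2) (ZMod p)))
    (gl : List (Matrix.GeneralLinearGroup (Fin 2) (ZMod p))) (hgl : ∀ g ∈ gl, g ∈ gens)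
    (C : Matrix.GeneralLinearGroup (Fin 2) (ZMod p)) (hC : C ∈ Subgroup.closure gens)
    (hsub : ∀ g ∈ gens, g ∈ gl ∨ g = C)
    (gq : List Quad) (hgq : gl.map Units.val = gq.map (qmat p))
    (c : ℕ) (hCc : (C : Matrix (Fin 2) (Fin 2) (ZMod p)) = (c : ZMod p) • 1)
    (L : List Quad) (par : List (ℕ × ℕ)) (tab : List (List ℕ)) (cs : List ℕ)
    (hchk : checkAll p c L gq par tab cs = true) :
    Nat.card (Subgroup.closure gens) = p * p - 1 ∧
      ∀ v w : Fin 2 → ZMod p, v ≠ 0 → w ≠ 0 → ∃! h : Subgroup.closure gens,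
        Matrix.mulVec ((h : Matrix.GeneralLinearGroup (Fin 2) (ZMod p)) :
          Matrix (Fin 2) (Fin 2) (ZMod p)) v = w := by
  classical
  simp only [checkAll, Bool.and_eq_true, Nat.beq_eq, Nat.ble_eq] at hchk
  obtain ⟨⟨⟨⟨⟨⟨⟨⟨⟨hm, h0⟩, hpar⟩, htab⟩, hdet⟩, hnd⟩, hsq⟩, hfix⟩, hpow⟩, hcard⟩ := hchk
  simp only [parCheck, List.all_eq_true, List.mem_range, Bool.or_eq_true, Bool.and_eq_true,
    Nat.beq_eq, Nat.ble_eq, Nat.add_one_le_iff] at hpar
  simp only [tabCheck, List.all_eq_true, List.mem_range, Bool.and_eq_true, Nat.ble_eq,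
    Nat.add_one_le_iff] at htab
  simp only [detCheck, List.all_eq_true, Nat.beq_eq] at hdet
  simp only [fixCheck, List.all_eq_true, List.mem_range, Bool.or_eq_true, Bool.and_eq_true,
    Nat.beq_eq, Bool.not_eq_true'] at hfix
  simp only [powCheck, Bool.and_eq_true, Nat.beq_eq, List.all_eq_true, List.mem_range] at hpow
  have hlen : gl.length = gq.length := by simpa using congrArg List.length hgq
  have hone : qmat p qone = 1 := by simp [qmat, qone, Matrix.one_fin_two]
  have hL0 : 0 < L.length := by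
    rcases L with _ | ⟨a, l⟩
    · simp [qeq, qone] at h0
    · simp
  have hL0' : L.getD 0 qone = qone := by
    have := eq_of_qeq h0
    rw [List.getD_eq_getElem _ _ hL0] at this ⊢
    exact this
  have hqone : qone ∈ L := by
    rw [← hL0', List.getD_eq_getElem _ _ hL0]; exact List.getElem_mem _
  have hgetg : ∀ j (hj : j < gl.length),
      ((gl[j] : Matrix.GeneralLinearGroup (Fin 2) (ZMod p)) : Matrix (Fin 2) (Fin 2) (ZMod p)) =
        qmat p (gq.getD j qone) := by
    intro j hj
    have h := congrArg (fun l => l[j]?) hgq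
    simp only [List.getElem?_map, List.getElem?_eq_getElem hj,
      List.getElem?_eq_getElem (hlen ▸ hj), Option.map_some, Option.some.injEq] at h
    rw [h, List.getD_eq_getElem _ _ (hlen ▸ hj)]
  -- every listed element lies in the closure
  have hin : ∀ i < L.length, ∃ g ∈ Subgroup.closure gens,
      (g : Matrix (Fin 2) (Fin 2) (ZMod p)) = qmat p (L.getD i qone) := by
    intro i
    induction i using Nat.strong_induction_on with
    | _ i ih =>
      intro hi
      rcases hpar i hi with rfl | ⟨⟨h1, h2⟩, h3⟩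
      · exact ⟨1, one_mem _, by rw [hL0', hone, Units.val_one]⟩
      · obtain ⟨g, hg, hgm⟩ := ih _ h1 (by omega)
        refine ⟨g * gl[(par.getD i (0, 0)).2]'(hlen ▸ h2),
          mul_mem hg (Subgroup.subset_closure (hgl _ (List.getElem_mem _))), ?_⟩
        rw [Units.val_mul, hgm, hgetg, eq_of_qeq h3, qmat_mul]
  set m := cs.length with hmdef
  have hcm : ∀ k < m, ((cs.getD k 0 : ℕ) : ZMod p) = (c : ZMod p) ^ k := by
    intro k
    induction k with
    | zero =>
      intro _
      have := congrArg (Nat.cast (R := ZMod p)) hpow.1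
      simpa using this
    | succ k ih =>
      intro hk
      have := congrArg (Nat.cast (R := ZMod p)) (hpow.2 k (by omega))
      rw [Nat.mod_eq_of_lt hk] at this
      simp only [ZMod.natCast_mod, Nat.cast_mul, ih (by omega)] at this
      rw [pow_succ, this]
  have hcm' : (c : ZMod p) ^ m = 1 := by
    have := congrArg (Nat.cast (R := ZMod p)) (hpow.2 (m - 1) (by omega))
    rw [show m - 1 + 1 = m by omega, Nat.mod_self] at this
    simp only [ZMod.natCast_mod, Nat.cast_mul, hcm (m - 1) (by omega), hcm 0 hm, pow_zero,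
      ← pow_succ, show m - 1 + 1 = m by omega] at this
    exact this
  let P : Matrix (Fin 2) (Fin 2) (ZMod p) → Prop := fun M =>
    ∃ k < m, ∃ x ∈ L, M = (c : ZMod p) ^ k • qmat p x
  have hclosed : ∀ g ∈ Subgroup.closure gens, P (g : Matrix (Fin 2) (Fin 2) (ZMod p)) := by
    intro g hg
    rw [← Subgroup.mem_toSubmonoid, Subgroup.closure_toSubmonoid_of_finite] at hg
    induction hg using Submonoid.closure_induction_right with
    | one =>
      exact ⟨0, hm, qone, hqone, by rw [pow_zero, one_smul, hone, Units.val_one]⟩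
    | mul_right g _ s hs ih =>
      obtain ⟨k, hk, x, hx, hgm⟩ := ih
      rcases hsub s hs with hs' | rfl
      · obtain ⟨j, hj, rfl⟩ := List.getElem_of_mem hs'
        obtain ⟨i, hi, rfl⟩ := List.getElem_of_mem hx
        obtain ⟨ht1, ht2⟩ := htab i hi j (hlen ▸ hj)
        refine ⟨k, hk, L.getD ((tab.getD i []).getD j 0) qone, ?_, ?_⟩
        · rw [List.getD_eq_getElem _ _ ht1]; exact List.getElem_mem _
        · rw [Units.val_mul, hgm, hgetg, smul_mul_assoc, ← qmat_mul, ← eq_of_qeq ht2,
            List.getD_eq_getElem _ _ hi]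
      · refine ⟨(k + 1) % m, Nat.mod_lt _ hm, x, hx, ?_⟩
        rw [Units.val_mul, hgm, hCc, smul_mul_assoc, mul_smul_comm, mul_one, smul_smul,
          ← pow_succ]
        congr 1
        conv_lhs => rw [← Nat.mod_add_div (k + 1) m, pow_add, pow_mul, hcm', one_pow, mul_one]
  have hdet' : ∀ x ∈ L,
      (x.1 : ZMod p) * (x.2.2.2 : ℕ) - (x.2.1 : ℕ) * (x.2.2.1 : ℕ) = 1 := by
    intro x hx
    have := congrArg (Nat.cast (R := ZMod p)) (hdet x hx)
    simp only [ZMod.natCast_mod, Nat.cast_mul, Nat.cast_add, Nat.cast_one] at this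
    rw [this]; ring
  have hdetm : ∀ x ∈ L, (qmat p x).det = 1 := fun x hx => by
    rw [qmat, Matrix.det_fin_two]; simpa using hdet' x hx
  have hex : ∀ e : Fin m × Fin L.length, ∃ g : Subgroup.closure gens,
      ((g : Matrix.GeneralLinearGroup (Fin 2) (ZMod p)) : Matrix (Fin 2) (Fin 2) (ZMod p)) =
        (c : ZMod p) ^ (e.1 : ℕ) • qmat p L[e.2] := by
    intro e
    obtain ⟨g, hg, hgm⟩ := hin e.2 e.2.isLt
    refine ⟨⟨C ^ (e.1 : ℕ) * g, mul_mem (pow_mem hC _) hg⟩, ?_⟩
    show ((C ^ (e.1 : ℕ) * g : Matrix.GeneralLinearGroup (Fin 2) (ZMod p)) :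
      Matrix (Fin 2) (Fin 2) (ZMod p)) = _
    rw [Units.val_mul, Units.val_pow_eq_pow_val, hCc, hgm, smul_pow, one_pow, smul_mul_assoc,
      one_mul, List.getD_eq_getElem _ _ e.2.isLt]
    rfl
  choose φ hφ using hex
  have hnd' := nodup_of_nodupNat hnd
  have hsq' := nodup_of_nodupNat hsq
  have hc0 : ∀ k : ℕ, k < m → (c : ZMod p) ^ k ≠ 0 := by
    intro k hk h0'
    have : (c : ZMod p) ^ m = 0 := by
      rw [show m = k + (m - k) by omega, pow_add, h0', zero_mul]
    rw [hcm'] at this
    exact one_ne_zero this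
  have hφbij : Function.Bijective φ := by
    constructor
    · rintro ⟨k, i⟩ ⟨l, j⟩ h
      have h' := congrArg (fun g : Subgroup.closure gens =>
        ((g : Matrix.GeneralLinearGroup (Fin 2) (ZMod p)) : Matrix (Fin 2) (Fin 2) (ZMod p))) h
      simp only [hφ, Fin.getElem_fin] at h'
      have hd := congrArg Matrix.det h'
      rw [Matrix.det_smul, Matrix.det_smul, hdetm _ (List.getElem_mem _),
        hdetm _ (List.getElem_mem _), mul_one, mul_one, Fintype.card_fin, pow_two, pow_two] at hd
      have hkl : k = l := by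
        refine Fin.ext ((hsq'.getElem_inj_iff (hi := by rw [List.length_map]; exact k.isLt)
          (hj := by rw [List.length_map]; exact l.isLt)).mp ?_)
        rw [List.getElem_map, List.getElem_map]
        have hk' := hcm k k.isLt
        have hl' := hcm l l.isLt
        rw [List.getD_eq_getElem _ _ k.isLt] at hk'
        rw [List.getD_eq_getElem _ _ l.isLt] at hl'
        rw [← ZMod.natCast_eq_natCast_iff']
        push_cast
        rw [hk', hl', hd]
      subst hkl
      have h'' := smul_right_injective _ (hc0 k k.isLt) h'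
      refine Prod.ext rfl (Fin.ext ((hnd'.getElem_inj_iff
        (hi := by rw [List.length_map]; exact i.isLt)
        (hj := by rw [List.length_map]; exact j.isLt)).mp ?_))
      rw [List.getElem_map, List.getElem_map]
      have e00 := congrFun (congrFun h'' 0) 0
      have e01 := congrFun (congrFun h'' 0) 1
      have e10 := congrFun (congrFun h'' 1) 0
      have e11 := congrFun (congrFun h'' 1) 1
      simp [qmat, ZMod.natCast_eq_natCast_iff'] at e00 e01 e10 e11
      simp only [code, e00, e01, e10, e11]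
    · intro g
      obtain ⟨k, hk, x, hx, hgm⟩ := hclosed g g.2
      obtain ⟨i, hi, rfl⟩ := List.getElem_of_mem hx
      exact ⟨(⟨k, hk⟩, ⟨i, hi⟩), Subtype.ext (Units.ext ((hφ _).trans hgm.symm))⟩
  have hNcard : Nat.card (Subgroup.closure gens) = p * p - 1 := by
    rw [← Nat.card_congr (Equiv.ofBijective φ hφbij), ← hcard]; simp
  refine ⟨hNcard, fun v w hv hw => ?_⟩
  let f : Subgroup.closure gens → {u : Fin 2 → ZMod p // u ≠ 0} := fun h =>
    ⟨Matrix.mulVec ((h : Matrix.GeneralLinearGroup (Fin 2) (ZMod p)) :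
          Matrix (Fin 2) (Fin 2) (ZMod p)) v, fun e => hv (by
      have := congrArg (Matrix.mulVec ((((h : Matrix.GeneralLinearGroup (Fin 2) (ZMod p)))⁻¹ :
        Matrix.GeneralLinearGroup (Fin 2) (ZMod p)) : Matrix (Fin 2) (Fin 2) (ZMod p))) e
      rwa [Matrix.mulVec_mulVec, ← Units.val_mul, inv_mul_cancel, Units.val_one,
        Matrix.one_mulVec, Matrix.mulVec_zero] at this)⟩
  have hinj : Function.Injective f := by
    intro a b e
    have e' := congrArg Subtype.val e
    simp only [f] at e'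
    have hfixv : Matrix.mulVec (((b⁻¹ * a : Subgroup.closure gens) :
        Matrix.GeneralLinearGroup (Fin 2) (ZMod p)) : Matrix (Fin 2) (Fin 2) (ZMod p)) v = v := by
      rw [Subgroup.coe_mul, Units.val_mul, ← Matrix.mulVec_mulVec, e', Matrix.mulVec_mulVec,
        ← Units.val_mul, Subgroup.coe_inv, inv_mul_cancel, Units.val_one, Matrix.one_mulVec]
    obtain ⟨k, hk, x, hx, hgm⟩ := hclosed _ (b⁻¹ * a).2
    rw [hgm] at hfixv
    rcases hfix k hk x hx with ⟨rfl, hx1⟩ | hne
    · rw [pow_zero, one_smul, eq_of_qeq hx1, hone] at hgm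
      exact (inv_mul_eq_one.mp (Subtype.ext (Units.ext hgm) : b⁻¹ * a = 1)).symm
    · have hd0 : ((c : ZMod p) ^ k • qmat p x - 1).det = 0 := by
        refine Matrix.exists_mulVec_eq_zero_iff.mp ⟨v, hv, ?_⟩
        rw [Matrix.sub_mulVec, hfixv, Matrix.one_mulVec, sub_self]
      simp [qmat, Matrix.det_fin_two] at hd0
      rw [← Bool.not_eq_true, Nat.beq_eq, ← ZMod.natCast_eq_natCast_iff'] at hne
      refine absurd ?_ hne
      push_cast
      rw [hcm k hk]
      linear_combination hd0 - (c : ZMod p) ^ k * (c : ZMod p) ^ k * hdet' x hx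
  have hbij : Function.Bijective f := by
    haveI : Finite (Subgroup.closure gens) := inferInstance
    refine hinj.bijective_of_nat_card_le ?_
    rw [hNcard, Nat.card_eq_fintype_card, Fintype.card_subtype_compl,
      Fintype.card_subtype_eq, Fintype.card_fun, ZMod.card, Fintype.card_fin, pow_two]
  obtain ⟨h, hh⟩ := hbij.2 ⟨w, hw⟩
  exact ⟨h, congrArg Subtype.val hh, fun h' hh' => hinj ((Subtype.ext hh').trans hh.symm)⟩

end Cfsg.Agent.Lib.LinRegular
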