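import Cfsg.Agent.Lib.Frobenius.FPF

/-!
Linear groups acting regularly on the non-zero vectors: normal abelian subgroups.
-/

set_option autoImplicit false

namespace Cfsg.Agent.Lib.LinearFPF

variable {p : ℕ} [Fact p.Prime] {V : Type*} [AddCommGroup V] [Module (ZMod p) V] [Finite V]
  {H : Subgroup (V ≃ₗ[ZMod p] V)}

/-- Regular on non-zero vectors. -/
abbrev Reg (H : Subgroup (V ≃ₗ[ZMod p] V)) : Prop :=
  ∀ v w : V, v ≠ 0 → w ≠ 0 → ∃! h : H, (h : V ≃ₗ[ZMod p] V) v = w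

theorem eq_one_of_fix (hreg : Reg H) {h : H} {v : V} (hv : v ≠ 0)
    (hh : (h : V ≃ₗ[ZMod p] V) v = v) : h = 1 :=
  (hreg v v hv hv).unique hh rfl

theorem finite_group : Finite (V ≃ₗ[ZMod p] V) := Finite.of_injective _ DFunLike.coe_injective

/-- The conjugation-free action of a subgroup of `H` on `V`, multiplicatively. -/
abbrev mulAct (A : Subgroup H) : MulDistribMulAction A (Multiplicative V) where
  smul a v := Multiplicative.ofAdd (((a : H) : V ≃ₗ[ZMod p] V) v.toAdd)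
  one_smul v := rfl
  mul_smul a b v := rfl
  smul_mul a v w := congrArg Multiplicative.ofAdd (map_add ((a : H) : V ≃ₗ[ZMod p] V) _ _)
  smul_one a := congrArg Multiplicative.ofAdd (map_zero ((a : H) : V ≃ₗ[ZMod p] V))

theorem isFPF (hreg : Reg H) (A : Subgroup H) :
    letI := mulAct A
    Lib.Frobenius.FPF.IsFPF A (Multiplicative V) := by
  intro a ha v hv
  by_contra hv1
  refine ha (Subtype.ext (eq_one_of_fix hreg (v := v.toAdd) (fun e => hv1 ?_) ?_))
  · exact congrArg Multiplicative.ofAdd e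
  · exact congrArg Multiplicative.toAdd hv

theorem isCyclic_of_comm [Nontrivial V] (hreg : Reg H) (A : Subgroup H) [IsMulCommutative A] :
    IsCyclic A := by
  letI := mulAct A
  haveI := finite_group (p := p) (V := V)
  exact Lib.Frobenius.FPF.isCyclic_of_commute (isFPF hreg A) (fun a b => mul_comm' a b)

theorem nontrivial_of_irred
    (hI : ∀ A : Subgroup H, A.Normal → IsCyclic A → ∃ W : Submodule (ZMod p) V,
      W ≠ ⊥ ∧ W ≠ ⊤ ∧ ∀ a ∈ A, ∀ v ∈ W, ((a : H) : V ≃ₗ[ZMod p] V) v ∈ W) : Nontrivial V := by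
  obtain ⟨W, hW, -⟩ := hI ⊥ inferInstance inferInstance
  obtain ⟨v, -, hv⟩ := (Submodule.ne_bot_iff W).mp hW
  exact nontrivial_of_ne v 0 hv

/-- `|A|` divides `|W| - 1` for an invariant subspace `W`. -/
theorem card_dvd (hreg : Reg H) (A : Subgroup H) (W : Submodule (ZMod p) V)
    (hW : ∀ a ∈ A, ∀ v ∈ W, ((a : H) : V ≃ₗ[ZMod p] V) v ∈ W) :
    Nat.card A ∣ Nat.card W - 1 := by
  classical
  letI : MulAction A {w : W // w ≠ 0} :=
    { smul := fun a w => ⟨⟨((a : H) : V ≃ₗ[ZMod p] V) w.1.1, hW a a.2 _ w.1.2⟩, fun e => w.2 (Subtype.ext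
        ((LinearEquiv.map_eq_zero_iff _).mp (congrArg Subtype.val e)))⟩
      one_smul := fun w => rfl
      mul_smul := fun a b w => rfl }
  have hfree : ∀ w : {w : W // w ≠ 0}, MulAction.stabilizer A w = ⊥ := fun w =>
    (Subgroup.eq_bot_iff_forall _).mpr fun a ha => Subtype.ext (eq_one_of_fix hreg
      (fun e => w.2 (Subtype.ext e)) (congrArg (fun w : {w : W // w ≠ 0} => (w.1 : V)) ha))
  have hcard : Nat.card {w : W // w ≠ 0} = Nat.card W - 1 := by
    haveI : Fintype W := Fintype.ofFinite W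
    rw [Nat.card_eq_fintype_card, Fintype.card_subtype_compl, Fintype.card_subtype_eq,
      Nat.card_eq_fintype_card]
  rw [← hcard]
  haveI := finite_group (p := p) (V := V)
  haveI : Fintype (MulAction.orbitRel.Quotient A {w : W // w ≠ 0}) := Fintype.ofFinite _
  rw [Nat.card_congr (MulAction.selfEquivSigmaOrbits A {w : W // w ≠ 0}), Nat.card_sigma]
  refine Finset.dvd_sum fun q _ => dvd_of_eq ?_
  rw [Nat.card_congr (MulAction.orbitEquivQuotientStabilizer A q.out), hfree, ← Subgroup.index_eq_card,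
    Subgroup.index_bot]

theorem card_group [Nontrivial V] (hreg : Reg H) : Nat.card H = Nat.card V - 1 := by
  classical
  obtain ⟨v, hv⟩ := exists_ne (0 : V)
  have e : H ≃ {w : V // w ≠ 0} := Equiv.ofBijective
    (fun h => ⟨(h : V ≃ₗ[ZMod p] V) v, fun e => hv ((LinearEquiv.map_eq_zero_iff _).mp e)⟩)
    ⟨fun h k e => (hreg v _ hv (fun e' => hv ((LinearEquiv.map_eq_zero_iff _).mp e'))).unique
      rfl (congrArg Subtype.val e).symm,
    fun ⟨w, hw⟩ => by
      obtain ⟨h, hh, -⟩ := hreg v w hv hw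
      exact ⟨h, Subtype.ext hh⟩⟩
  haveI : Fintype V := Fintype.ofFinite V
  rw [Nat.card_congr e, Nat.card_eq_fintype_card, Fintype.card_subtype_compl,
    Fintype.card_subtype_eq, Nat.card_eq_fintype_card]

/-- A minimal non-zero invariant subspace. -/
theorem exists_minimal (A : Subgroup H) {W₀ : Submodule (ZMod p) V} (h0 : W₀ ≠ ⊥)
    (hinv : ∀ a ∈ A, ∀ v ∈ W₀, ((a : H) : V ≃ₗ[ZMod p] V) v ∈ W₀) :
    ∃ W : Submodule (ZMod p) V, W ≠ ⊥ ∧ W ≤ W₀ ∧
      (∀ a ∈ A, ∀ v ∈ W, ((a : H) : V ≃ₗ[ZMod p] V) v ∈ W) ∧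
      ∀ W' : Submodule (ZMod p) V, W' ≤ W →
        (∀ a ∈ A, ∀ v ∈ W', ((a : H) : V ≃ₗ[ZMod p] V) v ∈ W') → W' = ⊥ ∨ W' = W := by
  obtain ⟨W, ⟨h1, h2, h3⟩, hmin⟩ := (Set.toFinite {W : Submodule (ZMod p) V | W ≠ ⊥ ∧ W ≤ W₀ ∧
    ∀ a ∈ A, ∀ v ∈ W, ((a : H) : V ≃ₗ[ZMod p] V) v ∈ W}).exists_minimal ⟨W₀, h0, le_rfl, hinv⟩
  refine ⟨W, h1, h2, h3, fun W' hle hW' => ?_⟩
  rcases eq_or_ne W' ⊥ with h | h
  · exact Or.inl h
  · exact Or.inr (le_antisymm hle (hmin ⟨h, hle.trans h2, hW'⟩ hle))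

end Cfsg.Agent.Lib.LinearFPF
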