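import Mathlib
import Cfsg.Agent.Lib.Chars.Completeness
import Cfsg.Agent.Lib.Chars.Ops

/-! Traces of invariant idempotent matrices on a transitive permutation module. -/

set_option autoImplicit false

namespace Cfsg.Agent.Lib.Perm.RankThreeChar

open MulAction Cfsg
open scoped ComplexConjugate

universe u v

variable {G : Type u} [Group G] [Fintype G] {Ω : Type v} [Fintype Ω] [DecidableEq Ω] [MulAction G Ω]

/-- The permutation representation on functions. -/
noncomputable def funRep : Representation ℂ G (Ω → ℂ) where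
  toFun g := LinearMap.funLeft ℂ ℂ (fun x : Ω => g⁻¹ • x)
  map_one' := by ext f x; simp [LinearMap.funLeft_apply]
  map_mul' g h := by ext f x; simp [LinearMap.funLeft_apply, mul_smul]

theorem funRep_apply (g : G) (f : Ω → ℂ) (x : Ω) : funRep g f x = f (g⁻¹ • x) := rfl

theorem char_funRep (g : G) :
    (funRep (Ω := Ω) : Representation ℂ G (Ω → ℂ)).character g = (Nat.card (fixedBy Ω g) : ℂ) := by
  show LinearMap.trace ℂ (Ω → ℂ) (funRep g) = _
  rw [LinearMap.trace_eq_matrix_trace ℂ (Pi.basisFun ℂ Ω), Matrix.trace]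
  have hdiag : ∀ x : Ω, (LinearMap.toMatrix (Pi.basisFun ℂ Ω) (Pi.basisFun ℂ Ω)
      (funRep g)).diag x = if g • x = x then 1 else 0 := by
    intro x
    rw [Matrix.diag, LinearMap.toMatrix_apply, Pi.basisFun_apply, Pi.basisFun_repr, funRep_apply,
      Pi.single_apply]
    simp only [inv_smul_eq_iff, eq_comm (a := x)]
  rw [Finset.sum_congr rfl fun x _ => hdiag x, Finset.sum_boole, ← Nat.card_eq_finsetCard]
  exact congrArg _ (Nat.card_congr (Equiv.subtypeEquivRight fun x => by simp))

/-- The trace of an invariant idempotent matrix killing the constants is a partial sum of the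
degrees of the constituents of the permutation character. -/
theorem trace_mem [IsPretransitive G Ω] [Nonempty Ω] (E : Matrix Ω Ω ℂ)
    (hinv : ∀ (g : G) x y, E (g • x) (g • y) = E x y) (hE : E * E = E) (hrow : ∀ x, ∑ y, E x y = 0)
    (χ₁ χ₂ : IrrCharacter G) (hne : χ₁ ≠ χ₂)
    (hπ : ∀ g : G, (Nat.card (fixedBy Ω g) : ℂ) = 1 + (χ₁ : G → ℂ) g + (χ₂ : G → ℂ) g) :
    ∃ a b : ℕ, a ≤ 1 ∧ b ≤ 1 ∧ E.trace = a * (χ₁ : G → ℂ) 1 + b * (χ₂ : G → ℂ) 1 := by
  classical
  let ρ : Representation ℂ G (Ω → ℂ) := funRep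
  let L : (Ω → ℂ) →ₗ[ℂ] (Ω → ℂ) := Matrix.toLin' E
  have hL : ∀ f x, L f x = ∑ y, E x y * f y := fun f x => rfl
  have hcomm : ∀ g f, L (ρ g f) = ρ g (L f) := by
    intro g f
    ext x
    rw [hL, funRep_apply, hL]
    refine (Fintype.sum_equiv (MulAction.toPerm g) _ _ fun y => ?_).symm
    show E (g⁻¹ • x) y * f y = E x (g • y) * f (g⁻¹ • g • y)
    rw [inv_smul_smul, ← hinv g (g⁻¹ • x) y, smul_inv_smul]
  have hLL : ∀ f, L (L f) = L f := fun f => by
    show Matrix.toLin' E (Matrix.toLin' E f) = Matrix.toLin' E f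
    rw [← LinearMap.comp_apply, ← Matrix.toLin'_mul, hE]
  let W : Subrepresentation ρ := ⟨LinearMap.range L, fun g v ⟨f, hf⟩ => ⟨ρ g f, by rw [hcomm, hf]⟩⟩
  let K : Subrepresentation ρ := ⟨LinearMap.ker L, fun g v hv => by
    rw [LinearMap.mem_ker] at hv ⊢
    rw [hcomm, hv, map_zero]⟩
  have hP : LinearMap.IsProj (LinearMap.range L) L := ⟨fun x => ⟨x, rfl⟩, fun x ⟨f, hf⟩ => by rw [← hf, hLL]⟩
  have hWK : IsCompl W K := by
    have h := hP.isCompl
    exact ⟨disjoint_iff.mpr (Subrepresentation.toSubmodule_injective (disjoint_iff.mp h.1)),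
      codisjoint_iff.mpr (Subrepresentation.toSubmodule_injective (codisjoint_iff.mp h.2))⟩
  have hsum := Chars.char_eq_add_of_isCompl ρ hWK
  have hW1 : E.trace = W.toRepresentation.character 1 := by
    rw [Representation.char_one, ← Matrix.trace_toLin'_eq E]
    exact hP.trace
  -- no invariants
  let one : IrrCharacter G := Chars.linIrr (1 : G →* ℂˣ)
  have hone : classInner W.toRepresentation.character (one : G → ℂ) = 0 := by
    have : Invertible (Nat.card G : ℂ) := invertibleOfNonzero (Nat.cast_ne_zero.mpr Nat.card_pos.ne')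
    have h0 : Representation.invariants W.toRepresentation = ⊥ := by
      rw [Submodule.eq_bot_iff]
      intro v hv
      obtain ⟨x₀⟩ : Nonempty Ω := inferInstance
      have hval : ∀ x, (v : Ω → ℂ) x = (v : Ω → ℂ) x₀ := by
        intro x
        obtain ⟨g, rfl⟩ := exists_smul_eq G x₀ x
        have := congrFun (congrArg Subtype.val (hv g)) (g • x₀)
        change (v : Ω → ℂ) (g⁻¹ • g • x₀) = (v : Ω → ℂ) (g • x₀) at this
        rw [inv_smul_smul] at this
        exact this.symm
      refine Subtype.ext ?_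
      have hfix : L v = v := hP.map_id v v.2
      ext x
      rw [← hfix, hL, Finset.sum_congr rfl fun y _ => by rw [hval y], ← Finset.sum_mul, hrow, zero_mul]
      rfl
    have h1 := Representation.card_inv_mul_sum_char_eq_finrank W.toRepresentation
    rw [h0, finrank_bot, Nat.cast_zero] at h1
    show (Nat.card G : ℂ)⁻¹ * _ = 0
    refine Eq.trans ?_ h1
    congr 1
    exact Finset.sum_congr rfl fun g _ => by simp [one, Chars.linIrr]
  obtain ⟨mW, hmW⟩ := Chars.exists_nat_decomp_rep (G := G) _ W.toRepresentation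
  obtain ⟨mK, hmK⟩ := Chars.exists_nat_decomp_rep (G := G) _ K.toRepresentation
  have hcoef : ∀ ψ : IrrCharacter G, (mW ψ : ℂ) + mK ψ =
      (if one = ψ then 1 else 0) + (if χ₁ = ψ then 1 else 0) + if χ₂ = ψ then 1 else 0 := by
    intro ψ
    have h := congrArg (fun F => classInner F (ψ : G → ℂ)) hsum
    rw [Chars.classInner_add_left, hmW, hmK, Chars.classInner_sum_smul_irr, Chars.classInner_sum_smul_irr,
      show ρ.character = (one : G → ℂ) + (χ₁ : G → ℂ) + (χ₂ : G → ℂ) from funext fun g => by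
        rw [char_funRep, hπ]; simp [one, Chars.linIrr],
      Chars.classInner_add_left, Chars.classInner_add_left, Chars.classInner_irr, Chars.classInner_irr,
      Chars.classInner_irr] at h
    exact h.symm
  have hcoef' : ∀ ψ : IrrCharacter G, mW ψ + mK ψ =
      (if one = ψ then 1 else 0) + (if χ₁ = ψ then 1 else 0) + if χ₂ = ψ then 1 else 0 := fun ψ => by
    apply Nat.cast_injective (R := ℂ)
    push_cast
    exact hcoef ψ
  have hone' : mW one = 0 := by
    rw [hmW, Chars.classInner_sum_smul_irr, Nat.cast_eq_zero] at hone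
    exact hone
  have hle : ∀ ψ, mW ψ ≤ (if χ₁ = ψ then 1 else 0) + if χ₂ = ψ then 1 else 0 := by
    intro ψ
    rcases eq_or_ne one ψ with rfl | h
    · rw [hone']; exact Nat.zero_le _
    · have := hcoef' ψ
      rw [if_neg h] at this
      omega
  refine ⟨mW χ₁, mW χ₂, ?_, ?_, ?_⟩
  · have := hle χ₁
    rwa [if_pos rfl, if_neg hne.symm, add_zero] at this
  · have := hle χ₂
    rwa [if_pos rfl, if_neg hne, zero_add] at this
  · rw [hW1, hmW, Finset.sum_apply]
    simp only [Pi.smul_apply, smul_eq_mul]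
    refine Finset.sum_eq_add χ₁ χ₂ hne (fun ψ _ hψ => ?_) (fun h => absurd (Finset.mem_univ _) h)
      (fun h => absurd (Finset.mem_univ _) h)
    have := hle ψ
    rw [if_neg hψ.1.symm, if_neg hψ.2.symm] at this
    rw [Nat.le_zero.mp (by omega : mW ψ ≤ 0), Nat.cast_zero, zero_mul]

end Cfsg.Agent.Lib.Perm.RankThreeChar
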