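import Mathlib
import Cfsg.Prelude.Def_Perm
import Cfsg.Agent.Lib.Perm.AffineCoords
import Cfsg.Agent.Lib.Perm.LinearField
import Cfsg.Agent.Lib.Perm.RegularNormal

/-! A two-transitive group with a regular normal 2-group and a cyclic kernel of prime order is
semi-affine over the field with `2 ^ q` elements. -/

set_option autoImplicit false

namespace Cfsg.Agent.Lib.Perm.SemiAffine

open MulAction
open Cfsg.Agent.Lib.Perm.Zassenhaus Cfsg.Agent.Lib.Perm.AffineCoords

variable {α : Type*} [Fintype α] [DecidableEq α]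

theorem semiaffine_of_regular_normal {p q : ℕ} [Fact q.Prime] (hpq : p + 1 = 2 ^ q)
    (hα : Fintype.card α = p + 1) (G : Subgroup (Equiv.Perm α)) (h3 : FixAtMostTwo G α)
    {x y : α} (hyx : y ≠ x) {P : Subgroup G} (hP : IsKernel P x)
    (N : Subgroup G) [N.Normal] [IsPretransitive N α] (hN : stabilizer N x = ⊥)
    (hcomm : IsMulCommutative N) :
    Nat.card ↥(stabilizer G x ⊓ stabilizer G y) ∣ q ∧
      ∃ e : α ≃ GaloisField 2 q, ∀ g : G,
        (e.symm.trans (((g : Equiv.Perm α)).trans e)) ∈ Cfsg.semiaffineGroup (GaloisField 2 q) := by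
  classical
  let : CommGroup N := { (inferInstance : Group N) with mul_comm := fun a b => hcomm.is_comm.comm a b }
  let π : Additive N → α := fun v => ((Additive.toMul v : N) : G) • x
  have hπbij : Function.Bijective π := by
    refine ⟨fun a b h => Additive.toMul.injective (Subtype.ext
      (eq_of_smul_eq_of_regular N hN (Additive.toMul a).2 (Additive.toMul b).2 h)), fun z => ?_⟩
    obtain ⟨n, hn⟩ := exists_smul_eq N x z
    exact ⟨Additive.ofMul n, hn⟩
  have hπ0 : π 0 = x := one_smul G x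
  let act : stabilizer G x → Additive N →+ Additive N := fun g =>
    { toFun := fun v => Additive.ofMul (MulAut.conjNormal (g : G) (Additive.toMul v))
      map_zero' := congrArg Additive.ofMul (map_one (MulAut.conjNormal (g : G)))
      map_add' := fun v w => congrArg Additive.ofMul
        (map_mul (MulAut.conjNormal (g : G)) (Additive.toMul v) (Additive.toMul w)) }
  have hact : ∀ g v, π (act g v) = (g : G) • π v := by
    intro g v
    show ((MulAut.conjNormal (g : G) (Additive.toMul v) : N) : G) • x = (g : G) • _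
    rw [MulAut.conjNormal_apply, mul_smul, mul_smul, inv_smul_eq_iff.mpr (mem_stabilizer_iff.mp g.2).symm]
  -- the kernel
  let ρ : P → Additive N →+ Additive N := fun u => act ⟨(u : G), hP.le u.2⟩
  have hρ : ∀ u v, π (ρ u v) = (u : G) • π v := fun u v => hact _ v
  obtain ⟨v₀, hv₀⟩ := hπbij.2 y
  have hv₀0 : v₀ ≠ 0 := by
    rintro rfl
    exact hyx (hv₀.symm.trans hπ0)
  have htrans : ∀ v w : Additive N, v ≠ 0 → w ≠ 0 → ∃ u, ρ u v = w := by
    intro v w hv hw
    obtain ⟨u, hu⟩ := (hP.regular (π v) (π w) (fun e => hv (hπbij.1 (e.trans hπ0.symm)))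
      (fun e => hw (hπbij.1 (e.trans hπ0.symm)))).exists
    exact ⟨u, hπbij.1 ((hρ u v).trans hu)⟩
  obtain ⟨K, iK, iF, e, he1, hmul⟩ := LinearField.exists_field ρ (fun a b v => hπbij.1 (by
      rw [hρ, hρ, hρ, hρ, ← mul_smul, hP.comm _ a.2 _ b.2, mul_smul]))
    (fun W hW => by
      by_cases hbot : W = ⊥
      · exact Or.inl hbot
      right
      obtain ⟨w, hw, hw0⟩ := W.bot_or_exists_ne_zero.resolve_left hbot
      refine (AddSubgroup.eq_top_iff' W).mpr fun z => ?_
      rcases eq_or_ne z 0 with rfl | hz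
      · exact W.zero_mem
      · obtain ⟨u, hu⟩ := htrans w z hw0 hz
        exact hu ▸ hW u w hw) v₀ hv₀0
  let η : K ≃ α := e.toEquiv.trans (Equiv.ofBijective π hπbij)
  have hη : ∀ k, η k = π (e k) := fun _ => rfl
  have hη0 : η 0 = x := by rw [hη, map_zero, hπ0]
  have hη1 : η 1 = y := by rw [hη, he1, hv₀]
  have hKcard : Fintype.card K = 2 ^ q := by rw [Fintype.card_congr η, hα, hpq]
  have hchar : CharP K 2 := by
    obtain ⟨c, hc⟩ := CharP.exists K
    obtain ⟨k, hcp, hck⟩ := FiniteField.card K c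
    have : c ∣ 2 ^ q := hKcard ▸ hck ▸ dvd_pow_self c k.ne_zero
    rwa [(Nat.prime_dvd_prime_iff_eq hcp Nat.prime_two).mp (hcp.dvd_of_dvd_pow this)] at hc
  have hPmul : ∀ u : P, ∃ a : K, a ≠ 0 ∧ ∀ k, (u : G) • η k = η (a * k) := by
    intro u
    obtain ⟨a, ha⟩ := hmul u
    have hall : ∀ k, (u : G) • η k = η (a * k) := fun k => by rw [hη, ← hρ, ha, hη]
    refine ⟨a, fun h0 => hyx ?_, hall⟩
    have h1 := hall 1
    rw [h0, zero_mul, hη0, hη1] at h1
    exact smul_left_cancel (u : G) (h1.trans (mem_stabilizer_iff.mp (hP.le u.2)).symm)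
  have hPall : ∀ a : K, a ≠ 0 → ∃ u : P, ∀ k, (u : G) • η k = η (a * k) := by
    intro a ha
    obtain ⟨u, hu⟩ := (hP.regular y (η a) hyx (fun h => ha (η.injective (h.trans hη0.symm)))).exists
    obtain ⟨b, -, hb⟩ := hPmul u
    have : a = b := η.injective (by rw [← hu, ← hη1, hb, mul_one])
    exact ⟨u, this ▸ hb⟩
  -- the two-point stabiliser acts by field automorphisms
  have hH : ∀ h : ↥(stabilizer G x ⊓ stabilizer G y), ∃ σ : K ≃+* K, ∀ k, (h : G) • η k = η (σ k) := by
    intro h
    obtain ⟨hx, hy⟩ := Subgroup.mem_inf.mp h.2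
    let σ : K → K := fun k => η.symm ((h : G) • η k)
    have hσ : ∀ k, (h : G) • η k = η (σ k) := fun k => (η.apply_symm_apply _).symm
    have hadd : ∀ a b, σ (a + b) = σ a + σ b := by
      intro a b
      have e1 : ∀ k, σ k = e.symm (act ⟨(h : G), hx⟩ (e k)) := fun k => η.injective (by
        rw [← hσ, hη, ← hact ⟨(h : G), hx⟩, hη, AddEquiv.apply_symm_apply])
      simp only [e1, map_add]
    have hs1 : σ 1 = 1 := η.injective (by rw [← hσ, hη1, mem_stabilizer_iff.mp hy])
    have hs0 : σ 0 = 0 := η.injective (by rw [← hσ, hη0, mem_stabilizer_iff.mp hx])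
    have hsmul : ∀ a b, σ (a * b) = σ a * σ b := by
      intro a b
      rcases eq_or_ne a 0 with rfl | ha
      · rw [zero_mul, hs0, zero_mul]
      obtain ⟨u, hu⟩ := hPall a ha
      have hc := hP.conj_mem _ hx _ u.2
      obtain ⟨c, -, hc'⟩ := hPmul ⟨_, hc⟩
      have key : ∀ k, σ (a * k) = c * σ k := fun k => η.injective (by
        rw [← hσ, ← hu, ← hc', ← hσ]
        show _ = ((h : G) * u * (h : G)⁻¹) • (h : G) • η k
        rw [mul_smul, mul_smul, inv_smul_smul])
      have h1 := key 1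
      rw [mul_one, hs1, mul_one] at h1
      rw [key b, h1]
    have hinj : Function.Injective σ := fun a b hab => η.injective (smul_left_cancel (h : G) (by rw [hσ, hσ, hab]))
    let f : K →+* K :=
      { toFun := σ
        map_one' := hs1
        map_mul' := hsmul
        map_zero' := hs0
        map_add' := hadd }
    exact ⟨RingEquiv.ofBijective f ⟨hinj, Finite.surjective_of_injective hinj⟩, hσ⟩
  choose σ hσ using hH
  let : Algebra (ZMod 2) K := ZMod.algebra K 2
  let toGal : ↥(stabilizer G x ⊓ stabilizer G y) → (K ≃ₐ[ZMod 2] K) := fun h =>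
    AlgEquiv.ofRingEquiv (f := σ h) fun c => RingHom.congr_fun
      (RingHom.ext_zmod ((σ h).toRingHom.comp (algebraMap (ZMod 2) K)) (algebraMap (ZMod 2) K)) c
  have htoGal : ∀ h k, toGal h k = σ h k := fun _ _ => rfl
  let Φ : ↥(stabilizer G x ⊓ stabilizer G y) →* (K ≃ₐ[ZMod 2] K) :=
    MonoidHom.mk' toGal fun g h => AlgEquiv.ext fun k => η.injective (by
      rw [AlgEquiv.mul_apply, htoGal, htoGal, htoGal, ← hσ, ← hσ, ← hσ, Subgroup.coe_mul, mul_smul])
  have hΦ : Function.Injective Φ := by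
    intro g h hgh
    refine Subtype.ext (Subtype.ext (Equiv.ext fun z => ?_))
    obtain ⟨k, rfl⟩ := η.surjective z
    show (g : G) • η k = (h : G) • η k
    rw [hσ, hσ, ← htoGal, ← htoGal]
    exact congrArg η (DFunLike.congr_fun hgh k)
  refine ⟨?_, ?_⟩
  · refine (Subgroup.card_dvd_of_injective Φ hΦ).trans (dvd_of_eq ?_)
    rw [IsGalois.card_aut_eq_finrank]
    have := Module.card_eq_pow_finrank (K := ZMod 2) (V := K)
    rw [ZMod.card, hKcard] at this
    exact (Nat.pow_right_injective le_rfl this).symm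
  let : Fintype (GaloisField 2 q) := Fintype.ofFinite _
  have hGF : Fintype.card K = Fintype.card (GaloisField 2 q) := by
    rw [hKcard, ← Nat.card_eq_fintype_card, GaloisField.card 2 q (Fact.out : q.Prime).ne_zero]
  let r : K ≃+* GaloisField 2 q := FiniteField.ringEquivOfCardEq hGF
  refine ⟨η.symm.trans r.toEquiv, fun g => ?_⟩
  obtain ⟨n, hn⟩ := exists_smul_eq N x ((g : G) • x)
  have hg' : ((n : G)⁻¹ * g) ∈ stabilizer G x := by
    rw [mem_stabilizer_iff, mul_smul, inv_smul_eq_iff]; exact hn.symm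
  have hz : ((n : G)⁻¹ * g) • y ≠ x := fun h => hyx (smul_left_cancel _ (h.trans hg'.symm))
  obtain ⟨u, hu⟩ := (hP.regular y _ hyx hz).exists
  have hh : (u : G)⁻¹ * ((n : G)⁻¹ * g) ∈ stabilizer G x ⊓ stabilizer G y := by
    refine Subgroup.mem_inf.mpr ⟨mul_mem (inv_mem (hP.le u.2)) hg', ?_⟩
    rw [mem_stabilizer_iff, mul_smul, inv_smul_eq_iff, hu]
  obtain ⟨a, ha0, ha⟩ := hPmul u
  let b : K := e.symm (Additive.ofMul n)
  have hb : ∀ k, (n : G) • η k = η (k + b) := by
    intro k
    rw [hη, hη, map_add, AddEquiv.apply_symm_apply, add_comm]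
    show (n : G) • (((Additive.toMul (e k) : N) : G) • x) = _
    rw [← mul_smul]; rfl
  have hg : ∀ k, g • η k = η (a * σ ⟨_, hh⟩ k + b) := by
    intro k
    rw [← hb, ← ha, ← hσ]
    show _ = (n : G) • (u : G) • ((u : G)⁻¹ * ((n : G)⁻¹ * g)) • η k
    rw [← mul_smul, ← mul_smul]
    congr 1
    group
  refine ⟨Units.mk0 (r a) (by simpa using ha0), r b, (r.symm.trans (σ ⟨_, hh⟩)).trans r, fun z => ?_⟩
  show r (η.symm (g • η (r.symm z))) = r a * r (σ ⟨_, hh⟩ (r.symm z)) + r b
  rw [hg, η.symm_apply_apply, map_add, map_mul]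

end Cfsg.Agent.Lib.Perm.SemiAffine
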