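import Cfsg.Agent.Lib.Perm.RegularNormal
import Cfsg.Agent.Lib.SimpleCrit.SelfCentral

/-!
Sharply 4-transitive groups of degree 11 and sharply 5-transitive groups of degree 12 are simple.
-/

set_option autoImplicit false

namespace Cfsg.Agent.Lib.Perm

open MulAction

variable {G : Type*} [Group G] {X : Type*} [MulAction G X]

/-- An element fixing the points of a tuple with trivial stabiliser is trivial. -/
theorem eq_one_of_fixes {k : ℕ} (hs : ∀ x : Fin k ↪ X, stabilizer G x = ⊥) {x : Fin k → X}
    (hx : Function.Injective x) {g : G} (hg : ∀ i, g • x i = x i) : g = 1 := by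
  have : g ∈ stabilizer G (⟨x, hx⟩ : Fin k ↪ X) := DFunLike.ext _ _ hg
  rwa [hs, Subgroup.mem_bot] at this

theorem card_of_sharp [Finite X] {k : ℕ} (h : IsMultiplyPretransitive G X k)
    (hs : ∀ x : Fin k ↪ X, stabilizer G x = ⊥) (hk : k ≤ Nat.card X) :
    Nat.card G = (Nat.card X).descFactorial k := by
  classical
  haveI := Fintype.ofFinite X
  obtain ⟨x0⟩ : Nonempty (Fin k ↪ X) := Function.Embedding.nonempty_of_card_le (by
    rw [Fintype.card_fin, ← Nat.card_eq_fintype_card]; exact hk)
  have hbij : Function.Bijective fun g : G => g • x0 := by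
    refine ⟨fun g g' e => ?_, fun y => h.exists_smul_eq x0 y⟩
    have : g'⁻¹ * g ∈ stabilizer G x0 := by
      show (g'⁻¹ * g) • x0 = x0
      rw [mul_smul, show g • x0 = g' • x0 from e, inv_smul_smul]
    rw [hs, Subgroup.mem_bot, inv_mul_eq_one] at this
    exact this.symm
  rw [Nat.card_eq_of_bijective _ hbij, Nat.card_eq_fintype_card, Fintype.card_embedding_eq,
    Fintype.card_fin, ← Nat.card_eq_fintype_card]

section Eleven

variable [Finite G] [Finite X] [FaithfulSMul G X]

omit [Finite G] in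
/-- An element of order 11 is transitive on 11 points. -/
theorem isPretransitive_zpowers_eleven (hX : Nat.card X = 11) {x : G} (hx : orderOf x = 11) :
    IsPretransitive (Subgroup.zpowers x) X := by
  obtain ⟨a, ha⟩ : ∃ a : X, x • a ≠ a := by
    by_contra! h
    rw [FaithfulSMul.eq_of_smul_eq_smul (α := X) (m₁ := x) (m₂ := 1)
      fun a => by rw [h a, one_smul], orderOf_one] at hx
    norm_num at hx
  haveI : Finite (Subgroup.zpowers x) := Nat.finite_of_card_ne_zero (by
    rw [Nat.card_zpowers, hx]; norm_num)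
  have horb : (orbit (Subgroup.zpowers x) a).ncard ∣ 11 := by
    rw [← hx, ← Nat.card_zpowers, ← index_stabilizer]
    exact Subgroup.index_dvd_card _
  have hne : (orbit (Subgroup.zpowers x) a).ncard ≠ 1 := by
    intro h1
    obtain ⟨b, hb⟩ := Set.ncard_eq_one.1 h1
    have h2 : x • a ∈ orbit (Subgroup.zpowers x) a :=
      ⟨⟨x, Subgroup.mem_zpowers x⟩, rfl⟩
    have h3 : a ∈ orbit (Subgroup.zpowers x) a := mem_orbit_self a
    rw [hb, Set.mem_singleton_iff] at h2 h3
    exact ha (h2.trans h3.symm)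
  have h11 : (orbit (Subgroup.zpowers x) a).ncard = 11 :=
    ((Nat.dvd_prime (by norm_num)).1 horb).resolve_left hne
  have huniv : orbit (Subgroup.zpowers x) a = Set.univ :=
    (Set.eq_univ_iff_ncard _).2 (by rw [h11, hX])
  refine ⟨fun u v => ?_⟩
  obtain ⟨g, hg⟩ := mem_orbit_iff.1 (show u ∈ orbit (Subgroup.zpowers x) a by rw [huniv]; trivial)
  obtain ⟨g', hg'⟩ := mem_orbit_iff.1 (show v ∈ orbit (Subgroup.zpowers x) a by rw [huniv]; trivial)
  exact ⟨g' * g⁻¹, by rw [mul_smul, ← hg, inv_smul_smul, hg']⟩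

variable (hX : Nat.card X = 11) (h4 : IsMultiplyPretransitive G X 4)
  (hs : ∀ x : Fin 4 ↪ X, stabilizer G x = ⊥)

include hX h4 hs in
theorem card_of_sharp_four : Nat.card G = 7920 := by
  rw [card_of_sharp h4 hs (by omega), hX]; rfl

include hX h4 hs in
/-- The normaliser of a subgroup of order 11. -/
theorem card_normalizer_eleven {x : G} (hx : orderOf x = 11) :
    Nat.card (Subgroup.normalizer (Subgroup.zpowers x : Set G)) = 55 := by
  classical
  haveI : Fact (Nat.Prime 11) := ⟨by norm_num⟩
  have hG := card_of_sharp_four hX h4 hs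
  haveI := isPretransitive_zpowers_eleven (X := X) hX hx
  obtain ⟨a⟩ : Nonempty X := (Nat.card_pos_iff.1 (by rw [hX]; norm_num)).1
  set P := Subgroup.zpowers x with hPdef
  set N := Subgroup.normalizer (P : Set G) with hN
  have hP : Nat.card P = 11 := by rw [Nat.card_zpowers, hx]
  have hPN : P ≤ N := Subgroup.le_normalizer
  let f : N → X × {y : P // y ≠ 1} := fun n =>
    (n.1 • a, ⟨⟨n.1 * x * n.1⁻¹, (Subgroup.mem_normalizer_iff.1 n.2 x).1 (Subgroup.mem_zpowers x)⟩,
      fun e => by
        have e' : n.1 * x * n.1⁻¹ = 1 := congrArg Subtype.val e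
        rw [mul_inv_eq_one, mul_eq_left] at e'
        rw [e', orderOf_one] at hx
        norm_num at hx⟩)
  have hf : Function.Injective f := by
    intro m n e
    have e1 : m.1 • a = n.1 • a := congrArg Prod.fst e
    have e2 : m.1 * x * m.1⁻¹ = n.1 * x * n.1⁻¹ :=
      congrArg (fun q => (q.2.1 : G)) e
    refine Subtype.ext (inv_mul_eq_one.1 (eq_one_of_commute_transitive P (a := a) ?_ ?_)).symm
    · intro z hz
      obtain ⟨j, rfl⟩ := hz
      refine (Commute.zpow_right ?_ j).eq
      show n.1⁻¹ * m.1 * x = x * (n.1⁻¹ * m.1)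
      calc n.1⁻¹ * m.1 * x = n.1⁻¹ * (m.1 * x * m.1⁻¹) * m.1 := by group
        _ = n.1⁻¹ * (n.1 * x * n.1⁻¹) * m.1 := by rw [e2]
        _ = x * (n.1⁻¹ * m.1) := by group
    · rw [mul_smul, e1, inv_smul_smul]
  have hle : Nat.card N ≤ 110 := by
    haveI := Fintype.ofFinite P
    refine (Nat.card_le_card_of_injective f hf).trans (le_of_eq ?_)
    rw [Nat.card_prod, hX, Nat.card_eq_fintype_card, Fintype.card_subtype_compl,
      Fintype.card_subtype_eq, ← Nat.card_eq_fintype_card, hP]
  obtain ⟨d, hd⟩ : 11 ∣ Nat.card N := hP ▸ Subgroup.card_dvd_of_le hPN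
  have hfac : (Nat.card G).factorization 11 = 1 :=
    SimpleCrit.factorization_eq_one (by norm_num) (by rw [hG]; norm_num) (by rw [hG]; norm_num)
      (by rw [hG]; norm_num)
  let S : Sylow 11 G := Sylow.ofCard P (by rw [hP, hfac, pow_one])
  have h1 := card_sylow_modEq_one 11 G
  rw [Sylow.card_eq_index_normalizer S, show (S : Set G) = (P : Set G) from rfl, ← hN] at h1
  have hmul := N.card_mul_index
  rw [hG, hd] at hmul
  rw [hd] at hle ⊢
  have hd10 : d ≤ 10 := by omega
  rw [Nat.ModEq] at h1
  interval_cases d <;> omega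

include hX h4 hs in
theorem isSimpleGroup_sharp_four : IsSimpleGroup G := by
  classical
  haveI : Fact (Nat.Prime 11) := ⟨by norm_num⟩
  haveI : Fact (Nat.Prime 5) := ⟨by norm_num⟩
  have hG := card_of_sharp_four hX h4 hs
  haveI : Nontrivial G := Finite.one_lt_card_iff_nontrivial.1 (by rw [hG]; norm_num)
  have h2 : IsMultiplyPretransitive G X 2 := isMultiplyPretransitive_of_le (n := 4) (by norm_num) (by rw [hX]; norm_num)
  obtain ⟨a⟩ : Nonempty X := (Nat.card_pos_iff.1 (by rw [hX]; norm_num)).1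
  refine ⟨fun K hKn => ?_⟩
  by_cases hK : K = ⊥
  · exact Or.inl hK
  right
  haveI := hKn
  haveI := normal_isPretransitive_of_two h2 K hK
  have h11 : 11 ∣ Nat.card K := by
    rw [← hX, ← index_stabilizer_of_transitive K a]; exact Subgroup.index_dvd_card _
  obtain ⟨x, hx⟩ := exists_prime_orderOf_dvd_card' (G := G) 11 (by rw [hG]; norm_num)
  have hP : Nat.card (Subgroup.zpowers x) = 11 := by rw [Nat.card_zpowers, hx]
  have hPK := SimpleCrit.le_of_dvd _ hP (by rw [hG]; norm_num) K h11
  have hfac : (Nat.card G).factorization 11 = 1 :=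
    SimpleCrit.factorization_eq_one (by norm_num) (by rw [hG]; norm_num) (by rw [hG]; norm_num)
      (by rw [hG]; norm_num)
  let S : Sylow 11 G := Sylow.ofCard (Subgroup.zpowers x) (by rw [hP, hfac, pow_one])
  have htop := Sylow.normalizer_sup_eq_top' (N := K) S hPK
  have h55 : Nat.card (Subgroup.normalizer (S : Set G)) = 55 :=
    card_normalizer_eleven hX h4 hs hx
  have hdvd : K.index ∣ 55 := by
    rw [← h55, ← Subgroup.relIndex_top_right, ← htop, Subgroup.relIndex_sup_right]
    exact Subgroup.index_dvd_card _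
  have hmul := K.card_mul_index
  rw [hG] at hmul
  obtain ⟨c, hc⟩ := h11
  rw [hc] at hmul
  have hcases : K.index = 1 ∨ K.index = 5 := by
    have hle : K.index ≤ 55 := Nat.le_of_dvd (by norm_num) hdvd
    interval_cases hI : K.index <;> omega
  refine Subgroup.index_eq_one.1 (hcases.resolve_right fun h5 => ?_)
  obtain ⟨y, hy⟩ := exists_prime_orderOf_dvd_card' (G := G) 5 (by rw [hG]; norm_num)
  set Q := Subgroup.zpowers y with hQdef
  have hQ : Nat.card Q = 5 := by rw [Nat.card_zpowers, hy]
  have hKQ : ∀ z ∈ K, z ∈ Q → z = 1 := fun z hzK hzQ => by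
    rw [← orderOf_eq_one_iff]
    refine Nat.eq_one_of_dvd_coprimes (a := Nat.card K) (b := 5) ?_
      (Subgroup.orderOf_dvd_natCard _ hzK) (hQ ▸ Subgroup.orderOf_dvd_natCard _ hzQ)
    have hKc : Nat.card K = 1584 := by rw [hc]; rw [h5] at hmul; omega
    rw [hKc]; norm_num
  haveI : IsCyclic (G ⧸ K) := isCyclic_of_prime_card (p := 5) (by rw [← Subgroup.index_eq_card, h5])
  have hcentral : ∀ g ∈ Subgroup.normalizer (Q : Set G), g * y = y * g := by
    intro g hg
    have hmem : g * y * g⁻¹ * y⁻¹ ∈ Q :=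
      mul_mem ((Subgroup.mem_normalizer_iff.1 hg y).1 (Subgroup.mem_zpowers y))
        (inv_mem (Subgroup.mem_zpowers y))
    have hK' : g * y * g⁻¹ * y⁻¹ ∈ K := by
      rw [← QuotientGroup.eq_one_iff]
      letI := IsCyclic.commGroup (α := G ⧸ K)
      simp only [QuotientGroup.mk_mul, QuotientGroup.mk_inv]
      rw [mul_comm (g : G ⧸ K) (y : G ⧸ K)]
      group
    have := hKQ _ hK' hmem
    rwa [mul_inv_eq_one, mul_inv_eq_iff_eq_mul] at this
  -- the fixed point of `y`
  have hQp : IsPGroup 5 Q := IsPGroup.of_card (n := 1) (by rw [hQ, pow_one])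
  obtain ⟨a', ha'⟩ := hQp.nonempty_fixed_point_of_prime_not_dvd_card X (by rw [hX]; norm_num)
  have hya : y • a' = a' := ha' ⟨y, Subgroup.mem_zpowers y⟩
  have hfix4 : ∀ g : G, g ≠ 1 → ∀ p : Fin 4 → X, Function.Injective p → ∃ i, g • p i ≠ p i := by
    intro g hg p hp
    by_contra! h
    exact hg (eq_one_of_fixes hs hp h)
  have hy1 : y ≠ 1 := fun e => by rw [e, orderOf_one] at hy; norm_num at hy
  -- at most three fixed points, hence exactly one
  have huniq : ∀ z : X, y • z = z → z = a' := by
    intro z hz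
    by_contra hne
    have hmod := hQp.card_modEq_card_fixedPoints (α := X)
    rw [hX] at hmod
    set F := fixedPoints Q X
    have hF : F.ncard ≤ 3 := by
      by_contra! hgt
      haveI := Fintype.ofFinite F
      obtain ⟨p⟩ : Nonempty (Fin 4 ↪ F) := Function.Embedding.nonempty_of_card_le (by
        rw [Fintype.card_fin, ← Nat.card_eq_fintype_card, Nat.card_coe_set_eq]; omega)
      obtain ⟨i, hi⟩ := hfix4 y hy1 (fun i => (p i).1) (Subtype.val_injective.comp p.injective)
      exact hi ((p i).2 ⟨y, Subgroup.mem_zpowers y⟩)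
    have hz' : z ∈ F := fun q => by
      obtain ⟨j, hj⟩ := q.2
      show (q : G) • z = z
      rw [← hj]
      exact Subgroup.zpow_mem (stabilizer G z) hz j
    have h2' : 2 ≤ F.ncard :=
      (Set.ncard_pair hne).symm.le.trans (Set.ncard_le_ncard (by
        rintro w (rfl | rfl)
        · exact hz'
        · exact ha'))
    rw [Nat.card_coe_set_eq, Nat.ModEq] at hmod
    omega
  -- the centraliser of `y`
  obtain ⟨b, hb⟩ : ∃ b : X, y • b ≠ b := by
    by_contra! h
    exact hy1 (FaithfulSMul.eq_of_smul_eq_smul (α := X) fun z => by rw [h z, one_smul])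
  have hb2 : y • y • b ≠ b := by
    intro e
    apply hb
    have h' : (y ^ 2) ^ 3 • b = b :=
      Subgroup.pow_mem (stabilizer G b) (show y ^ 2 ∈ stabilizer G b from by
        show y ^ 2 • b = b; rw [pow_two, mul_smul, e]) 3
    rwa [← pow_mul, show 2 * 3 = 5 + 1 from rfl, pow_succ, ← hy, pow_orderOf_eq_one, one_mul] at h'
  set Cy := Subgroup.normalizer (Q : Set G) with hCy
  have hinj : Function.Injective fun g : Cy => g.1 • b := by
    intro g g' e
    have e' : g.1 • b = g'.1 • b := e
    have hfixa : ∀ g : Cy, g.1 • a' = a' := fun g => huniq _ (by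
      rw [← mul_smul, ← hcentral g.1 g.2, mul_smul, hya])
    set m := g'.1⁻¹ * g.1 with hm
    have hmN : m ∈ Cy := mul_mem (inv_mem g'.2) g.2
    have hmb : m • b = b := by rw [hm, mul_smul, e', inv_smul_smul]
    have hmy : ∀ z : X, m • z = z → m • (y • z) = y • z := fun z hz => by
      rw [← mul_smul, hcentral m hmN, mul_smul, hz]
    refine Subtype.ext (inv_mul_eq_one.1 (eq_one_of_fixes hs (x := ![a', b, y • b, y • y • b]) ?_ ?_)).symm
    · have hne1 : ∀ z : X, y • z ≠ z → a' ≠ z := fun z hz e1 => hz (e1 ▸ hya)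
      have n1 : a' ≠ b := hne1 b hb
      have n2 : a' ≠ y • b := hne1 _ fun e1 => hb (smul_left_cancel y e1)
      have n3 : a' ≠ y • y • b := hne1 _ fun e1 =>
        hb (smul_left_cancel y (smul_left_cancel y e1))
      have n4 : b ≠ y • b := Ne.symm hb
      have n5 : b ≠ y • y • b := Ne.symm hb2
      have n6 : y • b ≠ y • y • b := fun e1 => n4 (smul_left_cancel y e1)
      intro i j hij
      fin_cases i <;> fin_cases j <;> first | rfl | simp [n1, n2, n3, n4, n5, n6, n1.symm, n2.symm, n3.symm, n4.symm, n5.symm, n6.symm] at hij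
    · intro i
      fin_cases i
      · exact hfixa ⟨m, hmN⟩
      · exact hmb
      · exact hmy b hmb
      · exact hmy _ (hmy b hmb)
  have hle : Nat.card Cy ≤ 11 := hX ▸ Nat.card_le_card_of_injective _ hinj
  have h5C : 5 ∣ Nat.card Cy := hQ ▸ Subgroup.card_dvd_of_le Subgroup.le_normalizer
  have hfac5 : (Nat.card G).factorization 5 = 1 :=
    SimpleCrit.factorization_eq_one (by norm_num) (by rw [hG]; norm_num) (by rw [hG]; norm_num)
      (by rw [hG]; norm_num)
  let S5 : Sylow 5 G := Sylow.ofCard Q (by rw [hQ, hfac5, pow_one])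
  have h1 := card_sylow_modEq_one 5 G
  rw [Sylow.card_eq_index_normalizer S5, show (S5 : Set G) = (Q : Set G) from rfl, ← hCy] at h1
  have hmul5 := Cy.card_mul_index
  rw [hG] at hmul5
  obtain ⟨d, hd⟩ := h5C
  rw [hd] at hmul5 hle
  rw [Nat.ModEq] at h1
  have : d ≤ 2 := by omega
  interval_cases d <;> omega

end Eleven

/-- A sharply 5-transitive group of degree 12 is simple. -/
theorem isSimpleGroup_sharp_five [Finite G] [Finite X] [FaithfulSMul G X] (hX : Nat.card X = 12)
    (h5 : IsMultiplyPretransitive G X 5) (hs : ∀ x : Fin 5 ↪ X, stabilizer G x = ⊥) :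
    IsSimpleGroup G := by
  classical
  haveI : Nontrivial G := Finite.one_lt_card_iff_nontrivial.1 (by
    rw [card_of_sharp h5 hs (by omega), hX]; decide)
  have h2 : IsMultiplyPretransitive G X 2 :=
    isMultiplyPretransitive_of_le (n := 5) (by norm_num) (by rw [hX]; norm_num)
  haveI := isPretransitive_of_two h2
  obtain ⟨a⟩ : Nonempty X := (Nat.card_pos_iff.1 (by rw [hX]; norm_num)).1
  haveI : Nontrivial X := Finite.one_lt_card_iff_nontrivial.1 (by omega)
  let Y := SubMulAction.ofStabilizer G a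
  have hY : Nat.card Y = 11 := by
    haveI := Fintype.ofFinite X
    rw [show Nat.card Y = Nat.card {x : X // x ≠ a} from Nat.card_congr (Equiv.refl _),
      Nat.card_eq_fintype_card, Fintype.card_subtype_compl, Fintype.card_subtype_eq,
      ← Nat.card_eq_fintype_card, hX]
  haveI : FaithfulSMul (stabilizer G a) Y := ⟨fun {g g'} e => Subtype.ext
    (FaithfulSMul.eq_of_smul_eq_smul (α := X) fun x => by
      by_cases hx : x = a
      · rw [hx]; exact g.2.trans g'.2.symm
      · exact congrArg Subtype.val (e ⟨x, hx⟩))⟩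
  have h4 : IsMultiplyPretransitive (stabilizer G a) Y 4 :=
    SubMulAction.ofStabilizer.isMultiplyPretransitive.1 h5
  have hsY : ∀ x : Fin 4 ↪ Y, stabilizer (stabilizer G a) x = ⊥ := by
    intro x
    rw [Subgroup.eq_bot_iff_forall]
    intro g hg
    refine Subtype.ext (eq_one_of_fixes hs (x := Fin.cons a fun i => (x i).1) ?_ ?_)
    · refine Fin.cons_injective_iff.2 ⟨fun ⟨i, hi⟩ => ?_, Subtype.val_injective.comp x.injective⟩
      exact (x i).2 hi
    · intro i
      refine Fin.cases ?_ (fun j => ?_) i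
      · exact g.2
      · rw [Fin.cons_succ]
        exact congrArg Subtype.val (DFunLike.congr_fun (show g • x = x from hg) j)
  haveI : IsSimpleGroup (stabilizer G a) := isSimpleGroup_sharp_four hY h4 hsY
  refine ⟨fun K hKn => ?_⟩
  haveI := hKn
  by_cases hK : K = ⊥
  · exact Or.inl hK
  right
  haveI := normal_isPretransitive_of_two h2 K hK
  rcases Subgroup.Normal.eq_bot_or_eq_top (H := K.subgroupOf (stabilizer G a)) inferInstance with
    h | h
  · exfalso
    have ha : stabilizer K a = ⊥ := stabilizer_subgroup_eq_bot_iff.2 fun n hn hna => by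
      have : (⟨n, hna⟩ : stabilizer G a) ∈ K.subgroupOf (stabilizer G a) := hn
      rw [h, Subgroup.mem_bot] at this
      exact congrArg Subtype.val this
    obtain ⟨p, hp, -, -, j, hj, hcard⟩ := regularNormal_elementaryAbelian K h2 ha
    rw [hX] at hcard
    have h2' : 2 ∣ p ^ j := hcard ▸ (by norm_num)
    have h3' : 3 ∣ p ^ j := hcard ▸ (by norm_num)
    have e2 := (Nat.prime_dvd_prime_iff_eq Nat.prime_two hp).1 (Nat.prime_two.dvd_of_dvd_pow h2')
    have e3 := (Nat.prime_dvd_prime_iff_eq Nat.prime_three hp).1 (Nat.prime_three.dvd_of_dvd_pow h3')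
    omega
  · have hle : stabilizer G a ≤ K := Subgroup.subgroupOf_eq_top.1 h
    rw [eq_top_iff]
    intro g _
    obtain ⟨n, hn, hna⟩ := exists_mem_smul_eq K a (g • a)
    have : n⁻¹ * g ∈ K := hle (show (n⁻¹ * g) • a = a by rw [mul_smul, ← hna, inv_smul_smul])
    simpa using mul_mem hn this

end Cfsg.Agent.Lib.Perm
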